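import Cfsg.Agent.Lib.GTwoType.Elem
import Cfsg.Agent.Lib.ZStar.Main
import Cfsg.Agent.S0215
import Cfsg.Prelude.Def_Local

/-!
# Centralisers of root elements of order three

For a root element `a` the centraliser is the product of an odd group `V a` and its intersection with
the centraliser of the involution.
-/

set_option autoImplicit false

namespace Cfsg.Lib.GTwoType

open Subgroup Cfsg

/-- The properties of the whole group that are used. -/
structure Ctx (G : Type*) [Group G] : Prop where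
  one : ∀ s t : G, orderOf s = 2 → orderOf t = 2 → IsConj s t
  nps : ¬ Cfsg.PLengthLE 3 1 G
  top : Cfsg.pResidual 3 G = ⊤

/-- The odd core of the centraliser. -/
def V {G : Type*} [Group G] (r : G) : Subgroup G :=
  (oddCore ↥(centralizer ({r} : Set G))).map (centralizer ({r} : Set G)).subtype

theorem J_gen : ∀ d : S2, d ^ 3 = 1 → d ≠ 1 →
    (d * (Jm * d * Jm⁻¹)) ^ 3 ≠ 1 ∧ (d * (Jm * d * Jm⁻¹)) ^ 3 ≠ ng ∨
      (d * (Jm * d * Jm⁻¹)⁻¹) ^ 3 ≠ 1 ∧ (d * (Jm * d * Jm⁻¹)⁻¹) ^ 3 ≠ ng := by decide +kernel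

section general

variable {G : Type*} [Group G] [Finite G]

/-- An odd group normalised by an involution: an inverted element times a fixed one. -/
theorem split_invol {t : G} (ht : t * t = 1) {K : Subgroup G} (hK : Odd (Nat.card K))
    (hn : ∀ x ∈ K, t * x * t ∈ K) {v : G} (hv : v ∈ K) :
    ∃ s ∈ K, t * s * t = s⁻¹ ∧ t * (s⁻¹ * v) * t = s⁻¹ * v := by
  have hti : t⁻¹ = t := inv_eq_of_mul_eq_one_right ht
  set w := v * (t * v⁻¹ * t) with hw
  have hwK : w ∈ K := mul_mem hv (hn _ (inv_mem hv))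
  obtain ⟨k, hk⟩ := hK
  have hpow : w ^ (2 * k + 1) = 1 := by
    have := pow_card_eq_one' (x := (⟨w, hwK⟩ : K))
    rw [hk] at this
    exact congrArg Subtype.val this
  have hwi : t * w * t = w⁻¹ := by
    rw [hw, mul_inv_rev, mul_inv_rev, mul_inv_rev, inv_inv, hti]
    calc t * (v * (t * v⁻¹ * t)) * t = t * v * t * v⁻¹ * (t * t) := by group
      _ = t * (v * t) * v⁻¹ := by rw [ht]; group
  have hsi : t * w ^ (k + 1) * t = (w ^ (k + 1))⁻¹ := by
    rw [← inv_pow, ← hwi, show t * w * t = t * w * t⁻¹ by rw [hti], conj_pow, hti]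
  refine ⟨w ^ (k + 1), pow_mem hwK _, hsi, ?_⟩
  have h2 : w ^ (k + 1) * w ^ (k + 1) = w := by
    rw [← pow_add, show k + 1 + (k + 1) = 2 * k + 1 + 1 by omega, pow_succ, hpow, one_mul]
  calc t * ((w ^ (k + 1))⁻¹ * v) * t = t * (w ^ (k + 1))⁻¹ * (t * t) * v * t := by rw [ht]; group
    _ = (t * w ^ (k + 1) * t)⁻¹ * (t * v * t) := by rw [mul_inv_rev, mul_inv_rev, hti]; group
    _ = w ^ (k + 1) * (t * v * t) := by rw [hsi, inv_inv]
    _ = (w ^ (k + 1))⁻¹ * (w ^ (k + 1) * w ^ (k + 1)) * (t * v * t) := by group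
    _ = (w ^ (k + 1))⁻¹ * v := by
      have hone : t * v⁻¹ * t * (t * v * t) = 1 := by
        calc t * v⁻¹ * t * (t * v * t) = t * v⁻¹ * (t * t) * v * t := by group
          _ = 1 := by rw [ht, mul_one, inv_mul_cancel_right, ht]
      rw [h2, hw, mul_assoc, mul_assoc v, hone, mul_one]

/-- An involution without fixed points on an odd group inverts it. -/
theorem inverts_of_fpf {t : G} (ht : t * t = 1) {K : Subgroup G} (hK : Odd (Nat.card K))
    (hn : ∀ x ∈ K, t * x * t ∈ K) (hf : ∀ x ∈ K, t * x * t = x → x = 1) {v : G} (hv : v ∈ K) :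
    t * v * t = v⁻¹ := by
  obtain ⟨s, hs, h1, h2⟩ := split_invol ht hK hn hv
  rwa [← inv_mul_eq_one.1 (hf _ (mul_mem (inv_mem hs) hv) h2)]

theorem mem_of_sq {K : Subgroup G} {x : G} (ho : Odd (orderOf x)) (h : x * x ∈ K) : x ∈ K := by
  obtain ⟨k, hk⟩ := ho
  have : x = (x * x) ^ (k + 1) := by
    rw [← pow_two, ← pow_mul, show 2 * (k + 1) = 2 * k + 1 + 1 by omega, ← hk, pow_succ, pow_orderOf_eq_one, one_mul]
  exact this ▸ pow_mem h _

theorem odd_V (r : G) : Odd (Nat.card (V r)) := by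
  rw [V, Nat.card_congr (Subgroup.equivMapOfInjective _ _ (Subgroup.subtype_injective _)).toEquiv.symm]
  exact ZStar.odd_card_oddCore

theorem V_le (r : G) : V r ≤ centralizer ({r} : Set G) := map_subtype_le _

theorem V_comm {r v : G} (hv : v ∈ V r) : Commute v r := mem_centralizer_singleton_iff.1 (V_le r hv)

theorem odd_of_mem_V {r v : G} (hv : v ∈ V r) : Odd (orderOf v) :=
  (odd_V r).of_dvd_nat (Subgroup.orderOf_dvd_natCard _ hv)

theorem V_conj_le (r g : G) : ∀ v ∈ V r, g * v * g⁻¹ ∈ V (g * r * g⁻¹) := by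
  rintro _ ⟨x, hx, rfl⟩
  let e : ↥(centralizer ({r} : Set G)) ≃* ↥(centralizer ({g * r * g⁻¹} : Set G)) :=
    ((MulAut.conj g).subgroupMap _).trans (MulEquiv.subgroupCongr (by
      ext y
      rw [show ((MulAut.conj g : G ≃* G) : G →* G) = (MulAut.conj g).toMonoidHom from rfl, Subgroup.mem_map_equiv, mem_centralizer_singleton_iff, mem_centralizer_singleton_iff,
        MulAut.conj_symm_apply]
      constructor <;> intro h
      · calc y * (g * r * g⁻¹) = g * (g⁻¹ * y * g * r) * g⁻¹ := by group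
          _ = g * r * g⁻¹ * y := by rw [h]; group
      · calc g⁻¹ * y * g * r = g⁻¹ * (y * (g * r * g⁻¹)) * g := by group
          _ = r * (g⁻¹ * y * g) := by rw [h]; group))
  refine ⟨e x, ?_, rfl⟩
  rw [SetLike.mem_coe, oddCore, ← Core.map_pPrimeCore_equiv e]
  exact mem_map_of_mem _ hx

theorem V_inv (r : G) : V r⁻¹ = V r := by
  have h : centralizer ({r⁻¹} : Set G) = centralizer ({r} : Set G) := by
    ext y
    rw [mem_centralizer_singleton_iff, mem_centralizer_singleton_iff]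
    exact ⟨fun h => by simpa using (Commute.inv_right h : Commute y r⁻¹⁻¹).eq, fun h => (Commute.inv_right h).eq⟩
  unfold V
  rw [h]

end general

namespace Ctx

variable {G : Type*} [Group G] [Finite G] (hG : Ctx G) {z τ : G} (m : Mdl z τ)

include hG m in
theorem symm : Nonempty (Mdl τ z) := by
  obtain ⟨g, hg⟩ := isConj_iff.1 (hG.one z τ m.orderOf_z m.orderOf_tau)
  have m' := m.conjM g
  rw [hg] at m'
  have h1 : z ≠ 1 := fun h => by simpa [h] using m.orderOf_z
  obtain ⟨c, hc, hcz⟩ := m'.outer_of m.z_tau.symm m.zz h1 (Ne.symm m.tau_ne)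
    fun k h2 h3 => m.cent_four_invol h3 h2
  have m'' := m'.conjM c
  rw [hcz, show c * τ * c⁻¹ = τ by rw [← hc.eq, mul_inv_cancel_right]] at m''
  exact ⟨m''⟩

end Ctx

namespace Mdl

variable {G : Type*} [Group G] [Finite G] {z τ : G} (m : Mdl z τ)
include m

/-- The root element of the first factor. -/
abbrev a : G := m.i₁ Um

/-- The root element of the second factor. -/
abbrev b : G := m.i₂ Um

theorem a_props : Commute z m.a ∧ m.a ^ 3 = 1 ∧ τ * m.a * τ = m.a⁻¹ := m.EE_props m.a_mem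

theorem b_props : Commute z m.b ∧ m.b ^ 3 = 1 ∧ τ * m.b * τ = m.b⁻¹ := m.EE_props m.b_mem

theorem a_ne : m.a ≠ 1 := fun h => by
  have h' : m.i₁ Um * m.i₂ 1 = 1 := by rw [map_one, mul_one]; exact h
  rcases m.ker _ _ h' with ⟨e, -⟩ | ⟨-, e⟩
  · exact absurd e (by decide)
  · exact ng_ne e.symm

theorem a_b : Commute m.a m.b := m.comm Um Um

theorem orderOf_a : orderOf m.a = 3 := by
  haveI : Fact (Nat.Prime 3) := ⟨Nat.prime_three⟩
  exact orderOf_eq_prime m.a_props.2.1 m.a_ne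

/-- The centraliser of the root element and the involution. -/
theorem cent_za {g : G} (hz : Commute z g) (ha : Commute m.a g) :
    ∃ i : Fin 3, ∃ d : S2, g = m.i₁ (Um ^ (i : ℕ)) * m.i₂ d := by
  obtain ⟨c, d, rfl | rfl⟩ := (m.cent g).1 hz
  · have h := m.pair_comm (a := Um) (b := 1) (c := c) (d := d) (by rw [map_one, mul_one]; exact ha)
    rcases h with ⟨h1, -⟩ | ⟨-, h2⟩
    · obtain ⟨i, rfl | rfl⟩ := cent_U c h1.symm
      · exact ⟨i, d, rfl⟩
      · exact ⟨i, ng * d, by rw [← m.ng_pair₂ (Um ^ (i : ℕ)) (ng * d), ← mul_assoc ng ng, ng_sq, one_mul]⟩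
    · simp only [one_mul, mul_one] at h2
      exact absurd (mul_eq_right.1 h2.symm) ng_ne
  · exfalso
    have h1 : m.i₁ c * m.i₂ d * (τ * m.a * τ) = m.a * (m.i₁ c * m.i₂ d) := by
      calc m.i₁ c * m.i₂ d * (τ * m.a * τ) = m.i₁ c * m.i₂ d * τ * m.a * τ := by group
        _ = m.a * (m.i₁ c * m.i₂ d) * (τ * τ) := by rw [← ha.eq]; group
        _ = _ := by rw [m.tt, mul_one]
    rw [m.a_props.2.2, show (m.a)⁻¹ = m.i₁ Um⁻¹ * m.i₂ 1 by rw [map_one, mul_one, map_inv],
      show m.a = m.i₁ Um * m.i₂ 1 by rw [map_one, mul_one], m.mul_pair, m.mul_pair] at h1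
    rcases m.pair_eq h1 with ⟨e, -⟩ | ⟨e, -⟩
    · exact (cube_cases_U c).2.1 e
    · exact (cube_cases_U c).2.2 e

theorem invol_unique {g : G} (hz : Commute z g) (ha : Commute m.a g) (h2 : g * g = 1) : g = 1 ∨ g = z := by
  obtain ⟨i, d, rfl⟩ := m.cent_za hz ha
  rw [m.mul_pair, ← pow_add] at h2
  have key : ∀ i : Fin 3, Um ^ ((i : ℕ) + i) ≠ ng ∧ (Um ^ ((i : ℕ) + i) = 1 → i = 0) := by decide +kernel
  rcases m.ker _ _ h2 with ⟨e1, e2⟩ | ⟨e1, -⟩
  · rw [(key i).2 e1]
    simp only [Fin.val_zero, pow_zero, map_one, one_mul]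
    rcases sq_one d e2 with rfl | rfl
    · exact Or.inl (map_one _)
    · exact Or.inr m.neg₂
  · exact absurd e1 (key i).1

/-- The Frattini decomposition of the centraliser of the root element. -/
theorem cent_split {g : G} (hg : Commute m.a g) :
    ∃ v ∈ V m.a, ∃ c, Commute z c ∧ Commute m.a c ∧ g = v * c := by
  set C := centralizer ({m.a} : Set G)
  let zC : C := ⟨z, mem_centralizer_singleton_iff.2 m.a_props.1.eq⟩
  have hiso : IsIsolatedInvolution zC := by
    refine ⟨by rw [← Subgroup.orderOf_coe]; exact m.orderOf_z, fun k hk => ?_⟩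
    have h2 : ((k * zC * k⁻¹ : C) : G) * ((k * zC * k⁻¹ : C) : G) = 1 := by
      rw [← Subgroup.coe_mul, show k * zC * k⁻¹ * (k * zC * k⁻¹) = k * (zC * zC) * k⁻¹ by group,
        show zC * zC = 1 from Subtype.ext m.zz, mul_one, mul_inv_cancel, Subgroup.coe_one]
    rcases m.invol_unique (congrArg Subtype.val hk.eq : Commute z _)
      (mem_centralizer_singleton_iff.1 (k * zC * k⁻¹).2).symm h2 with h | h
    · exfalso
      have : zC = 1 := by
        have h' : k * zC * k⁻¹ = 1 := Subtype.ext h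
        simpa [mul_assoc] using congrArg (fun x => k⁻¹ * x * k) h'
      have h0 : z = 1 := congrArg Subtype.val this
      simpa [h0] using m.orderOf_z
    · exact Subtype.ext h
  have hgC : g ∈ C := mem_centralizer_singleton_iff.2 hg.eq.symm
  have hO := ZStar.zStarHolds C zC hiso ⟨g, hgC⟩
  set w := z * g * z⁻¹ * g⁻¹ with hw
  have hwV : w ∈ V m.a := ⟨_, hO, rfl⟩
  obtain ⟨k, hk⟩ := odd_of_mem_V hwV
  have hwi : z * w * z = w⁻¹ := by
    rw [hw, m.z_inv, mul_inv_rev, mul_inv_rev, mul_inv_rev, inv_inv, m.z_inv]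
    calc z * (z * g * z * g⁻¹) * z = (z * z) * g * z * g⁻¹ * z := by group
      _ = g * (z * (g⁻¹ * z)) := by rw [m.zz]; group
  have hsi : z * (w ^ k) * z = (w ^ k)⁻¹ := by
    rw [← inv_pow, ← hwi, show z * w * z = z * w * z⁻¹ by rw [m.z_inv], conj_pow, m.z_inv]
  refine ⟨w ^ k, pow_mem hwV _, (w ^ k)⁻¹ * g, ?_,
    (show Commute m.a (w ^ k) from (V_comm (pow_mem hwV _)).symm).inv_right.mul_right hg, by group⟩
  show z * ((w ^ k)⁻¹ * g) = (w ^ k)⁻¹ * g * z
  have h2 : w ^ k * w ^ k * w = 1 := by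
    rw [← pow_add, ← pow_succ, show k + k + 1 = orderOf w by omega, pow_orderOf_eq_one]
  calc z * ((w ^ k)⁻¹ * g) = (z * w ^ k * z⁻¹)⁻¹ * (z * g * z⁻¹ * g⁻¹) * g * z := by group
    _ = (w ^ k)⁻¹ * (w ^ k * w ^ k * w) * g * z := by rw [← hw, m.z_inv, hsi]; group
    _ = (w ^ k)⁻¹ * g * z := by rw [h2, mul_one]

theorem mem_V_of_inverted {g : G} (hg : Commute m.a g) (ho : Odd (orderOf g)) (hi : z * g * z = g⁻¹) :
    g ∈ V m.a := by
  obtain ⟨v, hv, c, hcz, hca, rfl⟩ := m.cent_split hg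
  refine mem_of_sq ho ?_
  have hn : c * v * c⁻¹ ∈ V m.a := by
    have := V_conj_le m.a c v hv
    rwa [show c * m.a * c⁻¹ = m.a by rw [← hca.eq, mul_inv_cancel_right]] at this
  have hzv : z * v * z⁻¹ ∈ V m.a := by
    have := V_conj_le m.a z v hv
    rwa [show z * m.a * z⁻¹ = m.a by rw [m.a_props.1.eq, mul_inv_cancel_right]] at this
  have hcc : c * c ∈ V m.a := by
    have h1 : v * c * (z * v * z⁻¹ * c) = 1 := by
      rw [show z * v * z⁻¹ * c = z * (v * c) * z by
        rw [m.z_inv, mul_assoc (z * v) z c, hcz.eq]; group, hi, mul_inv_cancel]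
    have h1' : c * c = (c * (z * v * z⁻¹) * c⁻¹)⁻¹ * v⁻¹ := by
      calc c * c = (c * (z * v * z⁻¹) * c⁻¹)⁻¹ * v⁻¹ * (v * c * (z * v * z⁻¹ * c)) := by group
        _ = _ := by rw [h1, mul_one]
    have hn' : c * (z * v * z⁻¹) * c⁻¹ ∈ V m.a := by
      have := V_conj_le m.a c _ hzv
      rwa [show c * m.a * c⁻¹ = m.a by rw [← hca.eq, mul_inv_cancel_right]] at this
    exact h1' ▸ mul_mem (inv_mem hn') (inv_mem hv)
  rw [show v * c * (v * c) = v * (c * v * c⁻¹) * (c * c) by group]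
  exact mul_mem (mul_mem hv hn) hcc

theorem a_mem_V : m.a ∈ V m.a := by
  set C := centralizer ({m.a} : Set G)
  have haC : m.a ∈ C := mem_centralizer_singleton_iff.2 rfl
  refine ⟨⟨m.a, haC⟩, ?_, rfl⟩
  have hcen : (⟨m.a, haC⟩ : C) ∈ center C :=
    mem_center_iff.2 fun k => Subtype.ext (mem_centralizer_singleton_iff.1 k.2)
  haveI : (zpowers (⟨m.a, haC⟩ : C)).Normal := ⟨fun w hw g => by
    rw [mem_center_iff.1 (zpowers_le.2 hcen hw) g, mul_inv_cancel_right]; exact hw⟩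
  refine ZStar.le_oddCore inferInstance ?_ (mem_zpowers _)
  rw [Nat.card_zpowers, ← Subgroup.orderOf_coe, m.orderOf_a]
  decide

theorem V_fix_z {v : G} (hv : v ∈ V m.a) (hz : Commute z v) : v ∈ zpowers m.a := by
  obtain ⟨i, d, rfl⟩ := m.cent_za hz (V_comm hv).symm
  have hai : m.i₁ (Um ^ (i : ℕ)) = m.a ^ (i : ℕ) := map_pow _ _ _
  have hd : m.i₂ d ∈ V m.a := by
    have := mul_mem (pow_mem (inv_mem m.a_mem_V) (i : ℕ)) hv
    rwa [hai, ← mul_assoc, inv_pow, inv_mul_cancel, one_mul] at this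
  suffices hd1 : m.i₂ d = 1 by rw [hd1, mul_one, hai]; exact pow_mem (mem_zpowers _) _
  have cube : ∀ e : S2, m.i₂ e ∈ V m.a → e ^ 3 = 1 ∨ e ^ 3 = ng := fun e he => by
    have h3 := m.odd_cube (by simpa using m.mem_cent 1 e) (odd_of_mem_V he)
    have h3' : m.i₁ 1 * m.i₂ (e ^ 3) = 1 := by rw [map_one, one_mul, map_pow]; exact h3
    exact (m.ker _ _ h3').imp (·.2) (·.2)
  obtain ⟨e, he, he3, hee⟩ := Cfsg.Lib.GTwoType.cube_rep d (cube d hd)
  have hed : m.i₂ (e * d) ∈ V m.a := by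
    rcases he with rfl | rfl
    · rwa [one_mul]
    · exfalso
      have h3 := m.odd_cube (by simpa using m.mem_cent 1 d) (odd_of_mem_V hd)
      have h3' : m.i₁ 1 * m.i₂ (d ^ 3) = 1 := by rw [map_one, one_mul, map_pow]; exact h3
      have hd3 : d ^ 3 = 1 := (m.ker _ _ h3').elim (·.2) fun k => absurd k.1.symm ng_ne
      exact cube_sign d hd3 he3
  rcases he with rfl | rfl
  · rw [one_mul] at he3
    by_contra hne
    have hd1 : d ≠ 1 := fun h => hne (by rw [h, map_one])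
    have hJ : m.i₂ (Jm * d * Jm⁻¹) ∈ V m.a := by
      have := V_conj_le m.a (m.i₂ Jm) _ hd
      rw [show m.i₂ Jm * m.a * (m.i₂ Jm)⁻¹ = m.a by rw [← (m.comm Um Jm).eq, mul_inv_cancel_right],
        ← map_inv, ← map_mul, ← map_mul] at this
      exact this
    rcases J_gen d he3 hd1 with ⟨p, q⟩ | ⟨p, q⟩
    · exact (cube _ (by rw [map_mul]; exact mul_mem hd hJ)).elim p q
    · exact (cube _ (by rw [map_mul, map_inv]; exact mul_mem hd (inv_mem hJ))).elim p q
  · exfalso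
    have h3 := m.odd_cube (by simpa using m.mem_cent 1 d) (odd_of_mem_V hd)
    have h3' : m.i₁ 1 * m.i₂ (d ^ 3) = 1 := by rw [map_one, one_mul, map_pow]; exact h3
    have hd3 : d ^ 3 = 1 := (m.ker _ _ h3').elim (·.2) fun k => absurd k.1.symm ng_ne
    exact cube_sign d hd3 he3

theorem tau_norm {v : G} (hv : v ∈ V m.a) : τ * v * τ ∈ V m.a := by
  have := V_conj_le m.a τ v hv
  rwa [m.tau_inv, m.a_props.2.2, V_inv] at this

theorem z_norm {v : G} (hv : v ∈ V m.a) : z * v * z ∈ V m.a := by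
  have := V_conj_le m.a z v hv
  rwa [m.z_inv, m.a_props.1.eq, mul_assoc, m.zz, mul_one] at this

theorem zpow_a {v : G} (hv : v ∈ zpowers m.a) : v = 1 ∨ v = m.a ∨ v = m.a⁻¹ := by
  obtain ⟨n, rfl⟩ := mem_zpowers_iff.1 hv
  have e : m.a ^ (3 : ℤ) = 1 := by exact_mod_cast m.a_props.2.1
  obtain ⟨q, r, hr, rfl⟩ : ∃ q r : ℤ, (r = 0 ∨ r = 1 ∨ r = 2) ∧ n = 3 * q + r :=
    ⟨n / 3, n % 3, by omega, by omega⟩
  rw [zpow_add, zpow_mul, e, one_zpow, one_mul]
  rcases hr with rfl | rfl | rfl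
  · exact Or.inl (zpow_zero _)
  · exact Or.inr (Or.inl (zpow_one _))
  · refine Or.inr (Or.inr ?_)
    rw [eq_inv_iff_mul_eq_one, ← zpow_add_one, ← e]; rfl

/-- The part of the core fixed by the outer involution. -/
def T : Subgroup G := V m.a ⊓ centralizer ({τ} : Set G)

theorem mem_T {x : G} : x ∈ m.T ↔ x ∈ V m.a ∧ Commute x τ := by
  rw [T, mem_inf, mem_centralizer_singleton_iff]; rfl

theorem T_inverted {x : G} (hx : x ∈ m.T) : z * x * z = x⁻¹ := by
  refine inverts_of_fpf m.zz ((odd_V m.a).of_dvd_nat (card_dvd_of_le (inf_le_left : m.T ≤ V m.a))) (fun y hy => ?_)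
    (fun y hy hf => ?_) hx
  · obtain ⟨h1, h2⟩ := m.mem_T.1 hy
    refine m.mem_T.2 ⟨m.z_norm h1, ?_⟩
    have : Commute z τ := m.z_tau
    exact ((this.mul_left h2).mul_left this)
  · obtain ⟨h1, h2⟩ := m.mem_T.1 hy
    have hzy : Commute z y := by
      show z * y = y * z
      rw [← mul_one (z * y), ← m.zz, ← mul_assoc, hf]
    rcases m.zpow_a (m.V_fix_z h1 hzy) with h | h | h
    · exact h
    all_goals
      exfalso
      have h2' : τ * y * τ = y := by rw [← h2.eq, mul_assoc, m.tt, mul_one]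
      have h3 : τ * m.a * τ = m.a⁻¹ := m.a_props.2.2
      subst h
    · rw [h3] at h2'
      refine m.a_ne ?_
      have := m.a_props.2.1
      rwa [pow_succ, pow_two, inv_eq_iff_mul_eq_one.1 h2', one_mul] at this
    · rw [show τ * (m.a)⁻¹ * τ = (τ * m.a * τ)⁻¹ by rw [mul_inv_rev, mul_inv_rev, m.tau_inv]; group, h3, inv_inv] at h2'
      refine m.a_ne ?_
      have := m.a_props.2.1
      rwa [pow_succ, pow_two, eq_inv_iff_mul_eq_one.1 h2', one_mul] at this

end Mdl

end Cfsg.Lib.GTwoType
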