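import Cfsg.Agent.Lib.GTwoType.Main

/-!
# The configuration of the two parabolic subgroups
-/

set_option autoImplicit false

namespace Cfsg.Lib.GTwoType

open Subgroup Cfsg

namespace Mdl

variable {G : Type*} [Group G] [Finite G] {z τ : G} (m : Mdl z τ)
include m

/-- Involutions centralising a root element are conjugate in its centraliser. -/
theorem exists_conj_invol {t : G} (ht : t * t = 1) (h1 : t ≠ 1) (hc : Commute m.a t) :
    ∃ v, Commute m.a v ∧ v * t * v⁻¹ = z := by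
  have hza : Commute m.a z := m.a_props.1.symm
  have huniq : ∀ g, Commute z g → Commute m.a g → g * g = 1 → g ≠ 1 → g = z := fun g a b c d =>
    (m.invol_unique a b c).resolve_left d
  rcases Nat.even_or_odd (orderOf (t * z)) with ⟨n, hn⟩ | ⟨n, hn⟩
  · have hpos : 0 < orderOf (t * z) := orderOf_pos _
    set y := (t * z) ^ n with hy
    have hyy : y * y = 1 := by rw [hy, ← pow_add, ← hn, pow_orderOf_eq_one]
    have hy1 : y ≠ 1 := fun e => by
      have := Nat.le_of_dvd (by omega) (orderOf_dvd_of_pow_eq_one e)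
      omega
    have hay : Commute m.a y := (hc.mul_right hza).pow_right n
    have hzy : Commute z y := by
      have h2 : z * (t * z) * z⁻¹ = (t * z)⁻¹ := by
        rw [mul_inv_rev, m.z_inv, show t⁻¹ = t from inv_eq_of_mul_eq_one_right ht]
        calc z * (t * z) * z = z * t * (z * z) := by group
          _ = z * t := by rw [m.zz, mul_one]
      have h3 : z * y * z⁻¹ = y := by
        rw [hy, ← conj_pow, h2, inv_pow, ← hy]
        exact inv_eq_of_mul_eq_one_right hyy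
      exact mul_inv_eq_iff_eq_mul.1 h3
    have hyz := huniq y hzy hay hyy hy1
    have htz : Commute z t := by
      have h4 : Commute z (t * z) := by
        have h5 : Commute y (t * z) := (Commute.self_pow (t * z) n).symm
        rwa [hyz] at h5
      simpa [mul_assoc, m.zz] using h4.mul_right (Commute.refl z)
    refine ⟨1, Commute.one_right _, ?_⟩
    rw [huniq t htz hc ht h1]; group
  · refine ⟨(t * z) ^ n, (hc.mul_right hza).pow_right n, ?_⟩
    have h2 : t * (t * z) ^ n * t⁻¹ = ((t * z) ^ n)⁻¹ := by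
      rw [← conj_pow, ← inv_pow]
      congr 1
      rw [mul_inv_rev, m.z_inv, show t⁻¹ = t from inv_eq_of_mul_eq_one_right ht]
      calc t * (t * z) * t = (t * t) * z * t := by group
        _ = z * t := by rw [ht, one_mul]
    have h3 : (t * z) ^ (n + n) * (t * z) = 1 := by rw [← pow_succ, ← two_mul, ← hn, pow_orderOf_eq_one]
    calc (t * z) ^ n * t * ((t * z) ^ n)⁻¹ = (t * z) ^ n * t * (t * (t * z) ^ n * t⁻¹) := by rw [h2]
      _ = (t * z) ^ n * (t * t) * (t * z) ^ n * t⁻¹ := by group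
      _ = (t * z) ^ (n + n) * t⁻¹ := by rw [ht, pow_add]; group
      _ = (t * z) ^ (n + n) * (t * z) * ((t * z)⁻¹ * t⁻¹) := by group
      _ = z⁻¹ * (t⁻¹ * t⁻¹) := by rw [h3]; group
      _ = z := by
        rw [show t⁻¹ * t⁻¹ = (t * t)⁻¹ from (mul_inv_rev t t).symm, ht, inv_one, mul_one, m.z_inv]

omit [Finite G] in
/-- An element of order three commuting with a square root of the involution has one trivial coordinate. -/
theorem one_coord {w : G} (hw : Commute z w) (hww : w * w = z) {x y : S2} (hx : x ^ 3 = 1) (hy : y ^ 3 = 1)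
    (hc : Commute w (m.i₁ x * m.i₂ y)) : x = 1 ∨ y = 1 := by
  by_contra hh
  push_neg at hh
  obtain ⟨c, d, e | e⟩ := (m.cent w).1 hw
  · rw [e] at hc
    have hzz : m.i₁ (c * c) * m.i₂ (d * d) = m.i₁ ng * m.i₂ 1 := by
      rw [map_one, mul_one, m.neg₁]
      refine Eq.trans ?_ hww
      rw [e, m.mul_pair]
    rcases m.pair_comm hc with ⟨p, q⟩ | ⟨p, -⟩
    · rcases m.pair_eq hzz with ⟨u, -⟩ | ⟨-, u⟩
      · exact (quat_cent c x hx hh.1).1 p u
      · exact (quat_cent d y hy hh.2).1 q (by rw [u, mul_one])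
    · exact (quat_cent c x hx hh.1).2 p
  · have hzz : m.i₁ (c * dc c) * m.i₂ (d * dc d) = m.i₁ ng * m.i₂ 1 := by
      rw [map_one, mul_one, m.neg₁]
      refine Eq.trans ?_ hww
      rw [e, ← m.mul_pair, ← m.tau_pair]; group
    rcases m.pair_eq hzz with ⟨u, -⟩ | ⟨-, u⟩
    · exact twist_sq c u
    · exact twist_sq d (by rw [u, mul_one])

omit [Finite G] in
/-- An element fixing the frame cannot exchange the other two involutions. -/
theorem frame_no_move {g : G} (hg : Commute z g) (ha : g * m.a * g⁻¹ ∈ m.EE) (hb : g * m.b * g⁻¹ ∈ m.EE) :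
    g * τ * g⁻¹ ≠ z * τ := by
  obtain ⟨c, d, e⟩ := (m.cent g).1 hg
  have hk : ∀ x ∈ m.EE, g * x * g⁻¹ ∈ m.EE → τ * x * τ = x⁻¹ →
      (m.i₁ c * m.i₂ d) * x * (m.i₁ c * m.i₂ d)⁻¹ ∈ m.EE := by
    intro x _ hgx hi
    rcases e with rfl | rfl
    · exact hgx
    · rw [show m.i₁ c * m.i₂ d * τ * x * (m.i₁ c * m.i₂ d * τ)⁻¹ =
        m.i₁ c * m.i₂ d * (τ * x * τ⁻¹) * (m.i₁ c * m.i₂ d)⁻¹ by group, m.tau_inv, hi] at hgx
      simpa [mul_assoc] using inv_mem hgx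
  have h1 := m.EE_comm (hk _ m.a_mem ha (m.EE_props m.a_mem).2.2) m.a_mem
  have h2 := m.EE_comm (hk _ m.b_mem hb (m.EE_props m.b_mem).2.2) m.b_mem
  have ea : m.i₁ Um = m.i₁ Um * m.i₂ 1 := by rw [map_one, mul_one]
  have eb : m.i₂ Um = m.i₁ 1 * m.i₂ Um := by rw [map_one, one_mul]
  rw [ea, m.inv_pair, m.mul_pair, m.mul_pair] at h1
  rw [eb, m.inv_pair, m.mul_pair, m.mul_pair] at h2
  have hc : c * Um = Um * c := (m.pair_comm h1).elim (fun k => norm_U c k.1) fun k => absurd k.1 (norm_U' c)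
  have hd : d * Um = Um * d := (m.pair_comm h2).elim (fun k => norm_U d k.2) fun k => absurd k.2 (norm_U' d)
  intro h
  have h' : m.i₁ (c * (dc c)⁻¹) * m.i₂ (d * (dc d)⁻¹) * τ = m.i₁ ng * m.i₂ 1 * τ := by
    rw [← m.conj_tau, map_one, mul_one, m.neg₁, ← h]
    rcases e with rfl | rfl
    · rfl
    · rw [show m.i₁ c * m.i₂ d * τ * τ * (m.i₁ c * m.i₂ d * τ)⁻¹ =
        m.i₁ c * m.i₂ d * (τ * τ * τ⁻¹) * (m.i₁ c * m.i₂ d)⁻¹ by group, m.tt, one_mul, m.tau_inv]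
  rcases m.pair_eq (mul_right_cancel h') with ⟨u, -⟩ | ⟨-, u⟩
  · exact U_still c hc u
  · exact U_still d hd (by rw [u, mul_one])

variable {m}

/-- The two root elements are not conjugate. -/
theorem Good.not_conj {p : Mdl τ z} (h : m.Good p) (g : G) :
    ¬ (g * m.a * g⁻¹ = p.a ∨ g * m.a * g⁻¹ = p.a⁻¹) := by
  intro hga
  -- the involution
  have hsd : ∀ {x : G}, x = p.a ∨ x = p.a⁻¹ → ∀ {y : G}, Commute x y → Commute p.a y := by
    rintro x (rfl | rfl) y hy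
    exacts [hy, by simpa using hy.inv_left]
  have cj : ∀ (k : G) {x y : G}, Commute x y → Commute (k * x * k⁻¹) (k * y * k⁻¹) := fun k {x y} hxy => by
    simpa using hxy.map (MulAut.conj k).toMonoidHom
  have ht2 : ∀ k : G, (k * z * k⁻¹) * (k * z * k⁻¹) = 1 := fun k => by
    rw [show k * z * k⁻¹ * (k * z * k⁻¹) = k * (z * z) * k⁻¹ by group, m.zz, mul_one, mul_inv_cancel]
  obtain ⟨v, hv, hvz⟩ := p.exists_conj_invol (ht2 g) (fun e => by
    have hz1 : z = 1 := by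
      calc z = g⁻¹ * (g * z * g⁻¹) * g := by group
        _ = 1 := by rw [e]; group
    simpa [hz1] using m.orderOf_z) (hsd hga (cj g m.a_props.1.symm))
  obtain ⟨g₁, hg₁z, hg₁a⟩ : ∃ k : G, k * z * k⁻¹ = τ ∧ (k * m.a * k⁻¹ = p.a ∨ k * m.a * k⁻¹ = p.a⁻¹) := by
    refine ⟨v * g, by rw [show v * g * z * (v * g)⁻¹ = v * (g * z * g⁻¹) * v⁻¹ by group, hvz], ?_⟩
    rw [show v * g * m.a * (v * g)⁻¹ = v * (g * m.a * g⁻¹) * v⁻¹ by group]
    rcases hga with e | e <;> rw [e]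
    · exact Or.inl (by rw [← hv.eq, mul_inv_cancel_right])
    · exact Or.inr (by rw [← hv.inv_left.eq, mul_inv_cancel_right])
  clear hga hvz hv v g
  -- the second root element
  set y := g₁ * m.b * g₁⁻¹ with hy
  have hyτ : Commute τ y := hg₁z ▸ cj g₁ m.b_props.1
  have hy3 : y ^ 3 = 1 := by rw [hy, conj_pow, m.b_props.2.1, mul_one, mul_inv_cancel]
  obtain ⟨x₁, x₂, hx₁, hx₂, hye⟩ := p.cube_rep hyτ hy3
  set w := g₁ * m.i₁ Jm * g₁⁻¹ with hw
  have hwτ : Commute τ w := hg₁z ▸ cj g₁ (by simpa using m.mem_cent Jm 1)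
  have hww : w * w = τ := by
    rw [hw, show g₁ * m.i₁ Jm * g₁⁻¹ * (g₁ * m.i₁ Jm * g₁⁻¹) = g₁ * (m.i₁ Jm * m.i₁ Jm) * g₁⁻¹ by group,
      ← map_mul, J_sq, m.neg₁, hg₁z]
  have hwy : Commute w y := cj g₁ (m.comm Jm Um)
  have hry : Commute p.a y := hsd hg₁a (cj g₁ m.a_b)
  have hx1 : x₁ = 1 := by
    refine (p.one_coord hwτ hww hx₁ hx₂ (hye ▸ hwy)).resolve_right fun e2 => ?_
    rw [e2, map_one, mul_one] at hye
    have hxU : x₁ * Um = Um * x₁ := by
      rw [hye, show p.a = p.i₁ Um * p.i₂ 1 by rw [map_one, mul_one],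
        show p.i₁ x₁ = p.i₁ x₁ * p.i₂ 1 by rw [map_one, mul_one]] at hry
      exact ((p.pair_comm hry).elim (fun k => k.1.symm) fun k => by
        exact absurd k.2 (by simpa using ng_ne.symm))
    obtain ⟨i, rfl⟩ := U_pows x₁ hx₁ hxU
    rw [map_pow] at hye
    have hb : ∃ j : Fin 3, m.b = m.a ^ (j : ℕ) := by
      have hyi : y = (g₁ * m.a * g₁⁻¹) ^ (i : ℕ) ∨ y = ((g₁ * m.a * g₁⁻¹) ^ (i : ℕ))⁻¹ := by
        rcases hg₁a with e | e <;> rw [e]
        · exact Or.inl hye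
        · exact Or.inr (by rw [inv_pow, inv_inv]; exact hye)
      have hcan : ∀ u : G, y = g₁ * u * g₁⁻¹ → m.b = u := fun u e => mul_left_cancel (mul_right_cancel (hy ▸ e))
      rcases hyi with e | e
      · exact ⟨i, hcan _ (by rw [e, conj_pow])⟩
      · obtain ⟨j, hj⟩ := inv_U_pow i
        refine ⟨j, hcan _ ?_⟩
        have : (m.a ^ (i : ℕ))⁻¹ = m.a ^ (j : ℕ) := by
          show (m.i₁ Um ^ (i : ℕ))⁻¹ = m.i₁ Um ^ (j : ℕ)
          rw [← map_pow, ← map_pow, ← map_inv, hj]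
        rw [e, conj_pow, ← this]; group
    obtain ⟨j, hj⟩ := hb
    have e : m.i₁ 1 * m.i₂ Um = m.i₁ (Um ^ (j : ℕ)) * m.i₂ 1 := by
      rw [map_one, map_one, one_mul, mul_one, map_pow]; exact hj
    have h3 : ∀ j : Fin 3, (Um ^ (j : ℕ)) ^ 3 = 1 := by decide +kernel
    exact absurd (m.pair3_eq (one_pow 3) (h3 j) e).2 (by decide)
  rw [hx1, map_one, one_mul] at hye
  have hx₂1 : x₂ ≠ 1 := fun e => m.swap.a_ne (by
    rw [e, map_one] at hye
    have : g₁⁻¹ * y * g₁ = 1 := by rw [hye]; group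
    exact (show m.b = g₁⁻¹ * y * g₁ by rw [hy]; group).trans this)
  obtain ⟨g₂, hg₂z, hg₂a, hg₂b⟩ : ∃ k : G, k * z * k⁻¹ = τ ∧
      (k * m.a * k⁻¹ = p.a ∨ k * m.a * k⁻¹ = p.a⁻¹) ∧ (k * m.b * k⁻¹ = p.b ∨ k * m.b * k⁻¹ = p.b⁻¹) := by
    obtain ⟨c, hc⟩ := three_class x₂ hx₂ hx₂1
    set k := p.i₂ c⁻¹ with hk
    have hkz : Commute τ k := by simpa [hk] using p.mem_cent 1 c⁻¹
    have hka : Commute p.a k := p.comm Um c⁻¹
    refine ⟨k * g₁, by rw [show k * g₁ * z * (k * g₁)⁻¹ = k * (g₁ * z * g₁⁻¹) * k⁻¹ by group, hg₁z, ← hkz.eq,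
      mul_inv_cancel_right], ?_, ?_⟩
    · rw [show k * g₁ * m.a * (k * g₁)⁻¹ = k * (g₁ * m.a * g₁⁻¹) * k⁻¹ by group]
      rcases hg₁a with e | e <;> rw [e]
      · exact Or.inl (by rw [← hka.eq, mul_inv_cancel_right])
      · exact Or.inr (by rw [← hka.inv_left.eq, mul_inv_cancel_right])
    · rw [show k * g₁ * m.b * (k * g₁)⁻¹ = k * y * k⁻¹ by rw [hy]; group, hye, hk, ← map_inv p.i₂, ← map_mul,
        ← map_mul, inv_inv]
      rcases hc with rfl | rfl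
      · exact Or.inl (congrArg p.i₂ (by group))
      · exact Or.inr (by rw [show c⁻¹ * (c * Um⁻¹ * c⁻¹) * c = Um⁻¹ by group, map_inv])
  clear hye hry hwy hwτ hww hyτ hy3 hg₁a hg₁z
  -- the outer involution
  set t := g₂ * τ * g₂⁻¹ with ht
  have htτ : Commute τ t := hg₂z ▸ cj g₂ m.z_tau
  have hinv : ∀ {u x : G}, τ * u * τ = u⁻¹ → (g₂ * u * g₂⁻¹ = x ∨ g₂ * u * g₂⁻¹ = x⁻¹) → t * x * t = x⁻¹ := by
    intro u x hu hux
    have e0 : t * (g₂ * u * g₂⁻¹) * t = (g₂ * u * g₂⁻¹)⁻¹ := by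
      rw [ht, show g₂ * τ * g₂⁻¹ * (g₂ * u * g₂⁻¹) * (g₂ * τ * g₂⁻¹) = g₂ * (τ * u * τ) * g₂⁻¹ by group, hu]
      group
    rcases hux with e | e <;> rw [e] at e0
    · exact e0
    · have hti : t⁻¹ = t := by rw [ht, mul_inv_rev, mul_inv_rev, inv_inv, m.tau_inv]; group
      rw [inv_inv] at e0
      calc t * x * t = (t⁻¹ * x⁻¹ * t⁻¹)⁻¹ := by group
        _ = x⁻¹ := by rw [hti, e0]
  have htr := hinv m.a_props.2.2 hg₂a
  have hts := hinv m.b_props.2.2 hg₂b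
  have htinv : t * t = 1 := by
    rw [ht, show g₂ * τ * g₂⁻¹ * (g₂ * τ * g₂⁻¹) = g₂ * (τ * τ) * g₂⁻¹ by group, m.tt, mul_one, mul_inv_cancel]
  obtain ⟨c, d, hct⟩ := (p.cent t).1 htτ
  have ea : p.i₁ Um = p.i₁ Um * p.i₂ 1 := by rw [map_one, mul_one]
  have eb : p.i₂ Um = p.i₁ 1 * p.i₂ Um := by rw [map_one, one_mul]
  have hmove : ∀ {x : G}, t * x * t = x⁻¹ → t * x = x⁻¹ * t := fun {x} hx => by
    rw [← hx, mul_assoc (t * x) t t, htinv, mul_one]
  rcases hct with hct | hct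
  · have e1 := hmove htr
    rw [show p.a⁻¹ = p.i₁ Um⁻¹ * p.i₂ 1 by rw [map_one, mul_one, map_inv], show p.a = p.i₁ Um * p.i₂ 1 from ea,
      hct, p.mul_pair, p.mul_pair] at e1
    rcases p.pair_eq e1 with ⟨u, -⟩ | ⟨u, -⟩
    exacts [(no_flip c).1 u, (no_flip c).2 u]
  have hmv : ∀ {x : G}, z * x * z = x⁻¹ → t * x * t = x⁻¹ → Commute (p.i₁ c * p.i₂ d) x := by
    intro x hxz hxt
    have e1 : z * x = x⁻¹ * z := by rw [← hxz, mul_assoc (z * x) z z, m.zz, mul_one]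
    have e2 := hmove hxt
    rw [hct, mul_assoc, e1, ← mul_assoc, ← mul_assoc, mul_left_inj] at e2
    have := (show Commute (p.i₁ c * p.i₂ d) x⁻¹ from e2).inv_right
    rwa [inv_inv] at this
  have hcU : c * Um = Um * c := by
    have h1 := hmv (p.EE_props p.a_mem).2.2 htr
    change Commute _ (p.i₁ Um) at h1
    rw [ea] at h1
    exact ((p.pair_comm h1).elim (·.1) fun k => absurd k.1 (not_flip_U c))
  have hdU : d * Um = Um * d := by
    have h1 := hmv (p.EE_props p.b_mem).2.2 hts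
    change Commute _ (p.i₂ Um) at h1
    rw [eb] at h1
    exact ((p.pair_comm h1).elim (·.2) fun k => absurd k.2 (not_flip_U d))
  obtain ⟨k₁, hk₁, hkc⟩ := straighten c hcU
  obtain ⟨k₂, hk₂, hkd⟩ := straighten d hdU
  set k := p.i₁ k₁ * p.i₂ k₂ with hk
  have hka : Commute p.a k := by
    show Commute (p.i₁ Um) k
    rw [ea, hk]
    show _ * _ = _ * _
    rw [p.mul_pair, p.mul_pair, hk₁, one_mul, mul_one]
  have hkb : Commute p.b k := by
    show Commute (p.i₂ Um) k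
    rw [eb, hk]
    show _ * _ = _ * _
    rw [p.mul_pair, p.mul_pair, hk₂, one_mul, mul_one]
  obtain ⟨g₃, h3z, h3a, h3b, h3t⟩ : ∃ g₃ : G, g₃ * z * g₃⁻¹ = τ ∧ (g₃ * m.a * g₃⁻¹ = p.a ∨ g₃ * m.a * g₃⁻¹ = p.a⁻¹) ∧
      (g₃ * m.b * g₃⁻¹ = p.b ∨ g₃ * m.b * g₃⁻¹ = p.b⁻¹) ∧ (g₃ * τ * g₃⁻¹ = z ∨ g₃ * τ * g₃⁻¹ = τ * z) := by
    have e : ∀ u, k * g₂ * u * (k * g₂)⁻¹ = k * (g₂ * u * g₂⁻¹) * k⁻¹ := fun u => by group
    have fx : ∀ {x u : G}, Commute x k → (g₂ * u * g₂⁻¹ = x ∨ g₂ * u * g₂⁻¹ = x⁻¹) →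
        (k * (g₂ * u * g₂⁻¹) * k⁻¹ = x ∨ k * (g₂ * u * g₂⁻¹) * k⁻¹ = x⁻¹) := by
      intro x u hx hu
      rcases hu with h | h <;> rw [h]
      · exact Or.inl (by rw [← hx.eq, mul_inv_cancel_right])
      · exact Or.inr (by rw [← hx.inv_left.eq, mul_inv_cancel_right])
    refine ⟨k * g₂, ?_, e m.a ▸ fx hka hg₂a, e m.b ▸ fx hkb hg₂b, ?_⟩
    · rw [e, hg₂z, ← (show Commute τ k from p.mem_cent k₁ k₂).eq, mul_inv_cancel_right]
    · rw [e, ← ht, hct, hk,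
        show p.i₁ k₁ * p.i₂ k₂ * (p.i₁ c * p.i₂ d * z) * (p.i₁ k₁ * p.i₂ k₂)⁻¹ =
          p.i₁ k₁ * p.i₂ k₂ * (p.i₁ c * p.i₂ d) * (z * (p.i₁ k₁ * p.i₂ k₂)⁻¹) by group,
        p.inv_pair, p.tau_move, ← mul_assoc, p.mul_pair, p.mul_pair, dc_inv, dc_inv]
      rcases hkc with e1 | e1 <;> rcases hkd with e2 | e2 <;> rw [e1, e2]
      · left; simp
      · right; rw [map_one, one_mul, p.neg₂]
      · right; rw [map_one, mul_one, p.neg₁]
      · left; rw [p.neg₁, p.neg₂, p.zz, one_mul]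
  clear_value t
  obtain ⟨hr, hs, -, -, hrZ, -⟩ := h.facts
  have hV : ∀ x ∈ V m.a, g₃ * x * g₃⁻¹ ∈ V p.a := fun x hx => by
    have := V_conj_le m.a g₃ x hx
    rcases h3a with e | e <;> rw [e] at this
    exacts [this, V_inv p.a ▸ this]
  rcases h3t with e3 | e3
  · obtain ⟨q, hq, -, -⟩ := m.conj_frame h.ctx p h.EE_eq
    have hzt : g₃ * (z * τ) * g₃⁻¹ = z * τ := by
      rw [show g₃ * (z * τ) * g₃⁻¹ = g₃ * z * g₃⁻¹ * (g₃ * τ * g₃⁻¹) by group, h3z, e3, m.z_tau.eq]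
    have hU : ∀ x ∈ q.EE, g₃ * x * g₃⁻¹ ∈ q.EE := by
      intro x hx
      obtain ⟨h1, h2⟩ := m.mem_U.1 (hq.le hx)
      refine hq.ge (h.U_eq ▸ p.mem_U.2 ⟨hV x h1, ?_⟩)
      have := cj g₃ h2
      rwa [hzt, m.z_tau.eq] at this
    refine q.frame_no_move (g := g₃) (mul_inv_eq_iff_eq_mul.1 hzt).symm (hU _ q.a_mem) (hU _ q.b_mem) ?_
    rw [h3z, mul_assoc, ← m.z_tau.eq, ← mul_assoc, m.zz, one_mul]
  · obtain ⟨h1, h2⟩ := m.mem_T.1 hr
    have hU : g₃ * p.a * g₃⁻¹ ∈ m.U := by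
      refine h.U_eq ▸ p.mem_U.2 ⟨hV _ h1, ?_⟩
      have := cj g₃ h2
      rwa [e3] at this
    have hs' : Commute (g₃ * p.a * g₃⁻¹) p.b := by
      have := cj g₃ h.rb
      rcases h3b with e | e <;> rw [e] at this
      exacts [this, by simpa using this.inv_right]
    have hbV : g₃⁻¹ * m.b * g₃ ∈ V m.a := by
      have hb : m.b ∈ V p.a := p.T_le ((m.p_T h.ctx p h.EE_eq h.rb).ge m.b_mem)
      have h' := V_conj_le p.a g₃⁻¹ m.b hb
      have ha : g₃⁻¹ * p.a * g₃⁻¹⁻¹ = m.a ∨ g₃⁻¹ * p.a * g₃⁻¹⁻¹ = m.a⁻¹ := by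
        rcases h3a with e | e
        · left; rw [← e]; group
        · right; rw [← inv_inv p.a, ← e]; group
      rcases ha with e | e <;> rw [e] at h'
      · simpa using h'
      · rw [V_inv] at h'; simpa using h'
    have hb' : Commute (g₃ * p.a * g₃⁻¹) m.b := by
      have := cj g₃ ((m.mem_Zc.1 hrZ).2 _ hbV)
      simpa [mul_assoc] using this
    exact p.a_ne (by simpa using h.U_one hU hb' hs')

/-- No root element of the two frames lies in a subgroup normalised by both normalisers. -/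
theorem Good.not_mem {p : Mdl τ z} (h : m.Good p) {N : Subgroup G}
    (hN : N ≤ normalizer (zpowers m.a : Set G) ⊓ normalizer (zpowers p.a : Set G))
    (h₁ : normalizer (zpowers m.a : Set G) ≤ normalizer (N : Set G))
    (h₂ : normalizer (zpowers p.a : Set G) ≤ normalizer (N : Set G)) : p.a ∉ N := by
  intro hr
  set r' := m.i₂ Jm * p.a * (m.i₂ Jm)⁻¹ with hr'
  have hr'N : r' ∈ N := (mem_normalizer_iff.1 (h₁ (m.i₂_N Jm)) _).1 hr
  obtain ⟨q, hq, -, qb⟩ := p.conj_frame h.ctx m (m.p_T h.ctx p h.EE_eq h.rb).symm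
  have hs := h.symm.sb
  have hb'U : p.i₂ Jm * m.b * (p.i₂ Jm)⁻¹ ∈ m.U := h.U_eq ▸ hq ▸ qb ▸ q.b_mem
  obtain ⟨i, hi⟩ := h.U_cent_s hb'U hs
  rw [← hr'] at hi
  have hb'N : p.i₂ Jm * m.b * (p.i₂ Jm)⁻¹ ∈ N := hi ▸ pow_mem hr'N _
  have hbN : m.b ∈ N := by
    have h' := (mem_normalizer_iff.1 (h₂ (p.i₂_N Jm)) _).1 hb'N
    rw [p.j_j (m.EE_props m.b_mem).2.2] at h'
    simpa using inv_mem h'
  have hjb : m.i₂ Jm * m.b * (m.i₂ Jm)⁻¹ ∈ N := (mem_normalizer_iff.1 (h₁ (m.i₂_N Jm)) _).1 hbN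
  have cube : ∀ x ∈ N, x ^ 3 = 1 → Commute p.a x := by
    intro x hx h3
    rcases p.mem_N_iff.1 (hN hx).2 with e | e
    · exact (mul_inv_eq_iff_eq_mul.1 e).symm
    · exfalso
      refine p.a_ne (sq_one_odd (odd_of_cube p.a_props.2.1) (eq_inv_iff_mul_eq_one.1 ?_))
      calc p.a = x ^ 3 * p.a * (x ^ 3)⁻¹ := by rw [h3]; group
        _ = x * (x * (x * p.a * x⁻¹) * x⁻¹) * x⁻¹ := by simp [pow_succ, mul_assoc]
        _ = x * (x * p.a⁻¹ * x⁻¹) * x⁻¹ := by rw [e]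
        _ = x * (x * p.a * x⁻¹)⁻¹ * x⁻¹ := by group
        _ = x * p.a * x⁻¹ := by rw [show (x * p.a * x⁻¹)⁻¹ = p.a by rw [e, inv_inv]]
        _ = p.a⁻¹ := e
  obtain ⟨hrT, -, -, -, -, -⟩ := h.facts
  exact p.a_ne (m.eq_one_of_both (m.T_le hrT) (m.T_inverted hrT) (cube _ hbN m.b_props.2.1)
    (cube _ hjb (by rw [conj_pow, m.b_props.2.1, mul_one, mul_inv_cancel])))

theorem Good.core_trivial {p : Mdl τ z} (h : m.Good p) {N : Subgroup G}
    (hN : N ≤ normalizer (zpowers m.a : Set G) ⊓ normalizer (zpowers p.a : Set G))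
    (h₁ : normalizer (zpowers m.a : Set G) ≤ normalizer (N : Set G))
    (h₂ : normalizer (zpowers p.a : Set G) ≤ normalizer (N : Set G)) : N = ⊥ := by
  have hside := h.side
  have ha : m.a ∉ N := h.symm.not_mem (inf_comm (normalizer (zpowers m.a : Set G)) _ ▸ hN) h₂ h₁
  have hr : p.a ∉ N := h.not_mem hN h₁ h₂
  have hn1 : ∀ g ∈ normalizer (zpowers m.a : Set G), ∀ x ∈ N, g * x * g⁻¹ ∈ N := fun g hg x hx =>
    (mem_normalizer_iff.1 (h₁ hg) x).1 hx
  have hzero : ∀ c ∈ zpowers m.a, c ∈ N → c = 1 := by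
    intro c hc hcN
    rcases m.zpow_a hc with rfl | rfl | rfl
    · rfl
    · exact absurd hcN ha
    · exact absurd (by simpa using inv_mem hcN) ha
  have hpow : ∀ i : Fin 3, p.a ^ (i : ℕ) ∈ N → i = 0 := by
    intro i hi
    fin_cases i
    · rfl
    · exact absurd (by simpa using hi) hr
    · refine absurd ?_ hr
      have := mul_mem hi hi
      rwa [← pow_add, show p.a ^ ((2 : ℕ) + 2) = p.a by
        rw [show (2 : ℕ) + 2 = 3 + 1 by norm_num, pow_succ, p.a_props.2.1, one_mul]] at this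
  have hV : ∀ x ∈ N, x ∈ V m.a → x = 1 := by
    intro x hx hxV
    have hxZ : x ∈ m.Zc := m.mem_Zc.2 ⟨hxV, fun w hw => by
      have hcN : x * w * x⁻¹ * w⁻¹ ∈ N := by
        rw [show x * w * x⁻¹ * w⁻¹ = x * (w * x⁻¹ * w⁻¹) by group]
        exact mul_mem hx (hn1 w (m.V_le_N hw) _ (inv_mem hx))
      exact commutatorElement_eq_one_iff_commute.1 (hzero _ (m.comm_mem hxV hw) hcN)⟩
    obtain ⟨c, hc, i, k, e⟩ := h.Zc_form hxZ
    obtain ⟨hrT, -, hr'U, -, hrZ, hrZ'⟩ := h.facts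
    set r' := m.i₂ Jm * p.a * (m.i₂ Jm)⁻¹ with hr'
    set t := p.a ^ (i : ℕ)
    set u := r' ^ (k : ℕ)
    have htT : t ∈ m.T := pow_mem hrT _
    have huU : u ∈ m.U := pow_mem hr'U _
    have htu : Commute t u := (m.mem_Zc.1 (pow_mem hrZ (i : ℕ))).2 _ (m.U_le huU)
    have hzN : z ∈ normalizer (zpowers m.a : Set G) := by
      have := m.i₂_N ng
      rwa [m.neg₂] at this
    have h4 : x⁻¹ * (z * x * z) ∈ N := mul_mem (inv_mem hx) (by
      have := hn1 z hzN x hx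
      rwa [m.z_inv] at this)
    have hcube : (t * u) ^ 3 = 1 := by
      rw [htu.mul_pow, m.T_cube h.ctx htT, m.twist.T_cube h.ctx huU, one_mul]
    have h5 : x⁻¹ * (z * x * z) = t * u := by
      rw [e, show z * (c * t * u) * z = (z * c * z) * (z * t * z) * (z * u * z) by
        calc z * (c * t * u) * z = z * c * (z * z) * t * (z * z) * u * z := by rw [m.zz]; group
          _ = _ := by group, (m.a_cases hc).1, m.T_inverted htT, m.U_inverted huU]
      calc (c * t * u)⁻¹ * (c * t⁻¹ * u⁻¹) = u⁻¹ * (t⁻¹ * t⁻¹) * u⁻¹ := by group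
        _ = (t * u)⁻¹ * (t * u)⁻¹ := by
          rw [show u⁻¹ * (t⁻¹ * t⁻¹) * u⁻¹ = (u⁻¹ * t⁻¹) * (t⁻¹ * u⁻¹) by group,
            show t⁻¹ * u⁻¹ = u⁻¹ * t⁻¹ from htu.inv_inv.eq, ← mul_inv_rev]
        _ = (t * u) := by
          rw [← mul_inv_rev, inv_eq_iff_mul_eq_one, ← hcube, pow_succ, pow_two]
    rw [h5] at h4
    have hc1 : c = 1 := hzero c hc (by
      have := mul_mem hx (inv_mem h4)
      rwa [e, show c * t * u * (t * u)⁻¹ = c by group] at this)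
    have h6 : τ * (t * u) * τ = t * u⁻¹ := by
      calc τ * (t * u) * τ = (τ * t * τ) * (τ * u * τ) := by
            calc τ * (t * u) * τ = τ * t * (τ * τ) * u * τ := by rw [m.tt]; group
              _ = _ := by group
        _ = t * u⁻¹ := by rw [m.U_tau huU, ← (m.mem_T.1 htT).2.eq, mul_assoc t τ τ, m.tt, mul_one]
    have h7 : t * u⁻¹ ∈ N := h6 ▸ (by simpa [m.tau_inv] using hn1 τ m.tau_N _ h4)
    have htt : t * t ∈ N := by
      have := mul_mem h4 h7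
      rwa [htu.eq, show u * t * (t * u⁻¹) = u * (t * t) * u⁻¹ by group,
        ((htu.mul_left htu).symm.eq), mul_inv_cancel_right] at this
    have htN : t ∈ N := mem_of_sq (odd_of_cube (m.T_cube h.ctx htT)) htt
    have ht1 : t = 1 := by
      show p.a ^ (i : ℕ) = 1
      rw [hpow i htN, Fin.val_zero, pow_zero]
    rw [hc1, ht1, one_mul, one_mul] at e
    have hj : (m.i₂ Jm)⁻¹ * x * (m.i₂ Jm)⁻¹⁻¹ ∈ N := hn1 _ (inv_mem (m.i₂_N Jm)) x hx
    rw [e, show u = (m.i₂ Jm * p.a * (m.i₂ Jm)⁻¹) ^ (k : ℕ) from rfl, conj_pow,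
      show (m.i₂ Jm)⁻¹ * (m.i₂ Jm * p.a ^ (k : ℕ) * (m.i₂ Jm)⁻¹) * (m.i₂ Jm)⁻¹⁻¹ = p.a ^ (k : ℕ) by group] at hj
    rw [e]
    show r' ^ (k : ℕ) = 1
    rw [hpow k hj, Fin.val_zero, pow_zero]
  rw [eq_bot_iff]
  intro n hn
  rw [mem_bot]
  refine hV n hn ((hside.kerQ n (hN hn).1).2 fun x hx => ?_)
  have hcN : n * x * n⁻¹ * x⁻¹ ∈ N := by
    rw [show n * x * n⁻¹ * x⁻¹ = n * (x * n⁻¹ * x⁻¹) by group]
    exact mul_mem hn (hn1 x (m.V_le_N hx) _ (inv_mem hn))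
  have hcV : n * x * n⁻¹ * x⁻¹ ∈ V m.a := mul_mem (m.N_conj_V (hN hn).1 hx) (inv_mem hx)
  rw [hV _ hcN hcV]
  exact one_mem _

/-- The group is the Chevalley group. -/
theorem Good.nonempty_equiv {p : Mdl τ z} (h : m.Good p) :
    Nonempty (↥(Cfsg.Lie.chevG2.group (ZMod 3)) ≃* G) := by
  haveI : Fact (Nat.Prime 3) := ⟨Nat.prime_three⟩
  have s1 := h.side
  have s2 := h.symm.side
  have hnc : ∀ g : G, GTwoAmalgam.cm g (normalizer (zpowers m.a : Set G)) ≠ normalizer (zpowers p.a : Set G) := by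
    intro g hg
    have hmem : ∀ x ∈ normalizer (zpowers m.a : Set G), g * x * g⁻¹ ∈ normalizer (zpowers p.a : Set G) :=
      fun x hx => hg.le ⟨x, hx, rfl⟩
    have hpre : ∀ y ∈ normalizer (zpowers p.a : Set G), g⁻¹ * y * g ∈ normalizer (zpowers m.a : Set G) := by
      intro y hy
      obtain ⟨x, hx, rfl⟩ := hg.ge hy
      simpa [mul_assoc] using hx
    obtain ⟨f, hfs, hker, -⟩ := p.quot
    have hQ : ∀ x ∈ V m.a, g * x * g⁻¹ ∈ V p.a := by
      intro x hx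
      by_contra hout
      set K := (V m.a).map (MulAut.conj g).toMonoidHom with hK
      have hKn : ∀ c ∈ normalizer (zpowers p.a : Set G), ∀ k ∈ K, c * k * c⁻¹ ∈ K := by
        rintro c hc _ ⟨v, hv, rfl⟩
        refine ⟨(g⁻¹ * c * g) * v * (g⁻¹ * c * g)⁻¹, m.N_conj_V (hpre c hc) hv, ?_⟩
        simp only [MulEquiv.coe_toMonoidHom, MulAut.conj_apply]
        group
      obtain ⟨y, hyK, hy⟩ := p.minus_mem hfs hKn (k := ⟨g * x * g⁻¹, hmem x (m.V_le_N hx)⟩) ⟨x, hx, rfl⟩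
        (fun e => hout (mem_subgroupOf.1 (hker ▸ MonoidHom.mem_ker.2 e)))
      have hy3 : ∃ n, Odd n ∧ y ^ n = 1 := by
        refine ⟨_, odd_V m.a, Subtype.ext ?_⟩
        obtain ⟨v, hv, e⟩ := hyK
        rw [SubmonoidClass.coe_pow, ← e, ← map_pow]
        have hv1 : v ^ Nat.card (V m.a) = 1 := congrArg Subtype.val (pow_card_eq_one' (x := (⟨v, hv⟩ : V m.a)))
        rw [hv1, map_one]
        rfl
      obtain ⟨n, ⟨k, rfl⟩, hn⟩ := hy3
      have := congrArg f hn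
      rw [map_pow, map_one, hy, pow_succ, pow_mul, neg_one_sq, one_pow, one_mul] at this
      exact absurd (congrArg Units.val this) (by decide +kernel)
    have hD : g * m.a * g⁻¹ ∈ zpowers p.a := by
      have e : (V m.a).map (MulAut.conj g).toMonoidHom ≤ V p.a := by
        rintro _ ⟨x, hx, rfl⟩
        exact hQ x hx
      rw [s2.hD]
      refine commutator_mono e e ?_
      rw [← map_commutator, ← s1.hD]
      exact ⟨m.a, mem_zpowers _, rfl⟩
    rcases p.zpow_a hD with e | e | e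
    · exact m.a_ne (by simpa using e)
    · exact h.not_conj g (Or.inl e)
    · exact h.not_conj g (Or.inr e)
  set B := zpowers m.b
  have hB : B ≤ normalizer (V m.a : Set G) := zpowers_le.2 (norm_of_le fun v hv => m.V_conj_a m.a_b hv)
  have hbN : m.b ∈ normalizer (zpowers m.a : Set G) := m.i₂_N Um
  obtain ⟨hr, -, -, -, hrZ, -⟩ := h.facts
  have hS1 : V m.a ⊔ B ≤ normalizer (zpowers m.a : Set G) := sup_le m.V_le_N (zpowers_le.2 hbN)
  have hS2 : V m.a ⊔ B ≤ normalizer (zpowers p.a : Set G) := by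
    refine sup_le (fun v hv => p.mem_N_iff.2 (Or.inl ?_)) (zpowers_le.2 (p.mem_N_iff.2 (Or.inl ?_)))
    · rw [← ((m.mem_Zc.1 hrZ).2 v hv).eq, mul_inv_cancel_right]
    · rw [← h.rb.eq, mul_inv_cancel_right]
  have hS : Nat.card ↥(V m.a ⊔ B) = 3 ^ 6 := by
    let f : V m.a × B → ↥(V m.a ⊔ B) := fun w => ⟨w.1 * w.2, mul_mem (mem_sup_left w.1.2) (mem_sup_right w.2.2)⟩
    have hf : Function.Bijective f := by
      constructor
      · intro u v e
        have e' : (v.1 : G)⁻¹ * u.1 = v.2 * (u.2 : G)⁻¹ := by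
          have := congrArg Subtype.val e
          change (u.1 : G) * u.2 = v.1 * v.2 at this
          calc (v.1 : G)⁻¹ * u.1 = (v.1 : G)⁻¹ * ((u.1 : G) * u.2) * (u.2 : G)⁻¹ := by group
            _ = v.2 * (u.2 : G)⁻¹ := by rw [this]; group
        have hb : (v.2 : G) * (u.2 : G)⁻¹ ∈ B := mul_mem v.2.2 (inv_mem u.2.2)
        have hv : (v.2 : G) * (u.2 : G)⁻¹ ∈ V m.a := e' ▸ mul_mem (inv_mem v.1.2) u.1.2
        have h0 : (v.2 : G) * (u.2 : G)⁻¹ = 1 := by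
          rcases m.swap.zpow_a (show _ ∈ zpowers m.swap.a from hb) with e0 | e0 | e0
          · exact e0
          · rw [e0] at hv; exact absurd (m.V_i₂ hv) (by decide)
          · rw [e0, show m.swap.a⁻¹ = m.i₂ Um⁻¹ from (map_inv m.i₂ Um).symm] at hv
            exact absurd (m.V_i₂ hv) (by decide)
        rw [h0] at e'
        exact Prod.ext (Subtype.ext (inv_mul_eq_one.1 e').symm) (Subtype.ext (mul_inv_eq_one.1 h0).symm)
      · rintro ⟨g, hg⟩
        have hg' : g ∈ (↑(V m.a ⊔ B) : Set G) := hg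
        rw [coe_mul_of_right_le_normalizer_left (V m.a) B hB] at hg'
        obtain ⟨v, hv, b, hb, e⟩ := hg'
        exact ⟨(⟨v, hv⟩, ⟨b, hb⟩), Subtype.ext e⟩
    rw [← Nat.card_eq_of_bijective f hf, Nat.card_prod, m.card_V, h.ctx.nine m, Nat.card_zpowers,
      show orderOf m.b = 3 from m.swap.orderOf_a]
    norm_num
  have hconf : GTwoAmalgam.Conf (normalizer (zpowers m.a : Set G)) (V m.a) m.Zc (zpowers m.a)
      (normalizer (zpowers p.a : Set G)) (V p.a) p.Zc (zpowers p.a) (V m.a ⊔ B) :=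
    ⟨s1, s2, hnc, fun N a b c => h.core_trivial a b c, hS1, hS2, hS⟩
  obtain ⟨t₁, t₂, hset⟩ := hconf.exists_setup
  obtain ⟨n, m', x, y, hha, hhb⟩ := hset.exists_halves
  exact (GTwoAmalgam.Frame.mk hha hhb).nonempty_equiv

end Mdl

theorem Ctx.nonempty_equiv {G : Type*} [Group G] [Finite G] (hG : Ctx G) {z τ : G} (m : Mdl z τ) :
    Nonempty (↥(Cfsg.Lie.chevG2.group (ZMod 3)) ≃* G) := by
  obtain ⟨τ', m', p, h⟩ := m.exists_good hG
  exact h.nonempty_equiv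

end Cfsg.Lib.GTwoType
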