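import Cfsg.Agent.Lib.GTwoType.Model

/-!
# Elements of order three in the centraliser of the involution
-/

set_option autoImplicit false

namespace Cfsg.Lib.GTwoType

open Subgroup

/-- An element inverted by an involution commutes with others inverted by it, when the product is inverted too. -/
theorem comm_of_inverted {G : Type*} [Group G] {t x y : G} (ht : t * t = 1) (hx : t * x * t = x⁻¹)
    (hy : t * y * t = y⁻¹) (hxy : t * (x * y) * t = (x * y)⁻¹) : Commute x y := by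
  have h : x⁻¹ * y⁻¹ = y⁻¹ * x⁻¹ := by
    calc x⁻¹ * y⁻¹ = t * x * t * (t * y * t) := by rw [hx, hy]
      _ = t * x * (t * t) * y * t := by group
      _ = (x * y)⁻¹ := by rw [ht, ← hxy]; group
      _ = y⁻¹ * x⁻¹ := mul_inv_rev x y
  have := congrArg (·⁻¹) h
  simp only [mul_inv_rev, inv_inv] at this
  exact this.symm

theorem cube_cases_U : ∀ c : S2, c * Um ≠ ng * (Um * c) ∧ c * Um⁻¹ ≠ Um * c ∧ c * Um⁻¹ ≠ ng * (Um * c) := by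
  decide +kernel
theorem quat_cent : ∀ c x : S2, x ^ 3 = 1 → x ≠ 1 → (c * x = x * c → c * c ≠ ng) ∧ c * x ≠ ng * (x * c) := by
  decide +kernel
theorem U_pows : ∀ x : S2, x ^ 3 = 1 → x * Um = Um * x → ∃ i : Fin 3, x = Um ^ (i : ℕ) := by decide +kernel
theorem inv_U_pow : ∀ i : Fin 3, ∃ j : Fin 3, (Um ^ (i : ℕ))⁻¹ = Um ^ (j : ℕ) := by decide +kernel
theorem add_U_pow : ∀ i j : Fin 3, ∃ k : Fin 3, Um ^ (i : ℕ) * Um ^ (j : ℕ) = Um ^ (k : ℕ) := by decide +kernel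
theorem inverted_cases : ∀ x : S2, x ^ 3 = 1 → dc x = x⁻¹ →
    x * Um = Um * x ∨ (x * Lm = Lm * x ∧ x ≠ 1 ∧ x * Um ≠ Um * x) := by decide +kernel
theorem five_comm : ∀ x y : S2, x ^ 3 = 1 → y ^ 3 = 1 → dc y = y⁻¹ → x * y = y * x →
    x * Lm = Lm * x → x ≠ 1 → y * Lm = Lm * y := by decide +kernel
theorem J_shift : ∀ x : S2, x * Lm = Lm * x → (Jm⁻¹ * x * Jm) * Um = Um * (Jm⁻¹ * x * Jm) := by decide +kernel
theorem five_list : ∀ x : S2, x ^ 3 = 1 → dc x = x⁻¹ → x ≠ 1 →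
    x = Um ∨ x = dc Um ∨ x = Jm * Um * Jm⁻¹ ∨ x = Jm * dc Um * Jm⁻¹ := by decide +kernel

namespace Mdl

variable {G : Type*} [Group G] {z τ : G} (m : Mdl z τ)
include m

theorem pow_24 {g : G} (h : Commute z g) : g ^ 24 = 1 := by
  obtain ⟨a, b, rfl | rfl⟩ := (m.cent g).1 h
  · rw [m.pow_pair, show 24 = 12 * 2 by norm_num, pow_mul, pow_mul, pow_twelve, pow_twelve, one_pow, map_one,
      map_one, mul_one]
  · have e : (m.i₁ a * m.i₂ b * τ) ^ 2 = m.i₁ (a * dc a) * m.i₂ (b * dc b) := by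
      rw [pow_two, ← m.mul_pair, ← m.tau_pair]; group
    rw [show 24 = 2 * 12 by norm_num, pow_mul, e, m.pow_pair, pow_twelve, pow_twelve, map_one, map_one, mul_one]

theorem odd_cube [Finite G] {g : G} (h : Commute z g) (ho : Odd (orderOf g)) : g ^ 3 = 1 := by
  refine orderOf_dvd_iff_pow_eq_one.1 (((Nat.coprime_two_right.2 ho).pow_right 3).dvd_of_dvd_mul_left ?_)
  exact orderOf_dvd_iff_pow_eq_one.2 (m.pow_24 h)

/-- Elements of order three have coordinates of order three. -/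
theorem cube_rep {g : G} (h : Commute z g) (h3 : g ^ 3 = 1) :
    ∃ a b, a ^ 3 = 1 ∧ b ^ 3 = 1 ∧ g = m.i₁ a * m.i₂ b := by
  obtain ⟨a, b, rfl | rfl⟩ := (m.cent g).1 h
  · have h' := h3
    rw [m.pow_pair] at h'
    rcases m.ker _ _ h' with ⟨ha, hb⟩ | ⟨ha, hb⟩
    · exact ⟨a, b, ha, hb, rfl⟩
    · refine ⟨ng * a, ng * b, ?_, ?_, (m.ng_pair₂ a b).symm⟩
      · rw [(show Commute ng a from ng_central a).mul_pow, ha, pow_succ, pow_two, ng_sq, one_mul, ng_sq]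
      · rw [(show Commute ng b from ng_central b).mul_pow, hb, pow_succ, pow_two, ng_sq, one_mul, ng_sq]
  · exfalso
    have e : (m.i₁ a * m.i₂ b * τ) * (m.i₁ a * m.i₂ b * τ) = m.i₁ (a * dc a) * m.i₂ (b * dc b) := by
      rw [← m.mul_pair, ← m.tau_pair]; group
    rw [pow_succ, pow_two, e, ← mul_assoc, m.mul_pair] at h3
    refine m.not_outer (a := 1) (b := 1) (c := a * dc a * a) (d := b * dc b * b) ?_
    rw [h3, map_one, map_one, one_mul]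

theorem pair3_eq {a b c d : S2} (ha : a ^ 3 = 1) (hc : c ^ 3 = 1)
    (h : m.i₁ a * m.i₂ b = m.i₁ c * m.i₂ d) : a = c ∧ b = d :=
  (m.pair_eq h).resolve_right fun e => cube_sign c hc (e.1 ▸ ha)

theorem inverted_rep {g : G} (h : Commute z g) (h3 : g ^ 3 = 1) (hi : τ * g * τ = g⁻¹) :
    ∃ a b, a ^ 3 = 1 ∧ b ^ 3 = 1 ∧ dc a = a⁻¹ ∧ dc b = b⁻¹ ∧ g = m.i₁ a * m.i₂ b := by
  obtain ⟨a, b, ha, hb, rfl⟩ := m.cube_rep h h3
  rw [m.tau_pair, m.inv_pair] at hi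
  have hd : ∀ c : S2, c ^ 3 = 1 → dc c ^ 3 = 1 := fun c hc => by
    rw [show dc c = dcAut c from rfl, ← map_pow, hc, map_one]
  obtain ⟨e1, e2⟩ := m.pair3_eq (hd a ha) (by rw [inv_pow, ha, inv_one]) hi
  exact ⟨a, b, ha, hb, e1, e2, rfl⟩

/-- The subgroup of order nine of upper unipotent pairs. -/
def EE : Subgroup G where
  carrier := {g | ∃ i j : Fin 3, g = m.i₁ (Um ^ (i : ℕ)) * m.i₂ (Um ^ (j : ℕ))}
  one_mem' := ⟨0, 0, by simp⟩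
  mul_mem' := by
    rintro _ _ ⟨i, j, rfl⟩ ⟨k, l, rfl⟩
    obtain ⟨p, hp⟩ := add_U_pow i k
    obtain ⟨q, hq⟩ := add_U_pow j l
    exact ⟨p, q, by rw [m.mul_pair, hp, hq]⟩
  inv_mem' := by
    rintro _ ⟨i, j, rfl⟩
    obtain ⟨p, hp⟩ := inv_U_pow i
    obtain ⟨q, hq⟩ := inv_U_pow j
    exact ⟨p, q, by rw [m.inv_pair, hp, hq]⟩

theorem mem_EE {g : G} : g ∈ m.EE ↔ ∃ i j : Fin 3, g = m.i₁ (Um ^ (i : ℕ)) * m.i₂ (Um ^ (j : ℕ)) := Iff.rfl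

theorem card_EE : Nat.card m.EE = 9 := by
  have h : Function.Bijective (fun p : Fin 3 × Fin 3 =>
      (⟨m.i₁ (Um ^ (p.1 : ℕ)) * m.i₂ (Um ^ (p.2 : ℕ)), p.1, p.2, rfl⟩ : m.EE)) := by
    constructor
    · rintro ⟨i, j⟩ ⟨k, l⟩ e
      have h3 : ∀ i : Fin 3, (Um ^ (i : ℕ)) ^ 3 = 1 := by decide +kernel
      have inj : ∀ i j : Fin 3, Um ^ (i : ℕ) = Um ^ (j : ℕ) → i = j := by decide +kernel
      obtain ⟨e1, e2⟩ := m.pair3_eq (h3 i) (h3 k) (congrArg Subtype.val e)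
      exact Prod.ext (inj _ _ e1) (inj _ _ e2)
    · rintro ⟨_, i, j, rfl⟩
      exact ⟨(i, j), rfl⟩
  rw [← Nat.card_eq_of_bijective _ h, Nat.card_prod, Nat.card_fin]

theorem a_mem : m.i₁ Um ∈ m.EE := ⟨1, 0, by simp⟩
theorem b_mem : m.i₂ Um ∈ m.EE := ⟨0, 1, by simp⟩

theorem EE_props {g : G} (hg : g ∈ m.EE) : Commute z g ∧ g ^ 3 = 1 ∧ τ * g * τ = g⁻¹ := by
  obtain ⟨i, j, rfl⟩ := hg
  refine ⟨m.mem_cent _ _, ?_, ?_⟩
  · rw [m.pow_pair, ← pow_mul, ← pow_mul, mul_comm, pow_mul, U_cube, one_pow, mul_comm (j : ℕ), pow_mul, U_cube,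
      one_pow, map_one, map_one, mul_one]
  · have hp : ∀ k : ℕ, dc (Um ^ k) = (Um ^ k)⁻¹ := fun k => by
      rw [show dc (Um ^ k) = dcAut (Um ^ k) from rfl, map_pow, show dcAut Um = Um⁻¹ from dc_U, inv_pow]
    rw [m.tau_pair, m.inv_pair, hp, hp]

theorem EE_comm {g h : G} (hg : g ∈ m.EE) (hh : h ∈ m.EE) : Commute g h :=
  comm_of_inverted m.tt (m.EE_props hg).2.2 (m.EE_props hh).2.2 (m.EE_props (mul_mem hg hh)).2.2

theorem mem_EE_of_comm {a b : S2} (ha : a ^ 3 = 1) (hb : b ^ 3 = 1) (h1 : a * Um = Um * a)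
    (h2 : b * Um = Um * b) : m.i₁ a * m.i₂ b ∈ m.EE := by
  obtain ⟨i, rfl⟩ := U_pows a ha h1
  obtain ⟨j, rfl⟩ := U_pows b hb h2
  exact ⟨i, j, rfl⟩

/-- A set of first coordinates can be moved into the upper unipotent group. -/
theorem align (K : Subgroup G) (hK : ∀ g ∈ K, Commute z g ∧ g ^ 3 = 1 ∧ τ * g * τ = g⁻¹) :
    ∃ m' : Mdl z τ, (m'.i₂ = m.i₂ ∧ ∀ c, ∃ c', m'.i₁ c = m.i₁ c') ∧ ∀ g ∈ K, ∃ a b, a ^ 3 = 1 ∧ b ^ 3 = 1 ∧ g = m'.i₁ a * m'.i₂ b ∧ dc b = b⁻¹ ∧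
      a * Um = Um * a := by
  by_cases hL : ∃ g ∈ K, ∃ a b, a ^ 3 = 1 ∧ dc a = a⁻¹ ∧ g = m.i₁ a * m.i₂ b ∧ a * Lm = Lm * a ∧ a ≠ 1
  · obtain ⟨g₀, hg₀, a₀, b₀, ha₀, -, e₀, hl₀, hn₀⟩ := hL
    refine ⟨m.reparam (MulAut.conj Jm) conjJ_ok.1 conjJ_ok.2, ⟨rfl, fun c => ⟨_, rfl⟩⟩, fun g hg => ?_⟩
    obtain ⟨h1, h2, h3⟩ := hK g hg
    obtain ⟨a, b, ha, hb, da, db, e⟩ := m.inverted_rep h1 h2 h3
    have hc : Commute g₀ g := comm_of_inverted m.tt (hK _ hg₀).2.2 h3 (hK _ (mul_mem hg₀ hg)).2.2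
    rw [e₀, e] at hc
    have hac : a₀ * a = a * a₀ := (m.pair_comm hc).elim (·.1) fun k => by
      have := quat_cent a₀ a ha
      by_cases h1 : a = 1
      · rw [h1, mul_one, one_mul]
      · exact absurd k.1 (this h1).2
    have hl := five_comm a₀ a ha₀ ha da hac hl₀ hn₀
    refine ⟨Jm⁻¹ * a * Jm, b, ?_, hb, ?_, db, J_shift a hl⟩
    · rw [show Jm⁻¹ * a * Jm = Jm⁻¹ * a * Jm⁻¹⁻¹ by rw [inv_inv], conj_pow, ha, mul_one, mul_inv_cancel]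
    · show g = m.i₁ (Jm * (Jm⁻¹ * a * Jm) * Jm⁻¹) * m.i₂ b
      rw [show Jm * (Jm⁻¹ * a * Jm) * Jm⁻¹ = a by group, e]
  · refine ⟨m, ⟨rfl, fun c => ⟨c, rfl⟩⟩, fun g hg => ?_⟩
    obtain ⟨h1, h2, h3⟩ := hK g hg
    obtain ⟨a, b, ha, hb, da, db, e⟩ := m.inverted_rep h1 h2 h3
    refine ⟨a, b, ha, hb, e, db, (inverted_cases a ha da).resolve_right fun k => hL ?_⟩
    exact ⟨g, hg, a, b, ha, da, e, k.1, k.2.1⟩

/-- An inverted subgroup of odd exponent lies in an upper unipotent group of suitable coordinates. -/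
theorem exists_EE (K : Subgroup G) (hK : ∀ g ∈ K, Commute z g ∧ g ^ 3 = 1 ∧ τ * g * τ = g⁻¹) :
    ∃ m' : Mdl z τ, K ≤ m'.EE := by
  obtain ⟨m₁, -, h₁⟩ := m.align K hK
  obtain ⟨m₂, ⟨e₂, e₂'⟩, h₂⟩ := m₁.swap.align K hK
  refine ⟨m₂, fun g hg => ?_⟩
  obtain ⟨a, b, ha, hb, e, -, hau⟩ := h₁ g hg
  obtain ⟨c, d, hc, hd, e', -, hcu⟩ := h₂ g hg
  obtain ⟨c', hc'⟩ := e₂' c
  have this : d = a := by
    refine (m₁.pair3_eq (b := c') (d := b) hd ha ?_).1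
    rw [← e, e', hc', e₂]
    exact (m₁.comm d c').eq
  subst this
  exact e' ▸ m₂.mem_EE_of_comm hc hd hcu hau

end Mdl

end Cfsg.Lib.GTwoType
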