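import Cfsg.Agent.Lib.GTwoType.Local

/-!
# Fixed points of the second root element on the core of the first

There is always a fixed element outside the root group, and there are at least nine modulo the root
group when the core has order 243.
-/

set_option autoImplicit false

namespace Cfsg.Lib.GTwoType

open Subgroup Cfsg

/-- The kernel of the third power of `Φ / 1` for an automorphism of order three in exponent three. -/
theorem card_le_fixed_cube {W : Type*} [CommGroup W] [Finite W] (Φ : W →* W) (h3 : ∀ w, Φ (Φ (Φ w)) = w)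
    (he : ∀ w : W, w ^ 3 = 1) : Nat.card W ≤ Nat.card (Φ / MonoidHom.id W).ker ^ 3 := by
  set D := Φ / MonoidHom.id W with hD
  have hD3 : (D.comp (D.comp D)).ker = ⊤ := by
    rw [eq_top_iff]
    intro w _
    rw [MonoidHom.mem_ker]
    simp only [hD, MonoidHom.comp_apply, MonoidHom.div_apply, MonoidHom.id_apply, map_div, h3]
    have key : ∀ p q r : W, p / q / (q / r) / (q / r / (r / p)) = (r / q) ^ 3 := fun p q r => by
      apply Additive.ofMul.injective
      simp only [ofMul_div, ofMul_pow]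
      abel
    rw [key, he]
  calc Nat.card W = Nat.card (D.comp (D.comp D)).ker := by rw [hD3, card_top]
    _ ≤ Nat.card (D.comp D).ker * Nat.card D.ker := card_ker_comp _ _
    _ ≤ Nat.card D.ker * Nat.card D.ker * Nat.card D.ker := Nat.mul_le_mul_right _ (card_ker_comp _ _)
    _ = _ := by ring

namespace Mdl

variable {G : Type*} [Group G] [Finite G] {z τ : G} (m : Mdl z τ)
include m

theorem T_props (hG : Ctx G) : ∃ m' : Mdl τ z, m.T ≤ m'.EE := by
  obtain ⟨m'⟩ := hG.symm m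
  refine m'.exists_EE m.T fun x hx => ?_
  obtain ⟨h1, h2⟩ := m.mem_T.1 hx
  exact ⟨h2.symm, m'.odd_cube h2.symm (odd_of_mem_V h1), m.T_inverted hx⟩

theorem T_cube (hG : Ctx G) {x : G} (hx : x ∈ m.T) : x ^ 3 = 1 := by
  obtain ⟨m', h⟩ := m.T_props hG
  exact (m'.EE_props (h hx)).2.1

theorem card_T (hG : Ctx G) : Nat.card m.T = 1 ∨ Nat.card m.T = 3 ∨ Nat.card m.T = 9 := by
  obtain ⟨m', h⟩ := m.T_props hG
  have hd := card_dvd_of_le h
  rw [m'.card_EE, show 9 = 3 ^ 2 by norm_num] at hd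
  obtain ⟨k, hk, e⟩ := (Nat.dvd_prime_pow Nat.prime_three).1 hd
  interval_cases k <;> simp_all

theorem j_conj : m.i₂ Jm * τ * (m.i₂ Jm)⁻¹ = z * τ ∧ m.i₂ Jm * (z * τ) * (m.i₂ Jm)⁻¹ = τ ∧
    m.i₂ Jm * z * (m.i₂ Jm)⁻¹ = z ∧ m.i₂ Jm * m.a * (m.i₂ Jm)⁻¹ = m.a := by
  have h1 : τ * m.i₂ Jm * τ = z * m.i₂ Jm := by rw [m.act₂, dc_J, map_mul, m.neg₂]
  have hzj : Commute z (m.i₂ Jm) := by simpa using m.mem_cent 1 Jm
  have e1 : m.i₂ Jm * τ = z * τ * m.i₂ Jm := by
    calc m.i₂ Jm * τ = τ * (τ * m.i₂ Jm * τ) := by rw [← mul_assoc, ← mul_assoc, m.tt, one_mul]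
      _ = z * τ * m.i₂ Jm := by rw [h1, ← mul_assoc, m.z_tau.eq]
  have e3 : m.i₂ Jm * z * (m.i₂ Jm)⁻¹ = z := by rw [← hzj.eq, mul_inv_cancel_right]
  refine ⟨by rw [e1, mul_inv_cancel_right], ?_, e3, by rw [← (m.comm Um Jm).eq, mul_inv_cancel_right]⟩
  calc m.i₂ Jm * (z * τ) * (m.i₂ Jm)⁻¹ = (m.i₂ Jm * z * (m.i₂ Jm)⁻¹) * (m.i₂ Jm * τ * (m.i₂ Jm)⁻¹) := by group
    _ = τ := by rw [e3, e1, mul_inv_cancel_right, ← mul_assoc, m.zz, one_mul]

omit m [Finite G] in
theorem conj_fix {g t x : G} (h : Commute x t) : Commute (g * x * g⁻¹) (g * t * g⁻¹) := by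
  simpa using h.map (MulAut.conj g).toMonoidHom

theorem V_conj_a {g v : G} (hg : Commute m.a g) (hv : v ∈ V m.a) : g * v * g⁻¹ ∈ V m.a := by
  have := V_conj_le m.a g v hv
  rwa [← hg.eq, mul_inv_cancel_right] at this

theorem j_T {x : G} : x ∈ m.T ↔ m.i₂ Jm * x * (m.i₂ Jm)⁻¹ ∈ m.U := by
  obtain ⟨h1, h2, -, h4⟩ := m.j_conj
  have hc : Commute m.a (m.i₂ Jm) := m.comm Um Jm
  rw [m.mem_T, m.mem_U]
  constructor
  · rintro ⟨hv, hc'⟩
    exact ⟨m.V_conj_a hc hv, h1 ▸ conj_fix hc'⟩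
  · rintro ⟨hv, hc'⟩
    have e : x = (m.i₂ Jm)⁻¹ * (m.i₂ Jm * x * (m.i₂ Jm)⁻¹) * (m.i₂ Jm)⁻¹⁻¹ := by group
    refine ⟨e ▸ m.V_conj_a hc.inv_right hv, ?_⟩
    have := conj_fix (g := (m.i₂ Jm)⁻¹) hc'
    rw [← e] at this
    rwa [show (m.i₂ Jm)⁻¹ * (z * τ) * (m.i₂ Jm)⁻¹⁻¹ = τ by rw [← h1]; group] at this

theorem card_U : Nat.card m.U = Nat.card m.T :=
  (Nat.card_congr ((MulAut.conj (m.i₂ Jm)).toEquiv.subtypeEquiv fun _ => m.j_T)).symm

theorem U_inverted {y : G} (hy : y ∈ m.U) : z * y * z = y⁻¹ := m.twist.T_inverted hy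

theorem inter_TU {x : G} (hx : x ∈ m.T) (hy : x ∈ m.U) : x = 1 := by
  have h1 := m.T_inverted hx
  have hz : Commute x z := by
    have h := (m.mem_U.1 hy).2.mul_right (m.mem_T.1 hx).2
    rwa [mul_assoc, m.tt, mul_one] at h
  rw [← hz.eq, mul_assoc, m.zz, mul_one] at h1
  exact A4Stab_eq_one (odd_of_mem_V (m.T_le hx)) (eq_inv_iff_mul_eq_one.1 h1)
where
  A4Stab_eq_one {x : G} (ho : Odd (orderOf x)) (h : x * x = 1) : x = 1 := by
    obtain ⟨k, hk⟩ := ho
    have := pow_orderOf_eq_one x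
    rwa [hk, pow_succ, pow_mul, pow_two, h, one_pow, one_mul] at this

/-- The normal form is unique. -/
theorem normal_form {c c' x x' y y' : G} (hc : c ∈ zpowers m.a) (hc' : c' ∈ zpowers m.a) (hx : x ∈ m.T)
    (hx' : x' ∈ m.T) (hy : y ∈ m.U) (hy' : y' ∈ m.U) (h : c * x * y = c' * x' * y') :
    c = c' ∧ x = x' ∧ y = y' := by
  set e := c'⁻¹ * c
  have he : e ∈ zpowers m.a := mul_mem (inv_mem hc') hc
  have hd : x'⁻¹ * x ∈ m.T := mul_mem (inv_mem hx') hx
  have hw : y' * y⁻¹ ∈ m.U := mul_mem hy' (inv_mem hy)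
  have hx'c : Commute x' e := m.a_central (m.T_le hx') he
  have h1 : e * (x'⁻¹ * x) = y' * y⁻¹ := by
    rw [← mul_assoc, ← hx'c.inv_left.eq]
    calc x'⁻¹ * e * x = x'⁻¹ * (c'⁻¹ * c) * x := rfl
      _ = x'⁻¹ * c'⁻¹ * (c * x * y) * y⁻¹ := by group
      _ = y' * y⁻¹ := by rw [h]; group
  have h2 : z * (e * (x'⁻¹ * x)) * z = (e * (x'⁻¹ * x))⁻¹ := by rw [h1]; exact m.U_inverted hw
  have h3 : z * (e * (x'⁻¹ * x)) * z = e * (x'⁻¹ * x)⁻¹ := by
    calc z * (e * (x'⁻¹ * x)) * z = z * e * (z * z) * (x'⁻¹ * x) * z := by rw [m.zz]; group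
      _ = (z * e * z) * (z * (x'⁻¹ * x) * z) := by group
      _ = _ := by rw [(m.a_cases he).1, m.T_inverted hd]
  have hxe : Commute (x'⁻¹ * x) e := m.a_central (m.T_le hd) he
  rw [h3, mul_inv_rev e, hxe.inv_inv.eq, mul_left_inj] at h2
  have he1 : e = 1 := by
    obtain ⟨-, -, h3e⟩ := m.a_cases he
    calc e = e * e * e * (e * e)⁻¹ := by group
      _ = 1 := by
        rw [show e * e * e = 1 by rw [← h3e, pow_succ, pow_two],
          show e * e = 1 from eq_inv_iff_mul_eq_one.1 h2, inv_one, mul_one]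
  rw [he1, one_mul] at h1
  have h4 := m.inter_TU hd (h1 ▸ hw)
  have e1 := inv_mul_eq_one.1 he1
  refine ⟨e1.symm, (inv_mul_eq_one.1 h4).symm, ?_⟩
  rw [h4] at h1
  exact (mul_inv_eq_one.1 h1.symm).symm

theorem card_V : Nat.card (V m.a) = 3 * Nat.card m.T * Nat.card m.T := by
  have hzp : zpowers m.a ≤ V m.a := zpowers_le.2 m.a_mem_V
  let f : zpowers m.a × m.T × m.U → V m.a := fun p =>
    ⟨p.1 * p.2.1 * p.2.2, mul_mem (mul_mem (hzp p.1.2) (m.T_le p.2.1.2)) (m.U_le p.2.2.2)⟩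
  have hf : Function.Bijective f := by
    constructor
    · intro p q h
      obtain ⟨e1, e2, e3⟩ := m.normal_form p.1.2 q.1.2 p.2.1.2 q.2.1.2 p.2.2.2 q.2.2.2 (congrArg Subtype.val h)
      exact Prod.ext (Subtype.ext e1) (Prod.ext (Subtype.ext e2) (Subtype.ext e3))
    · intro v
      obtain ⟨c, hc, x, hx, -, y, hy, -, e⟩ := m.decomp le_rfl m.a_mem_V (fun _ => m.z_norm) (fun _ => m.tau_norm) v.2
      exact ⟨(⟨c, hc⟩, ⟨x, hx⟩, ⟨y, hy⟩), Subtype.ext e.symm⟩
  rw [← Nat.card_eq_of_bijective f hf, Nat.card_prod, Nat.card_prod, Nat.card_zpowers, m.orderOf_a, m.card_U]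
  ring

/-- The centraliser of the second root element in the core. -/
def KB : Subgroup G := V m.a ⊓ centralizer ({m.b} : Set G)

theorem mem_KB {v : G} : v ∈ m.KB ↔ v ∈ V m.a ∧ Commute v m.b := by
  rw [KB, mem_inf, mem_centralizer_singleton_iff]; rfl

theorem a_KB : m.a ∈ m.KB := m.mem_KB.2 ⟨m.a_mem_V, m.a_b⟩

theorem KB_norm {v : G} (hv : v ∈ m.KB) : z * v * z ∈ m.KB ∧ τ * v * τ ∈ m.KB := by
  obtain ⟨h1, h2⟩ := m.mem_KB.1 hv
  refine ⟨m.mem_KB.2 ⟨m.z_norm h1, ?_⟩, m.mem_KB.2 ⟨m.tau_norm h1, ?_⟩⟩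
  · exact ((m.b_props.1.mul_left h2).mul_left m.b_props.1)
  · have := conj_fix (g := τ) h2
    rw [m.tau_inv, m.b_props.2.2] at this
    simpa using this.inv_right

theorem decomp_KB {v : G} (hv : v ∈ m.KB) : ∃ c ∈ zpowers m.a, ∃ x, x ∈ m.T ∧ Commute x m.b ∧
    ∃ y, y ∈ m.U ∧ Commute y m.b ∧ v = c * x * y := by
  obtain ⟨c, hc, x, hx, hxK, y, hy, hyK, e⟩ := m.decomp inf_le_left m.a_KB (fun _ h => (m.KB_norm h).1)
    (fun _ h => (m.KB_norm h).2) hv
  exact ⟨c, hc, x, hx, (m.mem_KB.1 hxK).2, y, hy, (m.mem_KB.1 hyK).2, e⟩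

/-- The fixed parts. -/
def TB : Subgroup G := m.T ⊓ centralizer ({m.b} : Set G)

theorem mem_TB {x : G} : x ∈ m.TB ↔ x ∈ m.T ∧ Commute x m.b := by
  rw [TB, mem_inf, mem_centralizer_singleton_iff]; rfl

theorem card_KB_le : Nat.card m.KB ≤ 3 * Nat.card m.TB * Nat.card m.twist.TB := by
  let f : zpowers m.a × m.TB × m.twist.TB → G := fun p => p.1 * p.2.1 * p.2.2
  have h : Nat.card m.KB ≤ Nat.card (Set.range f) := by
    refine Nat.card_le_card_of_injective (fun v => (⟨v.1, ?_⟩ : Set.range f))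
      fun a b h => Subtype.ext (congrArg Subtype.val h : _)
    obtain ⟨c, hc, x, hx, hxb, y, hy, hyb, e⟩ := m.decomp_KB v.2
    exact ⟨(⟨c, hc⟩, ⟨x, m.mem_TB.2 ⟨hx, hxb⟩⟩, ⟨y, m.twist.mem_TB.2 ⟨hy, hyb⟩⟩), e.symm⟩
  refine h.trans ((Nat.card_le_card_of_surjective _ Set.rangeFactorization_surjective).trans (le_of_eq ?_))
  rw [Nat.card_prod, Nat.card_prod, Nat.card_zpowers, m.orderOf_a]
  ring

/-- An element fixed modulo the root group is fixed. -/
theorem KB_of_mod {v : G} (hv : v ∈ V m.a) (h : m.b * v * m.b⁻¹ * v⁻¹ ∈ zpowers m.a) : v ∈ m.KB := by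
  obtain ⟨s, hs, h1, h2⟩ := split_invol m.zz (odd_V m.a) (fun _ => m.z_norm) hv
  have hf : s⁻¹ * v ∈ zpowers m.a := m.V_fix_z (mul_mem (inv_mem hs) hv) (by
    show z * (s⁻¹ * v) = s⁻¹ * v * z
    calc z * (s⁻¹ * v) = z * (s⁻¹ * v) * (z * z) := by rw [m.zz, mul_one]
      _ = (z * (s⁻¹ * v) * z) * z := by group
      _ = s⁻¹ * v * z := by rw [h2])
  have hfb : Commute m.b (s⁻¹ * v) := by
    obtain ⟨n, hn⟩ := mem_zpowers_iff.1 hf
    rw [← hn]
    exact m.a_b.symm.zpow_right n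
  set c := m.b * v * m.b⁻¹ * v⁻¹
  have hc : c = m.b * s * m.b⁻¹ * s⁻¹ := by
    calc c = m.b * s * (s⁻¹ * v) * m.b⁻¹ * ((s⁻¹ * v)⁻¹ * s⁻¹) := by show m.b * v * m.b⁻¹ * v⁻¹ = _; group
      _ = m.b * s * (m.b⁻¹ * (s⁻¹ * v)) * ((s⁻¹ * v)⁻¹ * s⁻¹) := by rw [hfb.inv_left.eq]; group
      _ = _ := by group
  have hcs : Commute s c := m.a_central hs h
  have hzc := (m.a_cases h).1
  have hb : z * m.b * z = m.b := by rw [m.b_props.1.eq, mul_assoc, m.zz, mul_one]
  have e2 : m.b * s⁻¹ * m.b⁻¹ * s = c := by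
    rw [← hzc, hc]
    calc m.b * s⁻¹ * m.b⁻¹ * s = (z * m.b * z) * (z * s * z) * (z * m.b * z)⁻¹ * (z * s * z)⁻¹ := by
          rw [hb, h1, inv_inv]
      _ = z * (m.b * (z * z) * s * m.b⁻¹ * (z * z)⁻¹ * s⁻¹) * z⁻¹ := by group
      _ = _ := by rw [m.zz, m.z_inv, inv_one, mul_one, mul_one]
  have e3 : c * c = 1 := by
    have e4 : m.b * s * m.b⁻¹ = c * s := by rw [hc]; group
    have e5 : m.b * s⁻¹ * m.b⁻¹ = c * s⁻¹ := by rw [← e2]; group
    have e6 : (m.b * s * m.b⁻¹) * (m.b * s⁻¹ * m.b⁻¹) = 1 := by group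
    rw [e4, e5, mul_assoc, ← mul_assoc s, hcs.eq, mul_assoc c s, mul_inv_cancel, mul_one] at e6
    exact e6
  have hc1 : c = 1 := by
    obtain ⟨-, -, h3⟩ := m.a_cases h
    rwa [pow_succ, pow_two, e3, one_mul] at h3
  refine m.mem_KB.2 ⟨hv, ?_⟩
  have : m.b * v = v * m.b := by
    calc m.b * v = c * v * m.b := by show _ = m.b * v * m.b⁻¹ * v⁻¹ * v * m.b; group
      _ = v * m.b := by rw [hc1, one_mul]
  exact this.symm

theorem T_nine_KB (hG : Ctx G) (h9 : Nat.card m.T = 9) : 9 ≤ Nat.card m.TB * Nat.card m.twist.TB := by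
  set N := (zpowers m.a).subgroupOf (V m.a) with hN
  haveI : N.Normal := ⟨fun c hc g => by
    rw [hN, mem_subgroupOf] at hc ⊢
    rw [Subgroup.coe_mul, Subgroup.coe_mul, InvMemClass.coe_inv, (m.a_central g.2 hc).eq, mul_inv_cancel_right]
    exact hc⟩
  letI : CommGroup (V m.a ⧸ N) := { (inferInstance : Group (V m.a ⧸ N)) with
    mul_comm := by
      intro p q
      induction p using QuotientGroup.induction_on with
      | H p =>
        induction q using QuotientGroup.induction_on with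
        | H q =>
          rw [← QuotientGroup.mk_mul, ← QuotientGroup.mk_mul, QuotientGroup.eq, hN, mem_subgroupOf]
          have := m.comm_mem (inv_mem q.2) (inv_mem p.2)
          simpa [mul_assoc] using this }
  let φ : V m.a →* V m.a :=
    { toFun := fun v => ⟨m.b * v * m.b⁻¹, m.V_conj_a m.a_b v.2⟩
      map_one' := Subtype.ext (by simp)
      map_mul' := fun p q => Subtype.ext (by simp [mul_assoc]) }
  let Φ : V m.a ⧸ N →* V m.a ⧸ N := QuotientGroup.map N N φ fun c hc => by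
    rw [mem_comap, hN, mem_subgroupOf] at *
    show m.b * (c : G) * m.b⁻¹ ∈ zpowers m.a
    obtain ⟨n, hn⟩ := mem_zpowers_iff.1 hc
    rw [← hn, (m.a_b.symm.zpow_right n).eq, mul_inv_cancel_right]
    exact zpow_mem (mem_zpowers _) _
  have h3 : ∀ w, Φ (Φ (Φ w)) = w := by
    intro w
    induction w using QuotientGroup.induction_on with
    | H v =>
      have e : φ (φ (φ v)) = v := Subtype.ext (by
        show m.b * (m.b * (m.b * (v : G) * m.b⁻¹) * m.b⁻¹) * m.b⁻¹ = v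
        have e3 : m.b * m.b * m.b = 1 := by rw [← m.b_props.2.1, pow_succ, pow_two]
        calc m.b * (m.b * (m.b * (v : G) * m.b⁻¹) * m.b⁻¹) * m.b⁻¹
            = (m.b * m.b * m.b) * v * (m.b * m.b * m.b)⁻¹ := by group
          _ = v := by rw [e3]; group)
      show ((φ (φ (φ v)) : V m.a) : V m.a ⧸ N) = v
      rw [e]
  have he : ∀ w : V m.a ⧸ N, w ^ 3 = 1 := by
    intro w
    induction w using QuotientGroup.induction_on with
    | H v =>
      obtain ⟨c, hc, x, hx, -, y, hy, -, e⟩ := m.decomp le_rfl m.a_mem_V (fun _ => m.z_norm) (fun _ => m.tau_norm) v.2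
      have hv : v = ⟨c, (zpowers_le.2 m.a_mem_V) hc⟩ * ⟨x, m.T_le hx⟩ * ⟨y, m.U_le hy⟩ := Subtype.ext e
      have hc1 : ((⟨c, (zpowers_le.2 m.a_mem_V) hc⟩ : V m.a) : V m.a ⧸ N) = 1 :=
        (QuotientGroup.eq_one_iff _).2 (mem_subgroupOf.2 hc)
      rw [hv, QuotientGroup.mk_mul, QuotientGroup.mk_mul, mul_pow, mul_pow, hc1, one_pow, one_mul,
        ← QuotientGroup.mk_pow, ← QuotientGroup.mk_pow, SubmonoidClass.mk_pow, SubmonoidClass.mk_pow]
      simp only [m.T_cube hG hx, m.twist.T_cube hG hy]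
      exact mul_one _
  have hW := card_le_fixed_cube Φ h3 he
  set D := Φ / MonoidHom.id (V m.a ⧸ N)
  set k := Nat.card D.ker
  have hNc : Nat.card N = 3 := by
    rw [hN, Nat.card_congr (subgroupOfEquivOfLe (zpowers_le.2 m.a_mem_V)).toEquiv, Nat.card_zpowers, m.orderOf_a]
  have hV : Nat.card (V m.a ⧸ N) = 81 := by
    have := card_eq_card_quotient_mul_card_subgroup N
    rw [m.card_V, h9, hNc] at this
    omega
  have hk : k * 3 ≤ Nat.card m.KB := by
    let C := D.ker.comap (QuotientGroup.mk' N)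
    have hidx : C.index = D.ker.index := index_comap_of_surjective _ (QuotientGroup.mk'_surjective N)
    have h1 := C.index_mul_card
    have h2 := D.ker.index_mul_card
    rw [hidx, m.card_V, h9] at h1
    rw [hV] at h2
    have hC : Nat.card C = k * 3 := by
      have hpos : 0 < D.ker.index := Nat.pos_of_ne_zero index_ne_zero_of_finite
      apply Nat.eq_of_mul_eq_mul_left hpos
      rw [h1, ← mul_assoc, h2]
      all_goals norm_num
    rw [← hC]
    refine Nat.card_le_card_of_injective (fun v => (⟨(v.1 : G), ?_⟩ : m.KB)) ?_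
    · have hv : D ((v.1 : V m.a) : V m.a ⧸ N) = 1 := v.2
      rw [MonoidHom.div_apply, MonoidHom.id_apply, div_eq_one] at hv
      have hv' : ((φ v.1 : V m.a) : V m.a ⧸ N) = ((v.1 : V m.a) : V m.a ⧸ N) := hv
      rw [QuotientGroup.eq, hN, mem_subgroupOf] at hv'
      refine m.KB_of_mod v.1.2 ?_
      have := m.a_central v.1.2 hv'
      have e : m.b * (v.1 : G) * m.b⁻¹ * (v.1 : G)⁻¹ = ((φ v.1)⁻¹ * v.1 : V m.a)⁻¹ := by
        have h' : (v.1 : G) * (((φ v.1)⁻¹ * v.1 : V m.a) : G) * (v.1 : G)⁻¹ = (((φ v.1)⁻¹ * v.1 : V m.a) : G) := by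
          rw [this.eq, mul_inv_cancel_right]
        rw [InvMemClass.coe_inv, ← h']
        show _ = ((v.1 : G) * ((m.b * (v.1 : G) * m.b⁻¹)⁻¹ * v.1) * (v.1 : G)⁻¹)⁻¹
        group
      rw [e]
      exact inv_mem hv'
    · intro p q h
      exact Subtype.ext (Subtype.ext (Subtype.mk.inj h))
  rw [hV] at hW
  have h27 := hk.trans m.card_KB_le
  have hd : ∀ {z' τ' : G} (m₀ : Mdl z' τ'), Nat.card m₀.TB = 1 ∨ Nat.card m₀.TB = 3 ∨ Nat.card m₀.TB = 9 := by
    intro z' τ' m₀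
    obtain ⟨m', h⟩ := m₀.T_props hG
    have hd : Nat.card m₀.TB ∣ Nat.card m'.EE :=
      (card_dvd_of_le (inf_le_left : m₀.TB ≤ m₀.T)).trans (card_dvd_of_le h)
    rw [m'.card_EE, show 9 = 3 ^ 2 by norm_num] at hd
    obtain ⟨k, hk, e⟩ := (Nat.dvd_prime_pow Nat.prime_three).1 hd
    interval_cases k <;> rw [e] <;> norm_num
  have k5 : 5 ≤ k := by
    by_contra hlt
    have := Nat.pow_le_pow_left (show k ≤ 4 by omega) 3
    omega
  rcases hd m with e1 | e1 | e1 <;> rcases hd m.twist with e2 | e2 | e2 <;> rw [e1, e2] at h27 ⊢ <;> omega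

/-- A fixed element exists outside the root group. -/
theorem exists_fixed (hG : Ctx G) : m.TB ≠ ⊥ ∨ m.twist.TB ≠ ⊥ := by
  by_contra hh
  push_neg at hh
  obtain ⟨hT, hU⟩ := hh
  have hK : ∀ v ∈ m.KB, v ∈ zpowers m.a := fun v hv => by
    obtain ⟨c, hc, x, hx, hxb, y, hy, hyb, rfl⟩ := m.decomp_KB hv
    have h1 : x = 1 := by
      have := m.mem_TB.2 ⟨hx, hxb⟩
      rwa [hT, mem_bot] at this
    have h2 : y = 1 := by
      have := m.twist.mem_TB.2 ⟨hy, hyb⟩
      rwa [hU, mem_bot] at this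
    rwa [h1, h2, mul_one, mul_one]
  have hnz : m.EE ≤ centralizer ((m.EE : Subgroup G) : Set G) := fun p hp =>
    mem_centralizer_iff.2 fun q hq => (m.EE_comm hq hp).eq
  have hC : ∀ g, Commute m.a g → Commute m.b g → ∃ i j : Fin 3, g = m.i₁ (Um ^ (i : ℕ)) * m.i₂ (Um ^ (j : ℕ)) ∨
      g = z * (m.i₁ (Um ^ (i : ℕ)) * m.i₂ (Um ^ (j : ℕ))) := by
    intro g ha hb
    obtain ⟨v, hv, c, hzc, hac, rfl⟩ := m.cent_split ha
    obtain ⟨i, d, rfl⟩ := m.cent_za hzc hac
    set c := m.i₁ (Um ^ (i : ℕ)) * m.i₂ d with hc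
    have e : v⁻¹ * (m.b * v * m.b⁻¹) = c * (m.b * c * m.b⁻¹)⁻¹ := by
      calc v⁻¹ * (m.b * v * m.b⁻¹) = v⁻¹ * (m.b * (v * c)) * (m.b⁻¹) * (m.b * c * m.b⁻¹)⁻¹ := by group
        _ = _ := by rw [hb.eq]; group
    have hmem : c * (m.b * c * m.b⁻¹)⁻¹ ∈ zpowers m.a := by
      refine m.V_fix_z (e ▸ mul_mem (inv_mem hv) (m.V_conj_a m.a_b hv)) ?_
      exact hzc.mul_right (((m.b_props.1).mul_right hzc).mul_right m.b_props.1.inv_right).inv_right
    have hd : d * Um = Um * d := by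
      have e2 : c * (m.b * c * m.b⁻¹)⁻¹ = m.i₁ 1 * m.i₂ (d * (Um * d * Um⁻¹)⁻¹) := by
        rw [hc, show m.b = m.i₁ 1 * m.i₂ Um by rw [map_one, one_mul], m.inv_pair, m.mul_pair, m.mul_pair, m.inv_pair,
          m.mul_pair]
        congr 3 <;> group
      rw [e2] at hmem
      have key : ∀ j : S2, m.i₁ 1 * m.i₂ (d * (Um * d * Um⁻¹)⁻¹) = m.i₁ j * m.i₂ 1 → j ^ 3 = 1 →
          d * Um = Um * d := by
        intro j hj hj3
        obtain ⟨-, e3⟩ := m.pair3_eq (one_pow 3) hj3 hj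
        exact (mul_inv_eq_iff_eq_mul.1 (mul_inv_eq_one.1 e3).symm).symm
      rcases m.zpow_a hmem with h | h | h
      · exact key 1 (by rw [h, map_one, map_one, mul_one]) (one_pow 3)
      · exact key Um (by rw [h, map_one, mul_one]) U_cube
      · exact key Um⁻¹ (by rw [h, map_one, mul_one, map_inv]) (by rw [inv_pow, U_cube, inv_one])
    have hcb : Commute c m.b := by
      rw [hc, show m.b = m.i₁ 1 * m.i₂ Um by rw [map_one, one_mul]]
      show _ * _ = _ * _
      rw [m.mul_pair, m.mul_pair, mul_one, one_mul, hd]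
    have hvb : v ∈ m.KB := by
      refine m.mem_KB.2 ⟨hv, ?_⟩
      have := hb.symm.mul_left hcb.inv_left
      rwa [mul_inv_cancel_right] at this
    obtain ⟨k, hk⟩ : ∃ k : Fin 3, v = m.i₁ (Um ^ (k : ℕ)) := by
      rcases m.zpow_a (hK v hvb) with h | h | h
      · exact ⟨0, by simpa using h⟩
      · exact ⟨1, by simpa using h⟩
      · refine ⟨2, ?_⟩
        rw [h, ← map_inv]
        congr 1
        decide +kernel
    obtain ⟨p, hp⟩ := add_U_pow k i
    obtain ⟨j, rfl | rfl⟩ := cent_U d hd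
    · exact ⟨p, j, Or.inl (by rw [hc, hk, ← mul_assoc, ← map_mul, hp])⟩
    · refine ⟨p, j, Or.inr ?_⟩
      rw [hc, hk, ← mul_assoc, ← map_mul, hp, map_mul, m.neg₂, ← mul_assoc]
      have : Commute z (m.i₁ (Um ^ (p : ℕ))) := by simpa using m.mem_cent (Um ^ (p : ℕ)) 1
      rw [← this.eq, mul_assoc]
  -- the normaliser of the group of order nine
  set E := m.EE with hE
  have hN : ∀ g ∈ normalizer (E : Set G), ∃ i j : Fin 3, ∃ e ∈ ({1, z} : Set G), ∃ t ∈ ({1, τ} : Set G),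
      g = e * (m.i₁ (Um ^ (i : ℕ)) * m.i₂ (Um ^ (j : ℕ))) * t := by
    intro g hg
    have hga : g * m.a * g⁻¹ ∈ E := (mem_normalizer_iff.1 hg _).1 m.a_mem
    have hgb : g * m.b * g⁻¹ ∈ E := (mem_normalizer_iff.1 hg _).1 m.b_mem
    have hz : Commute z g := by
      have hc1 : Commute m.a (g⁻¹ * z * g) := by
        have := conj_fix (g := g⁻¹) ((m.EE_props hga).1.symm)
        simpa [mul_assoc] using this
      have hc2 : Commute m.b (g⁻¹ * z * g) := by
        have := conj_fix (g := g⁻¹) ((m.EE_props hgb).1.symm)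
        simpa [mul_assoc] using this
      have h2 : g⁻¹ * z * g * (g⁻¹ * z * g) = 1 := by
        rw [show g⁻¹ * z * g * (g⁻¹ * z * g) = g⁻¹ * (z * z) * g by group, m.zz, mul_one, inv_mul_cancel]
      have hzc : Commute z (g⁻¹ * z * g) := by
        obtain ⟨i, j, h | h⟩ := hC _ hc1 hc2 <;> rw [h]
        · exact m.mem_cent _ _
        · exact (Commute.refl z).mul_right (m.mem_cent _ _)
      rcases m.invol_unique hzc hc1 h2 with h | h
      · exfalso
        have hz1 : z = 1 := by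
          calc z = g * (g⁻¹ * z * g) * g⁻¹ := by group
            _ = 1 := by rw [h, mul_one, mul_inv_cancel]
        simpa [hz1] using m.orderOf_z
      · calc z * g = g * (g⁻¹ * z * g) := by group
          _ = g * z := by rw [h]
    -- reduce to an element without the outer involution
    obtain ⟨c, d, hcd⟩ := (m.cent g).1 hz
    have hconj : ∀ c d : S2, (m.i₁ c * m.i₂ d) * m.a * (m.i₁ c * m.i₂ d)⁻¹ ∈ E →
        (m.i₁ c * m.i₂ d) * m.b * (m.i₁ c * m.i₂ d)⁻¹ ∈ E →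
        Commute m.a (m.i₁ c * m.i₂ d) ∧ Commute m.b (m.i₁ c * m.i₂ d) := by
      intro c d h1 h2
      have h1' := m.EE_comm h1 m.a_mem
      have h2' := m.EE_comm h2 m.b_mem
      have ea : m.i₁ Um = m.i₁ Um * m.i₂ 1 := by rw [map_one, mul_one]
      have eb : m.i₂ Um = m.i₁ 1 * m.i₂ Um := by rw [map_one, one_mul]
      change Commute (_ * m.i₁ Um * _) (m.i₁ Um) at h1'
      change Commute (_ * m.i₂ Um * _) (m.i₂ Um) at h2'
      rw [ea, m.inv_pair, m.mul_pair, m.mul_pair] at h1'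
      rw [eb, m.inv_pair, m.mul_pair, m.mul_pair] at h2'
      have hc : c * Um = Um * c := (m.pair_comm h1').elim (fun k => norm_U c k.1) fun k => absurd k.1 (norm_U' c)
      have hd : d * Um = Um * d := (m.pair_comm h2').elim (fun k => norm_U d k.2) fun k => absurd k.2 (norm_U' d)
      constructor
      · rw [show m.a = m.i₁ Um * m.i₂ 1 by rw [map_one, mul_one]]
        show _ * _ = _ * _
        rw [m.mul_pair, m.mul_pair, one_mul, mul_one, hc]
      · rw [show m.b = m.i₁ 1 * m.i₂ Um by rw [map_one, one_mul]]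
        show _ * _ = _ * _
        rw [m.mul_pair, m.mul_pair, one_mul, mul_one, hd]
    obtain ⟨t, ht, hgt⟩ : ∃ t ∈ ({1, τ} : Set G), g = m.i₁ c * m.i₂ d * t := by
      rcases hcd with h | h
      exacts [⟨1, Or.inl rfl, by rw [mul_one, h]⟩, ⟨τ, Or.inr rfl, h⟩]
    have hh : (m.i₁ c * m.i₂ d) * m.a * (m.i₁ c * m.i₂ d)⁻¹ ∈ E ∧
        (m.i₁ c * m.i₂ d) * m.b * (m.i₁ c * m.i₂ d)⁻¹ ∈ E := by
      rcases ht with ht' | ht'
      · rw [ht', mul_one] at hgt; exact hgt ▸ ⟨hga, hgb⟩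
      · rw [Set.mem_singleton_iff] at ht'
        rw [ht'] at hgt
        have key : ∀ p, p ∈ E → τ * p * τ = p⁻¹ → g * p * g⁻¹ ∈ E →
            (m.i₁ c * m.i₂ d) * p * (m.i₁ c * m.i₂ d)⁻¹ ∈ E := fun p _ hp hgp => by
          have : (m.i₁ c * m.i₂ d) * p * (m.i₁ c * m.i₂ d)⁻¹ = (g * p * g⁻¹)⁻¹ := by
            rw [hgt, mul_inv_rev _ τ, m.tau_inv,
              show m.i₁ c * m.i₂ d * τ * p * (τ * (m.i₁ c * m.i₂ d)⁻¹) =
                m.i₁ c * m.i₂ d * (τ * p * τ) * (m.i₁ c * m.i₂ d)⁻¹ by group, hp]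
            group
          rw [this]; exact inv_mem hgp
        exact ⟨key _ m.a_mem m.a_props.2.2 hga, key _ m.b_mem m.b_props.2.2 hgb⟩
    obtain ⟨ha', hb'⟩ := hconj c d hh.1 hh.2
    obtain ⟨i, j, h | h⟩ := hC _ ha' hb'
    · exact ⟨i, j, 1, Or.inl rfl, t, ht, by rw [hgt, h, one_mul]⟩
    · exact ⟨i, j, z, Or.inr rfl, t, ht, by rw [hgt, h]⟩
  haveI : Fact (Nat.Prime 3) := ⟨Nat.prime_three⟩
  -- the group is a Sylow subgroup
  have hp : IsPGroup 3 E := fun g => ⟨1, Subtype.ext ((m.EE_props g.2).2.1)⟩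
  obtain ⟨P, hP⟩ := hp.exists_le_sylow
  have hPE : (P : Subgroup G) = E := by
    refine le_antisymm ?_ hP
    by_contra hlt
    haveI : Group.IsNilpotent P := P.2.isNilpotent
    have hne : E.subgroupOf P ≠ ⊤ := fun h => hlt (subgroupOf_eq_top.1 h)
    obtain ⟨q, hq, hqn⟩ := SetLike.exists_of_lt ((Group.normalizerCondition_of_isNilpotent (G := P)) _
      (lt_top_iff_ne_top.2 hne))
    have hqN : (q : G) ∈ normalizer (E : Set G) := by
      rw [mem_normalizer_iff] at hq ⊢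
      intro p
      constructor
      · intro hp'
        exact (hq ⟨p, hP hp'⟩).1 hp'
      · intro hp'
        have hpP : p ∈ (P : Subgroup G) := by
          have := mul_mem (mul_mem (inv_mem q.2) (hP hp')) q.2
          simpa [mul_assoc] using this
        exact (hq ⟨p, hpP⟩).2 hp'
    obtain ⟨i, j, e, he, t, ht, hqe⟩ := hN _ hqN
    refine hqn (mem_subgroupOf.2 ?_)
    obtain ⟨k, hk⟩ := P.2 q
    have hodd : Odd (orderOf (q : G)) := by
      have : (q : G) ^ 3 ^ k = 1 := congrArg Subtype.val hk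
      exact (Odd.pow (by decide)).of_dvd_nat (orderOf_dvd_of_pow_eq_one this)
    refine mem_of_sq hodd ?_
    have hp0 : m.i₁ (Um ^ (i : ℕ)) * m.i₂ (Um ^ (j : ℕ)) ∈ E := ⟨i, j, rfl⟩
    set p := m.i₁ (Um ^ (i : ℕ)) * m.i₂ (Um ^ (j : ℕ)) with hpd
    have hzp : Commute z p := m.mem_cent _ _
    have hzt : Commute z t := by
      rcases ht with rfl | rfl
      exacts [Commute.one_right z, m.z_tau]
    have hez : e * e = 1 ∧ Commute e p ∧ Commute e t := by
      rcases he with rfl | rfl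
      exacts [⟨one_mul 1, Commute.one_left p, Commute.one_left t⟩, ⟨m.zz, hzp, hzt⟩]
    have : (q : G) * q = p * (t * p * t) * (e * e) := by
      rw [hqe]
      calc e * p * t * (e * p * t) = e * p * (t * e) * p * t := by group
        _ = e * p * (e * t) * p * t := by rw [hez.2.2.eq]
        _ = e * (p * e) * (t * p * t) := by group
        _ = e * (e * p) * (t * p * t) := by rw [hez.2.1.eq]
        _ = (e * e) * (p * (t * p * t)) := by group
        _ = p * (t * p * t) * (e * e) := by rw [hez.1, one_mul, mul_one]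
    rw [this, hez.1, mul_one]
    rcases ht with rfl | rfl
    · simpa using mul_mem hp0 hp0
    · rw [(m.EE_props hp0).2.2, mul_inv_cancel]; exact one_mem _
  have hidx : ((centralizer ((P : Subgroup G) : Set G)).subgroupOf
      (normalizer ((P : Subgroup G) : Set G))).index = 2 := by
    rw [hPE]
    refine index_eq_two_iff.2 ⟨⟨τ, mem_normalizer_iff.2 fun p => ?_⟩, fun g => ?_⟩
    · rw [m.tau_inv]
      constructor <;> intro hp'
      · rw [(m.EE_props hp').2.2]; exact inv_mem hp'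
      · have := (m.EE_props hp').2.2
        rw [show τ * (τ * p * τ) * τ = (τ * τ) * p * (τ * τ) by group, m.tt, one_mul, mul_one] at this
        rw [this]; exact inv_mem hp'
    · simp only [mem_subgroupOf, Subgroup.coe_mul]
      obtain ⟨i, j, e, he, t, ht, hge⟩ := hN _ g.2
      have hcore : e * (m.i₁ (Um ^ (i : ℕ)) * m.i₂ (Um ^ (j : ℕ))) ∈ centralizer (E : Set G) := by
        refine mul_mem (mem_centralizer_iff.2 fun p hp' => ?_) (hnz ⟨i, j, rfl⟩)
        rcases he with rfl | rfl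
        exacts [(Commute.one_right p).eq, (m.EE_props hp').1.symm.eq]
      have htau : τ ∉ centralizer (E : Set G) := fun h => by
        have h1 := mem_centralizer_iff.1 h _ m.a_mem
        have h2 := m.a_props.2.2
        rw [← h1, mul_assoc, m.tt, mul_one] at h2
        exact m.a_ne (inter_TU.A4Stab_eq_one (by rw [m.orderOf_a]; decide) (eq_inv_iff_mul_eq_one.1 h2))
      rw [xor_iff_iff_not]
      rcases ht with ht' | ht'
      · rw [hge, ht', mul_one]
        exact iff_of_false (fun h => htau ((mul_mem_cancel_left hcore).1 h)) (fun h => h hcore)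
      · rw [Set.mem_singleton_iff] at ht'
        rw [hge, ht', mul_assoc (e * _) τ τ, m.tt, mul_one]
        exact iff_of_true hcore (fun h => htau ((mul_mem_cancel_left hcore).1 h))
  haveI hab : IsMulCommutative (P : Subgroup G) := ⟨⟨fun p q => Subtype.ext (m.EE_comm (hPE.le p.2) (hPE.le q.2)).eq⟩⟩
  have hnc : ¬ IsCyclic (P : Subgroup G) := fun hc => by
    haveI := hc
    obtain ⟨g, hg⟩ := IsCyclic.exists_ofOrder_eq_natCard (α := (P : Subgroup G))
    have h1 : orderOf g ∣ 3 := orderOf_dvd_of_pow_eq_one (Subtype.ext (m.EE_props (hPE.le g.2)).2.1)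
    rw [hg, hPE, m.card_EE] at h1
    norm_num at h1
  rcases Cfsg.Agent.S3347.result 3 (by decide) P hab hnc hidx with h | h
  exacts [h hG.top, hG.nps h]

end Mdl

end Cfsg.Lib.GTwoType
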