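import Cfsg.Agent.Lib.GTwoType.Base
import Cfsg.Agent.S3347

/-!
# The odd part of the centraliser of a root element

It is the product of the root group and the parts fixed by the two outer involutions, and it is never
centralised by the other root element in a trivial way.
-/

set_option autoImplicit false

namespace Cfsg.Lib.GTwoType

open Subgroup Cfsg

theorem UL_neg : (Um * (Jm * Um * Jm⁻¹)) ^ 3 = ng := by decide +kernel

theorem norm_U : ∀ c : S2, (c * Um * c⁻¹) * Um = Um * (c * Um * c⁻¹) → c * Um = Um * c := by decide +kernel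
theorem norm_U' : ∀ c : S2, (c * Um * c⁻¹) * Um ≠ ng * (Um * (c * Um * c⁻¹)) := by decide +kernel

theorem card_ker_comp {A B C : Type*} [Group A] [Group B] [Group C] [Finite A] [Finite B] (f : A →* B) (g : B →* C) :
    Nat.card (g.comp f).ker ≤ Nat.card f.ker * Nat.card g.ker := by
  let r : (g.comp f).ker →* g.ker := (f.comp (g.comp f).ker.subtype).codRestrict g.ker fun x => x.2
  rw [card_eq_card_quotient_mul_card_subgroup r.ker, mul_comm]
  refine Nat.mul_le_mul ?_ ?_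
  · refine Nat.card_le_card_of_injective (fun x => (⟨x.1.1, congrArg Subtype.val (MonoidHom.mem_ker.1 x.2)⟩ : f.ker)) ?_
    intro x y h
    exact Subtype.ext (Subtype.ext (Subtype.mk.inj h))
  · rw [Nat.card_congr (QuotientGroup.quotientKerEquivRange r).toEquiv]
    exact card_le_card_group r.range

namespace Mdl

variable {G : Type*} [Group G] [Finite G] {z τ : G} (m : Mdl z τ)

/-- The part of the core fixed by the other outer involution. -/
abbrev U : Subgroup G := m.twist.T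

include m

theorem twist_a : m.twist.a = m.a := rfl
theorem twist_b : m.twist.b = m.b := rfl

theorem mem_U {y : G} : y ∈ m.U ↔ y ∈ V m.a ∧ Commute y (z * τ) := m.twist.mem_T

theorem T_le : m.T ≤ V m.a := inf_le_left
theorem U_le : m.U ≤ V m.a := inf_le_left

theorem mid {v : G} (hi : z * v * z = v⁻¹) : τ * v * τ = v ↔ (z * τ) * v * (z * τ) = v⁻¹ := by
  have e : (z * τ) * v * (z * τ) = z * (τ * v * τ) * z := by
    rw [m.z_tau.eq]
    calc τ * z * v * (τ * z) = τ * z * v * (z * τ) := by rw [m.z_tau.eq]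
      _ = τ * (z * v * z) * τ := by group
      _ = (τ * v * τ)⁻¹ := by rw [hi, mul_inv_rev, mul_inv_rev, m.tau_inv]; group
      _ = z * (τ * v * τ) * z := by
        rw [show z * (τ * v * τ) * z = z * τ * v * (τ * z) by group, m.z_tau.eq, ← m.z_tau.eq]
        calc (τ * v * τ)⁻¹ = τ * (z * v * z) * τ := by rw [hi, mul_inv_rev, mul_inv_rev, m.tau_inv]; group
          _ = τ * z * v * (z * τ) := by group
          _ = z * τ * v * (z * τ) := by rw [← m.z_tau.eq]
  constructor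
  · intro h; rw [e, h, hi]
  · intro h
    rw [e] at h
    calc τ * v * τ = (z * z) * (τ * v * τ) * (z * z) := by rw [m.zz, one_mul, mul_one]
      _ = z * (z * (τ * v * τ) * z) * z := by group
      _ = z * v⁻¹ * z := by rw [h]
      _ = (z * v * z)⁻¹ := by rw [mul_inv_rev, mul_inv_rev, m.z_inv]; group
      _ = v := by rw [hi, inv_inv]

theorem a_cases {v : G} (hv : v ∈ zpowers m.a) : z * v * z = v ∧ τ * v * τ = v⁻¹ ∧ v ^ 3 = 1 := by
  have hz : z * m.a * z = m.a := by rw [m.a_props.1.eq, mul_assoc, m.zz, mul_one]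
  rcases m.zpow_a hv with rfl | rfl | rfl
  · simp [m.zz, m.tt]
  · exact ⟨hz, m.a_props.2.2, m.a_props.2.1⟩
  · refine ⟨?_, ?_, by rw [inv_pow, m.a_props.2.1, inv_one]⟩
    · rw [show z * (m.a)⁻¹ * z = (z * m.a * z)⁻¹ by rw [mul_inv_rev, mul_inv_rev, m.z_inv]; group, hz]
    · rw [show τ * (m.a)⁻¹ * τ = (τ * m.a * τ)⁻¹ by rw [mul_inv_rev, mul_inv_rev, m.tau_inv]; group, m.a_props.2.2]

theorem a_central {v c : G} (hv : v ∈ V m.a) (hc : c ∈ zpowers m.a) : Commute v c := by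
  obtain ⟨n, rfl⟩ := mem_zpowers_iff.1 hc
  exact (V_comm hv).zpow_right n

/-- The commutators of the core lie in the root group. -/
theorem comm_mem {v w : G} (hv : v ∈ V m.a) (hw : w ∈ V m.a) : v * w * v⁻¹ * w⁻¹ ∈ zpowers m.a := by
  have key : ∀ {v : G}, v ∈ V m.a → ∃ s ∈ V m.a, ∃ c ∈ zpowers m.a, z * s * z = s⁻¹ ∧ v = s * c := by
    intro v hv
    obtain ⟨s, hs, h1, h2⟩ := split_invol m.zz (odd_V m.a) (fun x hx => m.z_norm hx) hv
    refine ⟨s, hs, s⁻¹ * v, m.V_fix_z (mul_mem (inv_mem hs) hv) ?_, h1, by group⟩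
    show z * (s⁻¹ * v) = s⁻¹ * v * z
    calc z * (s⁻¹ * v) = z * (s⁻¹ * v) * (z * z) := by rw [m.zz, mul_one]
      _ = (z * (s⁻¹ * v) * z) * z := by group
      _ = s⁻¹ * v * z := by rw [h2]
  obtain ⟨s, hs, c, hc, si, rfl⟩ := key hv
  obtain ⟨t, ht, d, hd, ti, rfl⟩ := key hw
  obtain ⟨u, hu, e, he, ui, hst⟩ := key (mul_mem hs ht)
  have cs := m.a_central hs hc
  have ct := m.a_central ht hc
  have ds := m.a_central hs hd
  have dt := m.a_central ht hd
  have ecd : ∀ {p : G}, p ∈ V m.a → Commute p e := fun hp => m.a_central hp he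
  have h1 : s⁻¹ * t⁻¹ = (t⁻¹ * s⁻¹) * (e * e) := by
    calc s⁻¹ * t⁻¹ = (z * s * z) * (z * t * z) := by rw [si, ti]
      _ = z * s * (z * z) * t * z := by group
      _ = z * (u * e) * z := by rw [m.zz, ← hst]; group
      _ = z * u * (z * z) * e * z := by rw [m.zz]; group
      _ = (z * u * z) * (z * e * z) := by group
      _ = u⁻¹ * e := by rw [ui, (m.a_cases he).1]
      _ = e * (e⁻¹ * u⁻¹) * e := by group
      _ = e * (t⁻¹ * s⁻¹) * e := by rw [← mul_inv_rev, ← mul_inv_rev, hst]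
      _ = (t⁻¹ * s⁻¹) * (e * e) := by
        rw [← ((ecd (mul_mem (inv_mem ht) (inv_mem hs))).eq), mul_assoc]
  have h2 : s * t * s⁻¹ * t⁻¹ = e * e := by rw [mul_assoc (s * t), h1]; group
  have hcd : Commute c d := by
    obtain ⟨i, rfl⟩ := mem_zpowers_iff.1 hc
    obtain ⟨j, rfl⟩ := mem_zpowers_iff.1 hd
    exact Commute.zpow_zpow_self _ _ _
  rw [show s * c * (t * d) * (s * c)⁻¹ * (t * d)⁻¹ = s * (c * t) * (d * c⁻¹) * s⁻¹ * (d⁻¹ * t⁻¹) by group,
    ← ct.eq, ← (hcd.inv_left).eq]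
  rw [show s * (t * c) * (c⁻¹ * d) * s⁻¹ * (d⁻¹ * t⁻¹) = s * t * (d * s⁻¹) * (d⁻¹ * t⁻¹) by group,
    ← (ds.inv_left).eq, show s * t * (s⁻¹ * d) * (d⁻¹ * t⁻¹) = s * t * s⁻¹ * t⁻¹ by group, h2]
  exact mul_mem he he

/-- The normal form inside a subgroup invariant under the four group. -/
theorem decomp {K : Subgroup G} (hK : K ≤ V m.a) (ha : m.a ∈ K) (hz : ∀ v ∈ K, z * v * z ∈ K)
    (ht : ∀ v ∈ K, τ * v * τ ∈ K) {v : G} (hv : v ∈ K) :
    ∃ c ∈ zpowers m.a, ∃ x, x ∈ m.T ∧ x ∈ K ∧ ∃ y, y ∈ m.U ∧ y ∈ K ∧ v = c * x * y := by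
  have hodd : Odd (Nat.card K) := (odd_V m.a).of_dvd_nat (card_dvd_of_le hK)
  obtain ⟨s, hs, h1, h2⟩ := split_invol m.zz hodd hz hv
  have hf : s⁻¹ * v ∈ zpowers m.a := m.V_fix_z (hK (mul_mem (inv_mem hs) hv)) (by
    show z * (s⁻¹ * v) = s⁻¹ * v * z
    calc z * (s⁻¹ * v) = z * (s⁻¹ * v) * (z * z) := by rw [m.zz, mul_one]
      _ = (z * (s⁻¹ * v) * z) * z := by group
      _ = s⁻¹ * v * z := by rw [h2])
  -- split along the outer involution
  obtain ⟨y, hy, h3, h4⟩ := split_invol m.tt hodd ht hs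
  have hzy : z * y * z ∈ K := hz _ hy
  -- the inverted and the fixed component
  obtain ⟨p, hp, h5, h6⟩ := split_invol m.zz hodd hz hy
  obtain ⟨q, hq, h7, h8⟩ := split_invol m.zz hodd hz (mul_mem (inv_mem hy) hs)
  have fix : ∀ {r : G}, r ∈ K → z * r * z = r → r ∈ zpowers m.a := fun {r} hr h => m.V_fix_z (hK hr) (by
    show z * r = r * z
    calc z * r = z * r * (z * z) := by rw [m.zz, mul_one]
      _ = (z * r * z) * z := by group
      _ = r * z := by rw [h])
  have hy1 := fix (mul_mem (inv_mem hp) hy) h6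
  have hq1 := fix (mul_mem (inv_mem hq) (mul_mem (inv_mem hy) hs)) h8
  set k := p⁻¹ * y with hk
  set l := q⁻¹ * (y⁻¹ * s) with hl
  have hpV := hK hp
  have hqV := hK hq
  have hp2 : τ * p * τ = p⁻¹ := by
    have e : τ * y * τ = (τ * p * τ) * k⁻¹ := by
      rw [← (m.a_cases hy1).2.1]
      calc τ * y * τ = τ * p * (τ * τ) * (p⁻¹ * y) * τ := by rw [m.tt]; group
        _ = τ * p * τ * (τ * k * τ) := by rw [hk]; group
    rw [h3, show y = p * k by rw [hk]; group, mul_inv_rev] at e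
    have hkc : Commute p k := m.a_central hpV hy1
    rw [(hkc.inv_inv).eq.symm] at e
    exact (mul_right_cancel e).symm
  have hq2 : τ * q * τ = q * (l * l) := by
    have e : τ * (y⁻¹ * s) * τ = (τ * q * τ) * l⁻¹ := by
      rw [← (m.a_cases hq1).2.1]
      calc τ * (y⁻¹ * s) * τ = τ * q * (τ * τ) * (q⁻¹ * (y⁻¹ * s)) * τ := by rw [m.tt]; group
        _ = τ * q * τ * (τ * l * τ) := by rw [hl]; group
    rw [h4, show y⁻¹ * s = q * l by rw [hl]; group] at e
    rw [← mul_assoc, e, inv_mul_cancel_right]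
  have hl1 : l = 1 := by
    have h9 : z * (τ * q * τ) * z = (τ * q * τ)⁻¹ := by
      calc z * (τ * q * τ) * z = z * τ * q * (τ * z) := by group
        _ = τ * z * q * (z * τ) := by rw [← m.z_tau.eq]
        _ = τ * (z * q * z) * τ := by group
        _ = _ := by rw [h7, mul_inv_rev, mul_inv_rev, m.tau_inv]; group
    rw [hq2] at h9
    have e1 : z * (q * (l * l)) * z = q⁻¹ * (l * l) := by
      calc z * (q * (l * l)) * z = z * q * (z * z) * (l * l) * z := by rw [m.zz]; group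
        _ = (z * q * z) * (z * (l * l) * z) := by group
        _ = _ := by rw [h7, (m.a_cases (mul_mem hq1 hq1)).1]
    rw [e1, mul_inv_rev, ((m.a_central hqV (mul_mem hq1 hq1)).inv_inv).symm.eq, mul_left_cancel_iff] at h9
    obtain ⟨-, -, h3l⟩ := m.a_cases hq1
    have h10 : l * l * (l * l) = 1 := eq_inv_iff_mul_eq_one.1 h9
    calc l = l * l * (l * l) * (l ^ 3)⁻¹ := by group
      _ = 1 := by rw [h10, h3l, inv_one, mul_one]
  rw [hl1, mul_one, mul_one] at hq2
  have hd := m.comm_mem hpV hqV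
  refine ⟨k * (p * q * p⁻¹ * q⁻¹) * (s⁻¹ * v), mul_mem (mul_mem hy1 hd) hf, q, m.mem_T.2 ⟨hqV, ?_⟩, hq,
    p, m.mem_U.2 ⟨hpV, ?_⟩, hp, ?_⟩
  · show q * τ = τ * q
    calc q * τ = τ * q * τ * τ := by rw [hq2]
      _ = τ * q := by rw [mul_assoc, m.tt, mul_one]
  · have hz' : (z * τ) * p * (z * τ) = p := by
      calc (z * τ) * p * (z * τ) = τ * z * p * (z * τ) := by rw [m.z_tau.eq]
        _ = τ * (z * p * z) * τ := by group
        _ = (τ * p * τ)⁻¹ := by rw [h5, mul_inv_rev, mul_inv_rev, m.tau_inv]; group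
        _ = p := by rw [hp2, inv_inv]
    show p * (z * τ) = z * τ * p
    calc p * (z * τ) = (z * τ) * p * ((z * τ) * (z * τ)) := by rw [← mul_assoc ((z * τ) * p), hz']
      _ = z * τ * p := by rw [m.twist.tt, mul_one]
  · have hkp : Commute p k := m.a_central hpV hy1
    have hsf : Commute (q * p) (s⁻¹ * v) := m.a_central (mul_mem hqV hpV) hf
    have hs' : s = p * k * q := by
      have e1 : y⁻¹ * s = q * l := by rw [hl]; group
      rw [hl1, mul_one] at e1
      calc s = y * (y⁻¹ * s) := by group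
        _ = p * k * q := by rw [e1, hk]; group
    calc v = s * (s⁻¹ * v) := by group
      _ = k * (p * q * p⁻¹ * q⁻¹) * (q * p * (s⁻¹ * v)) := by rw [hs', hkp.eq]; group
      _ = k * (p * q * p⁻¹ * q⁻¹) * (s⁻¹ * v) * q * p := by rw [hsf.eq]; group

end Mdl

end Cfsg.Lib.GTwoType
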