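import Cfsg.Agent.Lib.GTwoType.Nine
import Cfsg.Agent.Lib.GTwoAmalgam.Main

/-!
# The two parabolic subgroups

The normalisers of the root groups of the two frames satisfy the hypotheses of the amalgam recognition.
-/

set_option autoImplicit false

namespace Cfsg.Lib.GTwoType

open Subgroup Cfsg Matrix

/-- Two by two matrices over the field with three elements. -/
abbrev M3 := Matrix (Fin 2) (Fin 2) (ZMod 3)

/-- The diagonal matrix of determinant minus one. -/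
def Dm : M3 := !![1, 0; 0, -1]

/-- The determinant one part of an invertible matrix. -/
def slv (M : M3) : M3 := if M.det = 1 then M else M * Dm

/-- The determinant one part as an element of `SL(2,3)`. -/
def sl (M : M3) : S2 := if h : (slv M).det = 1 then ⟨slv M, h⟩ else 1

theorem sl_mul : ∀ M N : M3, M.det ≠ 0 → N.det ≠ 0 →
    sl (M * N) = if M.det = 1 then sl M * sl N else sl M * dc (sl N) := by decide +kernel
theorem sl_inj : ∀ M : M3, M.det = 1 → sl M = 1 → M = 1 := by decide +kernel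
theorem sl_pre : ∀ d : S2, sl d.1 = d ∧ (d.1 * Dm).det = -1 ∧ sl (d.1 * Dm) = d := by decide +kernel
theorem sl_neg : (-1 : M3).det = 1 ∧ sl (-1) = ng := by decide +kernel
set_option synthInstance.maxSize 4000 in
set_option synthInstance.maxHeartbeats 400000 in
theorem minus_word : ∀ M : M3, M.det ≠ 0 → M ≠ 1 →
    M = -1 ∨ ∃ N : M3, N.det ≠ 0 ∧ M * N * GTwoAmalgam.inv2 (N * M) * (M * N * GTwoAmalgam.inv2 (N * M)) = -1 := by
  decide +kernel
theorem no_flip : ∀ c : S2, c * Um ≠ Um⁻¹ * c ∧ c * Um ≠ ng * (Um⁻¹ * c) := by decide +kernel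
theorem straighten : ∀ c : S2, c * Um = Um * c →
    ∃ k : S2, k * Um = Um * k ∧ (k * c * (dc k)⁻¹ = 1 ∨ k * c * (dc k)⁻¹ = ng) := by decide +kernel
theorem U_still : ∀ c : S2, c * Um = Um * c → c * (dc c)⁻¹ ≠ ng := by decide +kernel
theorem not_flip_U : ∀ c : S2, c * Um ≠ ng * (Um * c) := by decide +kernel

namespace Mdl

variable {G : Type*} [Group G] [Finite G] {z τ : G} (m : Mdl z τ)
include m

theorem mem_N_iff {g : G} : g ∈ normalizer (zpowers m.a : Set G) ↔ g * m.a * g⁻¹ = m.a ∨ g * m.a * g⁻¹ = m.a⁻¹ := by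
  constructor
  · intro hg
    rcases m.zpow_a ((mem_normalizer_iff.1 hg _).1 (mem_zpowers m.a)) with e | e | e
    · exact absurd (by simpa using e) m.a_ne
    · exact Or.inl e
    · exact Or.inr e
  · intro h
    refine norm_of_le (zpowers_le.2 ?_)
    show g * m.a * g⁻¹ ∈ zpowers m.a
    rcases h with e | e <;> rw [e]
    exacts [mem_zpowers _, inv_mem (mem_zpowers _)]

theorem N_conj_V {g v : G} (hg : g ∈ normalizer (zpowers m.a : Set G)) (hv : v ∈ V m.a) : g * v * g⁻¹ ∈ V m.a := by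
  have h := V_conj_le m.a g v hv
  rcases m.mem_N_iff.1 hg with e | e <;> rw [e] at h
  · exact h
  · rwa [V_inv] at h

theorem V_le_N : V m.a ≤ normalizer (zpowers m.a : Set G) := fun v hv =>
  m.mem_N_iff.2 (Or.inl (by rw [(V_comm hv).eq, mul_inv_cancel_right]))

theorem i₂_N (d : S2) : m.i₂ d ∈ normalizer (zpowers m.a : Set G) :=
  m.mem_N_iff.2 (Or.inl (by rw [← (m.comm Um d).eq, mul_inv_cancel_right]))

theorem tau_N : τ ∈ normalizer (zpowers m.a : Set G) :=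
  m.mem_N_iff.2 (Or.inr (by rw [m.tau_inv, m.a_props.2.2]))

theorem cent_form {g : G} (hg : Commute m.a g) : ∃ q ∈ V m.a, ∃ d : S2, g = q * m.i₂ d := by
  obtain ⟨v, hv, c, hcz, hca, rfl⟩ := m.cent_split hg
  obtain ⟨i, d, rfl⟩ := m.cent_za hcz hca
  refine ⟨v * m.i₁ (Um ^ (i : ℕ)), mul_mem hv ?_, d, by group⟩
  rw [map_pow]
  exact pow_mem m.a_mem_V _

theorem N_form {g : G} (hg : g ∈ normalizer (zpowers m.a : Set G)) :
    ∃ q ∈ V m.a, ∃ d : S2, g = q * m.i₂ d ∨ g = q * m.i₂ d * τ := by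
  rcases m.mem_N_iff.1 hg with e | e
  · obtain ⟨q, hq, d, rfl⟩ := m.cent_form (g := g) (mul_inv_eq_iff_eq_mul.1 e).symm
    exact ⟨q, hq, d, Or.inl rfl⟩
  · have h : Commute m.a (g * τ) := by
      refine (mul_inv_eq_iff_eq_mul.1 (?_ : g * τ * m.a * (g * τ)⁻¹ = m.a)).symm
      calc g * τ * m.a * (g * τ)⁻¹ = g * (τ * m.a * τ⁻¹) * g⁻¹ := by group
        _ = (g * m.a * g⁻¹)⁻¹ := by rw [m.tau_inv, m.a_props.2.2]; group
        _ = m.a := by rw [e, inv_inv]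
    obtain ⟨q, hq, d, e'⟩ := m.cent_form h
    exact ⟨q, hq, d, Or.inr (by rw [← e', mul_assoc, m.tt, mul_one])⟩

theorem V_i₂ {d : S2} (h : m.i₂ d ∈ V m.a) : d = 1 := by
  have h' := m.V_fix_z h (by simpa using m.mem_cent 1 d)
  have key : ∀ i : Fin 3, m.i₁ 1 * m.i₂ d = m.i₁ (Um ^ (i : ℕ)) * m.i₂ 1 → d = 1 := by
    intro i e
    have h3 : ∀ i : Fin 3, (Um ^ (i : ℕ)) ^ 3 = 1 := by decide +kernel
    exact (m.pair3_eq (one_pow 3) (h3 i) e).2
  rcases m.zpow_a h' with e | e | e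
  · exact key 0 (by simp [e])
  · exact key 1 (by simp [e])
  · refine key 2 ?_
    rw [map_one, map_one, one_mul, mul_one, e, show m.a = m.i₁ Um from rfl, ← map_inv]
    congr 1
    decide +kernel

/-- The projection of the normaliser of a root group. -/
theorem quot : ∃ f : ↥(normalizer (zpowers m.a : Set G)) →* GL (Fin 2) (ZMod 3), Function.Surjective f ∧
    f.ker = (V m.a).subgroupOf (normalizer (zpowers m.a : Set G)) ∧
      ∀ hz : z ∈ normalizer (zpowers m.a : Set G), f ⟨z, hz⟩ = -1 := by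
  set N := normalizer (zpowers m.a : Set G) with hN
  haveI hn : ((V m.a).subgroupOf N).Normal := ⟨fun v hv g => by
    rw [mem_subgroupOf] at hv ⊢
    exact m.N_conj_V g.2 hv⟩
  have hdet : ∀ x : ZMod 3, x ≠ 0 → x = 1 ∨ x = 2 := by decide
  have hne : ∀ M : GL (Fin 2) (ZMod 3), M.1.det ≠ 0 := fun M =>
    ((Matrix.isUnit_iff_isUnit_det _).1 M.isUnit).ne_zero
  let ψ : GL (Fin 2) (ZMod 3) →* N := MonoidHom.mk' (fun M => if M.1.det = 1 then ⟨m.i₂ (sl M.1), m.i₂_N _⟩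
    else ⟨m.i₂ (sl M.1) * τ, mul_mem (m.i₂_N _) m.tau_N⟩) fun M M' => Subtype.ext (by
      have hm := sl_mul M.1 M'.1 (hne M) (hne M')
      have hd : (M * M').1.det = M.1.det * M'.1.det := by rw [Units.val_mul, det_mul]
      have h2 : (2 : ZMod 3) ≠ 1 := by decide
      have h22 : (2 : ZMod 3) * 2 = 1 := by decide
      have ht : ∀ d, τ * m.i₂ d = m.i₂ (dc d) * τ := fun d => by
        rw [← m.act₂, mul_assoc (τ * m.i₂ d) τ τ, m.tt, mul_one]
      simp only [Subgroup.coe_mul, apply_ite Subtype.val]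
      rcases hdet _ (hne M) with e | e <;> rcases hdet _ (hne M') with e' | e' <;>
        simp only [Units.val_mul, det_mul, e, e', if_true, if_neg h2, one_mul, mul_one, h22, hm, map_mul]
      · group
      · rw [← m.act₂]; simp [mul_assoc, m.tt]
      · rw [← m.act₂]; simp [mul_assoc])
  have hψ : ∀ M, ((ψ M : N) : G) = if M.1.det = 1 then m.i₂ (sl M.1) else m.i₂ (sl M.1) * τ := fun M => by
    show ((if M.1.det = 1 then _ else _ : N) : G) = _
    split_ifs <;> rfl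
  let χ : GL (Fin 2) (ZMod 3) →* N ⧸ (V m.a).subgroupOf N := (QuotientGroup.mk' _).comp ψ
  have hinj : Function.Injective χ := by
    rw [← MonoidHom.ker_eq_bot_iff, eq_bot_iff]
    intro M hM
    have hM' : ((ψ M : N) : G) ∈ V m.a := mem_subgroupOf.1 ((QuotientGroup.eq_one_iff _).1 hM)
    rw [hψ] at hM'
    rw [mem_bot]
    split_ifs at hM' with h
    · exact Units.ext (sl_inj M.1 h (m.V_i₂ hM'))
    · exfalso
      have h1 := (V_comm hM').eq
      have h2 : τ * m.a = m.a⁻¹ * τ := by rw [← m.a_props.2.2, mul_assoc (τ * m.a) τ τ, m.tt, mul_one]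
      rw [mul_assoc, h2, ← mul_assoc, ← mul_assoc, mul_left_inj, ← (m.comm Um (sl M.1)).inv_left.eq,
        mul_left_inj] at h1
      have := m.a_props.2.1
      rw [pow_succ, pow_two, inv_eq_iff_mul_eq_one.1 h1, one_mul] at this
      exact m.a_ne this
  have hsurj : Function.Surjective χ := by
    intro w
    induction w using QuotientGroup.induction_on with
    | H g =>
      obtain ⟨q, hq, d, e⟩ := m.N_form g.2
      obtain ⟨p1, p2, p3⟩ := sl_pre d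
      have hmk : ∀ M, (g : G) = q * (ψ M : N) → χ M = (g : N ⧸ (V m.a).subgroupOf N) := by
        intro M hM
        have : g = ⟨q, m.V_le_N hq⟩ * ψ M := Subtype.ext hM
        rw [this, QuotientGroup.mk_mul, (QuotientGroup.eq_one_iff _).2 (mem_subgroupOf.2 hq), one_mul]
        rfl
      rcases e with e | e
      · refine ⟨GeneralLinearGroup.mkOfDetNeZero d.1 (by rw [d.2]; decide), hmk _ ?_⟩
        rw [hψ]
        show (g : G) = q * if (d.1).det = 1 then m.i₂ (sl d.1) else m.i₂ (sl d.1) * τ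
        rw [if_pos d.2, p1, e]
      · refine ⟨GeneralLinearGroup.mkOfDetNeZero (d.1 * Dm) (by rw [p2]; decide), hmk _ ?_⟩
        rw [hψ]
        show (g : G) = q * if (d.1 * Dm).det = 1 then m.i₂ (sl (d.1 * Dm)) else m.i₂ (sl (d.1 * Dm)) * τ
        rw [if_neg (by rw [p2]; decide), p3, e, mul_assoc]
  let e := MulEquiv.ofBijective χ ⟨hinj, hsurj⟩
  refine ⟨e.symm.toMonoidHom.comp (QuotientGroup.mk' _), e.symm.surjective.comp (QuotientGroup.mk'_surjective _),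
    ?_, fun hz => ?_⟩
  · ext g
    rw [MonoidHom.mem_ker, MonoidHom.comp_apply, MulEquiv.coe_toMonoidHom, map_eq_one_iff _ e.symm.injective,
      QuotientGroup.mk'_apply, QuotientGroup.eq_one_iff]
  · rw [MonoidHom.comp_apply, MulEquiv.coe_toMonoidHom, MulEquiv.symm_apply_eq]
    show _ = QuotientGroup.mk' _ (ψ (-1))
    congr 1
    refine Subtype.ext ?_
    rw [hψ, Units.val_neg, Units.val_one, if_pos sl_neg.1, sl_neg.2, m.neg₂]

/-- A subgroup normalised by the normaliser that leaves the core meets the coset of minus one. -/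
theorem minus_mem {f : ↥(normalizer (zpowers m.a : Set G)) →* GL (Fin 2) (ZMod 3)} (hs : Function.Surjective f)
    {K : Subgroup G} (hK : ∀ g ∈ normalizer (zpowers m.a : Set G), ∀ k ∈ K, g * k * g⁻¹ ∈ K)
    {k : ↥(normalizer (zpowers m.a : Set G))} (hk : (k : G) ∈ K) (hk1 : f k ≠ 1) :
    ∃ x : ↥(normalizer (zpowers m.a : Set G)), (x : G) ∈ K ∧ f x = -1 := by
  have hdet : ∀ M : GL (Fin 2) (ZMod 3), M.1.det ≠ 0 := fun M =>
    ((Matrix.isUnit_iff_isUnit_det _).1 M.isUnit).ne_zero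
  rcases minus_word (f k).1 (hdet _) (fun h => hk1 (Units.ext h)) with h | ⟨N, hN, h⟩
  · exact ⟨k, hk, Units.ext h⟩
  obtain ⟨n, hn⟩ := hs (GeneralLinearGroup.mkOfDetNeZero N hN)
  set c := k * n * k⁻¹ * n⁻¹ with hc
  have hcK : (c : G) ∈ K := by
    have h1 := hK _ n.2 _ (inv_mem hk)
    have := mul_mem hk h1
    simpa [hc, mul_assoc] using this
  refine ⟨c * c, mul_mem hcK hcK, Units.ext ?_⟩
  have hNv : (f n).1 = N := by rw [hn]; rfl
  have hu : (N * (f k).1).det ≠ 0 := by rw [det_mul]; exact mul_ne_zero hN (hdet _)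
  have hcv : (f c).1 = (f k).1 * N * GTwoAmalgam.inv2 (N * (f k).1) := by
    have e : f c * (f n * f k) = f k * f n := by
      simp only [hc, map_mul, map_inv]; group
    have e' := congrArg Units.val e
    simp only [Units.val_mul, hNv] at e'
    rw [← e', mul_assoc _ (N * (f k).1), (GTwoAmalgam.inv2_spec _ hu).1, mul_one]
  rw [map_mul, Units.val_mul, hcv, h]
  rfl

/-- The centre of the core. -/
def Zc : Subgroup G := V m.a ⊓ centralizer (V m.a : Set G)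

theorem mem_Zc {x : G} : x ∈ m.Zc ↔ x ∈ V m.a ∧ ∀ w ∈ V m.a, Commute x w := by
  rw [Zc, mem_inf, mem_centralizer_iff]
  exact ⟨fun h => ⟨h.1, fun w hw => (h.2 w hw).symm⟩, fun h => ⟨h.1, fun w hw => (h.2 w hw).symm.eq⟩⟩

theorem Zc_conj {g x : G} (hg : g ∈ normalizer (zpowers m.a : Set G)) (hx : x ∈ m.Zc) : g * x * g⁻¹ ∈ m.Zc := by
  obtain ⟨h1, h2⟩ := m.mem_Zc.1 hx
  refine m.mem_Zc.2 ⟨m.N_conj_V hg h1, fun w hw => ?_⟩
  have hw' : g⁻¹ * w * g⁻¹⁻¹ ∈ V m.a := m.N_conj_V (inv_mem hg) hw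
  simpa [mul_assoc] using (h2 _ hw').map (MulAut.conj g).toMonoidHom

omit [Finite G] m in
theorem comm_frame {z' τ' : G} (p : Mdl z' τ') {x y : G} (ha : Commute x p.a) (hb : Commute x p.b) (hy : y ∈ p.EE) :
    Commute x y :=
  ((mem_centralizer_singleton_iff.1 (p.EE_le (K := centralizer {x}) (mem_centralizer_singleton_iff.2 ha.eq.symm)
    (mem_centralizer_singleton_iff.2 hb.eq.symm) hy)) : Commute y x).symm

theorem zpow_iff_of {x : G} {i : Fin 3} : x ^ (i : ℕ) ∈ zpowers x := pow_mem (mem_zpowers x) _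

variable {m}

/-- The basic commutations in an adapted frame. -/
theorem Good.facts {p : Mdl τ z} (h : m.Good p) : p.a ∈ m.T ∧ p.b ∈ m.T ∧
    m.i₂ Jm * p.a * (m.i₂ Jm)⁻¹ ∈ m.U ∧ m.i₂ Jm * p.b * (m.i₂ Jm)⁻¹ ∈ m.U ∧
    p.a ∈ m.Zc ∧ m.i₂ Jm * p.a * (m.i₂ Jm)⁻¹ ∈ m.Zc := by
  obtain ⟨-, -, -, n4, n5⟩ := m.cross h.ctx p h.EE_eq h.rb
  obtain ⟨q, hq, qa, qb⟩ := m.conj_frame h.ctx p h.EE_eq
  have hr : p.a ∈ m.T := h.EE_eq ▸ p.a_mem
  have hs : p.b ∈ m.T := h.EE_eq ▸ p.b_mem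
  refine ⟨hr, hs, m.j_T.1 hr, m.j_T.1 hs, m.mem_Zc.2 ⟨m.T_le hr, fun w hw => ?_⟩,
    m.mem_Zc.2 ⟨m.U_le (m.j_T.1 hr), fun w hw => ?_⟩⟩
  all_goals
    obtain ⟨c, hc, t, ht, -, u, hu, -, rfl⟩ :=
      m.decomp le_rfl m.a_mem_V (fun _ => m.z_norm) (fun _ => m.tau_norm) hw
  · exact ((m.a_central (m.T_le hr) hc).mul_right (m.T_abelian h.ctx hr ht)).mul_right
      (comm_frame q (qa ▸ h.rr) (qb ▸ n4) (hq.ge hu))
  · exact ((m.a_central (m.U_le (m.j_T.1 hr)) hc).mul_right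
      (comm_frame p h.rr.symm n5.symm (h.EE_eq.ge ht))).mul_right (m.twist.T_abelian h.ctx (m.j_T.1 hr) hu)

theorem Good.Zc_form {p : Mdl τ z} (h : m.Good p) {x : G} (hx : x ∈ m.Zc) :
    ∃ c ∈ zpowers m.a, ∃ i k : Fin 3, x = c * p.a ^ (i : ℕ) * (m.i₂ Jm * p.a * (m.i₂ Jm)⁻¹) ^ (k : ℕ) := by
  obtain ⟨n1, n2, n3, n4, n5⟩ := m.cross h.ctx p h.EE_eq h.rb
  obtain ⟨q, hq, qa, qb⟩ := m.conj_frame h.ctx p h.EE_eq
  obtain ⟨hr, hs, hr', hs', -, -⟩ := h.facts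
  obtain ⟨hxV, hxc⟩ := m.mem_Zc.1 hx
  obtain ⟨c, hc, t, ht, -, u, hu, -, rfl⟩ :=
    m.decomp le_rfl m.a_mem_V (fun _ => m.z_norm) (fun _ => m.tau_norm) hxV
  obtain ⟨i, l, rfl⟩ := p.mem_EE.1 (h.EE_eq.ge ht)
  obtain ⟨k, n, rfl⟩ := q.mem_EE.1 (hq.ge hu)
  simp only [map_pow] at hxc hu ht ⊢
  have hl : l = 0 := by
    refine pow_fin_comm p.b_props.2.1 h.ss ?_
    have h1 := ((m.a_central (m.U_le hs') hc).symm.mul_left (n4.pow_left (i : ℕ))).inv_left.mul_left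
      ((hxc _ (m.U_le hs')).mul_left (m.twist.T_abelian h.ctx hu hs').inv_left)
    rwa [show (c * p.a ^ (i : ℕ))⁻¹ * (c * (p.a ^ (i : ℕ) * p.b ^ (l : ℕ)) * (q.a ^ (k : ℕ) * q.b ^ (n : ℕ)) *
      (q.a ^ (k : ℕ) * q.b ^ (n : ℕ))⁻¹) = p.b ^ (l : ℕ) by group] at h1
  have hn : n = 0 := by
    refine pow_fin_comm q.b_props.2.1 (y := p.b) (fun hh => h.ss (qb ▸ hh).symm) ?_
    have hqa : Commute (q.a ^ (k : ℕ)) p.b := (qa ▸ n5.symm).pow_left _
    have h1 := ((((m.a_central (m.T_le hs) hc).symm).mul_left (m.T_abelian h.ctx ht hs)).mul_left hqa).inv_left.mul_left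
      (hxc _ (m.T_le hs))
    rwa [show (c * (p.a ^ (i : ℕ) * p.b ^ (l : ℕ)) * q.a ^ (k : ℕ))⁻¹ *
      (c * (p.a ^ (i : ℕ) * p.b ^ (l : ℕ)) * (q.a ^ (k : ℕ) * q.b ^ (n : ℕ))) = q.b ^ (n : ℕ) by group] at h1
  refine ⟨c, hc, i, k, ?_⟩
  rw [hl, hn, Fin.val_zero, pow_zero, pow_zero, mul_one, mul_one, ← qa]

theorem Good.card_Zc {p : Mdl τ z} (h : m.Good p) : Nat.card m.Zc = 27 := by
  obtain ⟨hr, -, hr', -, hrZ, hrZ'⟩ := h.facts
  set r' := m.i₂ Jm * p.a * (m.i₂ Jm)⁻¹ with hr'd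
  have haZ : m.a ∈ m.Zc := m.mem_Zc.2 ⟨m.a_mem_V, fun w hw => (V_comm hw).symm⟩
  let f : zpowers m.a × zpowers p.a × zpowers r' → m.Zc := fun w => ⟨w.1 * w.2.1 * w.2.2,
    mul_mem (mul_mem (zpowers_le.2 haZ w.1.2) (zpowers_le.2 hrZ w.2.1.2)) (zpowers_le.2 hrZ' w.2.2.2)⟩
  have hf : Function.Bijective f := by
    constructor
    · intro u v e
      obtain ⟨e1, e2, e3⟩ := m.normal_form u.1.2 v.1.2 (zpowers_le.2 hr u.2.1.2) (zpowers_le.2 hr v.2.1.2)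
        (zpowers_le.2 hr' u.2.2.2) (zpowers_le.2 hr' v.2.2.2) (congrArg Subtype.val e)
      exact Prod.ext (Subtype.ext e1) (Prod.ext (Subtype.ext e2) (Subtype.ext e3))
    · intro x
      obtain ⟨c, hc, i, k, e⟩ := h.Zc_form x.2
      exact ⟨(⟨c, hc⟩, ⟨_, pow_mem (mem_zpowers p.a) i⟩, ⟨_, pow_mem (mem_zpowers r') k⟩), Subtype.ext e.symm⟩
  rw [← Nat.card_eq_of_bijective f hf, Nat.card_prod, Nat.card_prod, Nat.card_zpowers, Nat.card_zpowers,
    Nat.card_zpowers, m.orderOf_a, p.orderOf_a,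
    show orderOf r' = 3 by rw [hr'd, ← MulAut.conj_apply, MulEquiv.orderOf_eq, p.orderOf_a]]

theorem Good.side {p : Mdl τ z} (h : m.Good p) :
    GTwoAmalgam.Side (normalizer (zpowers m.a : Set G)) (V m.a) m.Zc (zpowers m.a) := by
  obtain ⟨n1, n2, n3, n4, n5⟩ := m.cross h.ctx p h.EE_eq h.rb
  obtain ⟨hr, hs, hr', hs', hrZ, -⟩ := h.facts
  obtain ⟨f, hs_f, hker, hz⟩ := m.quot
  have hzN : z ∈ normalizer (zpowers m.a : Set G) := by
    have := m.i₂_N ng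
    rwa [m.neg₂] at this
  have hDZ : zpowers m.a ≤ m.Zc := zpowers_le.2 (m.mem_Zc.2 ⟨m.a_mem_V, fun w hw => (V_comm hw).symm⟩)
  have hD : zpowers m.a = ⁅V m.a, V m.a⁆ := by
    refine le_antisymm (zpowers_le.2 ?_) (commutator_le.2 fun v hv w hw => m.comm_mem hv hw)
    have hd := commutator_mem_commutator (m.T_le hs) (m.U_le hs')
    rcases m.zpow_a (m.comm_mem (m.T_le hs) (m.U_le hs')) with e | e | e
    · exact absurd (commutatorElement_eq_one_iff_commute.1 e) h.ss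
    · rwa [commutatorElement_def, e] at hd
    · rw [commutatorElement_def, e] at hd
      simpa using inv_mem hd
  -- elements acting trivially on a section lie in the core
  have cond : ∀ (X Y : Subgroup G), Y ≤ V m.a →
      (∀ g ∈ normalizer (zpowers m.a : Set G), ∀ x ∈ X, g * x * g⁻¹ ∈ X) →
      (∀ g ∈ normalizer (zpowers m.a : Set G), ∀ x ∈ Y, g * x * g⁻¹ ∈ Y) →
      (∀ q ∈ V m.a, ∀ y ∈ Y, q * y * q⁻¹ * y⁻¹ ∈ X) → (∃ y ∈ Y, z * y * z⁻¹ * y⁻¹ ∉ X) →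
      ∀ g ∈ normalizer (zpowers m.a : Set G), g ∈ V m.a ↔ ∀ y ∈ Y, g * y * g⁻¹ * y⁻¹ ∈ X := by
    intro X Y hY hX hYn hQ hw g hg
    refine ⟨fun hgV y hy => hQ g hgV y hy, fun hgP => ?_⟩
    let K : Subgroup G :=
      { carrier := {k | k ∈ normalizer (zpowers m.a : Set G) ∧ ∀ y ∈ Y, k * y * k⁻¹ * y⁻¹ ∈ X}
        one_mem' := ⟨one_mem _, fun y _ => by simp⟩
        mul_mem' := fun {k l} hk hl => ⟨mul_mem hk.1 hl.1, fun y hy => by
          rw [show k * l * y * (k * l)⁻¹ * y⁻¹ = k * (l * y * l⁻¹ * y⁻¹) * k⁻¹ * (k * y * k⁻¹ * y⁻¹) by group]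
          exact mul_mem (hX k hk.1 _ (hl.2 y hy)) (hk.2 y hy)⟩
        inv_mem' := fun {k} hk => ⟨inv_mem hk.1, fun y hy => by
          rw [show k⁻¹ * y * k⁻¹⁻¹ * y⁻¹ = k⁻¹ * (k * y * k⁻¹ * y⁻¹)⁻¹ * k⁻¹⁻¹ by group]
          exact hX _ (inv_mem hk.1) _ (inv_mem (hk.2 y hy))⟩ }
    by_contra hgV
    obtain ⟨x, hxK, hx⟩ := m.minus_mem hs_f (K := K) (fun c hc k hk => ⟨mul_mem (mul_mem hc hk.1) (inv_mem hc),
      fun y hy => by
        have hy' : c⁻¹ * y * c⁻¹⁻¹ ∈ Y := hYn _ (inv_mem hc) _ hy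
        rw [show c * k * c⁻¹ * y * (c * k * c⁻¹)⁻¹ * y⁻¹ =
          c * (k * (c⁻¹ * y * c⁻¹⁻¹) * k⁻¹ * (c⁻¹ * y * c⁻¹⁻¹)⁻¹) * c⁻¹ by group]
        exact hX _ hc _ (hk.2 _ hy')⟩) (k := ⟨g, hg⟩) ⟨hg, hgP⟩
      (fun hf => hgV (mem_subgroupOf.1 (hker ▸ (MonoidHom.mem_ker.2 hf))))
    have hxz : x⁻¹ * ⟨z, hzN⟩ ∈ (V m.a).subgroupOf (normalizer (zpowers m.a : Set G)) := by
      rw [← hker, MonoidHom.mem_ker, map_mul, map_inv, hx, hz hzN, inv_mul_cancel]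
    have hzK : z ∈ K := by
      have hq : (x : G)⁻¹ * z ∈ K := ⟨m.V_le_N (mem_subgroupOf.1 hxz), fun y hy => hQ _ (mem_subgroupOf.1 hxz) y hy⟩
      simpa using mul_mem hxK hq
    obtain ⟨y, hy, hy'⟩ := hw
    exact hy' (hzK.2 y hy)
  refine ⟨m.V_le_N, ⟨f, hs_f, hker⟩, ?_, rfl, hD, ?_, hDZ, ?_,
    fun g hg => cond m.Zc (V m.a) le_rfl (fun c hc x hx => m.Zc_conj hc hx) (fun c hc x hx => m.N_conj_V hc hx)
      (fun q hq y hy => hDZ (m.comm_mem hq hy)) ?_ g hg,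
    fun g hg => cond (zpowers m.a) m.Zc inf_le_left (fun c hc x hx => (mem_normalizer_iff.1 hc x).1 hx)
      (fun c hc x hx => m.Zc_conj hc hx) (fun q hq y hy => by
        rw [← ((m.mem_Zc.1 hy).2 q hq).eq, mul_inv_cancel_right, mul_inv_cancel]; exact one_mem _) ?_ g hg, rfl⟩
  · rw [m.card_V, h.ctx.nine m]; norm_num
  · have h1 := (m.Zc.subgroupOf (V m.a)).index_mul_card
    rw [Nat.card_congr (subgroupOfEquivOfLe (show m.Zc ≤ V m.a from inf_le_left)).toEquiv, h.card_Zc, m.card_V,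
      h.ctx.nine m] at h1
    omega
  · have h1 := ((zpowers m.a).subgroupOf m.Zc).index_mul_card
    rw [Nat.card_congr (subgroupOfEquivOfLe hDZ).toEquiv, h.card_Zc, Nat.card_zpowers, m.orderOf_a] at h1
    omega
  · refine ⟨p.b, m.T_le hs, fun hmem => h.ss ?_⟩
    rw [m.z_inv, m.T_inverted hs] at hmem
    have hb3 : p.b⁻¹ * p.b⁻¹ = p.b := by
      rw [← _root_.mul_inv_rev, inv_eq_iff_mul_eq_one, ← p.b_props.2.1, pow_succ, pow_two]
    rw [hb3] at hmem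
    exact (m.mem_Zc.1 hmem).2 _ (m.U_le hs')
  · refine ⟨p.a, hrZ, fun hmem => p.a_ne ?_⟩
    rw [m.z_inv, m.T_inverted hr] at hmem
    have hb3 : p.a⁻¹ * p.a⁻¹ = p.a := by
      rw [← _root_.mul_inv_rev, inv_eq_iff_mul_eq_one, ← p.a_props.2.1, pow_succ, pow_two]
    rw [hb3] at hmem
    exact m.a_inv_one hmem (m.T_inverted hr)

theorem Good.U_cent_s {p : Mdl τ z} (h : m.Good p) {x : G} (hx : x ∈ m.U) (hxs : Commute x p.b) :
    ∃ i : Fin 3, x = (m.i₂ Jm * p.a * (m.i₂ Jm)⁻¹) ^ (i : ℕ) := by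
  obtain ⟨-, -, -, -, n5⟩ := m.cross h.ctx p h.EE_eq h.rb
  obtain ⟨q, hq, qa, qb⟩ := m.conj_frame h.ctx p h.EE_eq
  obtain ⟨i, k, rfl⟩ := q.mem_EE.1 (hq.ge hx)
  rw [map_pow, map_pow] at hxs ⊢
  have hk : k = 0 := by
    refine pow_fin_comm q.b_props.2.1 (y := p.b) (fun hh => h.ss (qb ▸ hh).symm) ?_
    have := ((show Commute q.a p.b from qa ▸ n5.symm).pow_left (i : ℕ)).inv_left.mul_left hxs
    rwa [inv_mul_cancel_left] at this
  exact ⟨i, by rw [hk, Fin.val_zero, pow_zero, mul_one, ← qa]⟩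

theorem Good.U_one {p : Mdl τ z} (h : m.Good p) {x : G} (hx : x ∈ m.U) (hxb : Commute x m.b)
    (hxs : Commute x p.b) : x = 1 := by
  obtain ⟨-, n2, -, -, -⟩ := m.cross h.ctx p h.EE_eq h.rb
  obtain ⟨i, e⟩ := h.U_cent_s hx hxs
  have h3 : (m.i₂ Jm * p.a * (m.i₂ Jm)⁻¹) ^ 3 = 1 := by rw [conj_pow, p.a_props.2.1, mul_one, mul_inv_cancel]
  rw [pow_fin_comm (i := i) h3 n2 (e ▸ hxb), Fin.val_zero, pow_zero] at e
  exact e

end Mdl

end Cfsg.Lib.GTwoType
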