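import Mathlib

/-!
# Computations in `SL(2,3)` with the diagonal automorphism
-/

set_option autoImplicit false

namespace Cfsg.Lib.GTwoType

open Matrix

/-- The group `SL(2,3)`. -/
abbrev S2 := Matrix.SpecialLinearGroup (Fin 2) (ZMod 3)

/-- An upper unipotent matrix. -/
def Um : S2 := ⟨!![1, 1; 0, 1], by decide⟩
/-- A lower unipotent matrix. -/
def Lm : S2 := ⟨!![1, 0; 1, 1], by decide⟩
/-- An element of order four. -/
def Jm : S2 := ⟨!![0, 1; -1, 0], by decide⟩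
/-- The central involution. -/
def ng : S2 := ⟨!![-1, 0; 0, -1], by decide⟩

theorem dconj_det : ∀ g : S2, (!![g.1 0 0, -g.1 0 1; -g.1 1 0, g.1 1 1] : Matrix (Fin 2) (Fin 2) (ZMod 3)).det = 1 := by
  decide +kernel

/-- Conjugation by the diagonal matrix of determinant minus one. -/
def dc (g : S2) : S2 := ⟨!![g.1 0 0, -g.1 0 1; -g.1 1 0, g.1 1 1], dconj_det g⟩

theorem dc_mul : ∀ a b : S2, dc (a * b) = dc a * dc b := by decide +kernel
theorem dc_dc : ∀ a : S2, dc (dc a) = a := by decide +kernel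

/-- The diagonal automorphism. -/
def dcAut : MulAut S2 where
  toFun := dc
  invFun := dc
  left_inv := dc_dc
  right_inv := dc_dc
  map_mul' := dc_mul

theorem dc_inv (a : S2) : dc a⁻¹ = (dc a)⁻¹ := map_inv dcAut a
theorem ng_central : ∀ a : S2, ng * a = a * ng := by decide +kernel
theorem ng_sq : ng * ng = 1 := by decide
theorem ng_ne : ng ≠ 1 := by decide
theorem dc_ng : dc ng = ng := by decide
theorem dc_one : dc 1 = 1 := by decide
theorem dc_U : dc Um = Um⁻¹ := by decide +kernel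
theorem dc_L : dc Lm = Lm⁻¹ := by decide +kernel
theorem U_cube : Um ^ 3 = 1 := by decide +kernel
theorem J_sq : Jm * Jm = ng := by decide +kernel
theorem dc_J : dc Jm = ng * Jm := by decide +kernel
theorem J_U : Jm * Um * Jm⁻¹ = Lm⁻¹ := by decide +kernel
theorem J_dc : ∀ a : S2, dc (Jm * a * Jm⁻¹) = Jm * dc a * Jm⁻¹ := by decide +kernel

theorem quat_class : ∀ a : S2, a * a = ng → ∃ c : S2, c * Jm * c⁻¹ = a := by decide +kernel
theorem sq_one : ∀ a : S2, a * a = 1 → a = 1 ∨ a = ng := by decide +kernel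
theorem twist_sq : ∀ a : S2, a * dc a ≠ ng := by decide +kernel
theorem twist_class : ∀ a : S2, a * dc a = 1 → ∃ c : S2, c * (dc c)⁻¹ = a := by decide +kernel
theorem dc_fixed : ∀ a : S2, dc a = a → a = 1 ∨ a = ng := by decide +kernel
theorem dc_anti : ∀ a : S2, dc a = ng * a → a = Jm ∨ a = ng * Jm := by decide +kernel
theorem pow_twelve : ∀ a : S2, a ^ 12 = 1 := by decide +kernel
theorem cube_rep : ∀ a : S2, a ^ 3 = 1 ∨ a ^ 3 = ng → ∃ e : S2, (e = 1 ∨ e = ng) ∧ (e * a) ^ 3 = 1 ∧ e * e = 1 := by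
  decide +kernel
theorem cube_sign : ∀ a : S2, a ^ 3 = 1 → (ng * a) ^ 3 ≠ 1 := by decide +kernel
theorem inverted : ∀ a : S2, a ^ 3 = 1 → dc a = a⁻¹ →
    a = 1 ∨ a = Um ∨ a = Um⁻¹ ∨ a = Lm ∨ a = Lm⁻¹ := by decide +kernel
theorem U_L : Um * Lm ≠ Lm * Um ∧ Um * Lm⁻¹ ≠ Lm⁻¹ * Um ∧ Um⁻¹ * Lm ≠ Lm * Um⁻¹ ∧
    Um⁻¹ * Lm⁻¹ ≠ Lm⁻¹ * Um⁻¹ ∧ Um ≠ 1 ∧ Lm ≠ 1 := by decide +kernel
theorem cent_U : ∀ a : S2, a * Um = Um * a →
    ∃ i : Fin 3, a = Um ^ (i : ℕ) ∨ a = ng * Um ^ (i : ℕ) := by decide +kernel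
theorem three_class : ∀ a : S2, a ^ 3 = 1 → a ≠ 1 → ∃ c : S2, a = c * Um * c⁻¹ ∨ a = c * Um⁻¹ * c⁻¹ := by
  decide +kernel

end Cfsg.Lib.GTwoType
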