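import Cfsg.Agent.Lib.GTwoType.Mat

/-!
# The centraliser of an involution of type `G₂(3)`

Coordinates on the centraliser of `z` as two copies of `SL(2,3)` with common centre, extended by an
involution acting on both by the diagonal automorphism.
-/

set_option autoImplicit false

namespace Cfsg.Lib.GTwoType

variable {G : Type*} [Group G]

/-- Coordinates on the centraliser of `z`. -/
structure Mdl (z τ : G) where
  /-- The first factor. -/
  i₁ : S2 →* G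
  /-- The second factor. -/
  i₂ : S2 →* G
  comm : ∀ a b, Commute (i₁ a) (i₂ b)
  neg₁ : i₁ ng = z
  neg₂ : i₂ ng = z
  ker : ∀ a b, i₁ a * i₂ b = 1 → (a = 1 ∧ b = 1) ∨ (a = ng ∧ b = ng)
  tt : τ * τ = 1
  act₁ : ∀ a, τ * i₁ a * τ = i₁ (dc a)
  act₂ : ∀ a, τ * i₂ a * τ = i₂ (dc a)
  out : ∀ a b, i₁ a * i₂ b ≠ τ
  cent : ∀ g, Commute z g ↔ ∃ a b, g = i₁ a * i₂ b ∨ g = i₁ a * i₂ b * τ

namespace Mdl

variable {z τ : G} (m : Mdl z τ)
include m

theorem tau_inv : τ⁻¹ = τ := inv_eq_of_mul_eq_one_right m.tt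

theorem zz : z * z = 1 := by rw [← m.neg₁, ← map_mul, ng_sq, map_one]

theorem z_inv : z⁻¹ = z := inv_eq_of_mul_eq_one_right m.zz

theorem mul_pair (a b c d : S2) : m.i₁ a * m.i₂ b * (m.i₁ c * m.i₂ d) = m.i₁ (a * c) * m.i₂ (b * d) := by
  rw [map_mul, map_mul, mul_assoc, ← mul_assoc (m.i₂ b), ← (m.comm c b).eq]; group

theorem inv_pair (a b : S2) : (m.i₁ a * m.i₂ b)⁻¹ = m.i₁ a⁻¹ * m.i₂ b⁻¹ := by
  refine inv_eq_of_mul_eq_one_right ?_
  rw [m.mul_pair, mul_inv_cancel, mul_inv_cancel, map_one, map_one, mul_one]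

theorem pow_pair (a b : S2) (n : ℕ) : (m.i₁ a * m.i₂ b) ^ n = m.i₁ (a ^ n) * m.i₂ (b ^ n) := by
  rw [(m.comm a b).mul_pow, map_pow, map_pow]

theorem tau_pair (a b : S2) : τ * (m.i₁ a * m.i₂ b) * τ = m.i₁ (dc a) * m.i₂ (dc b) := by
  rw [← m.act₁, ← m.act₂]
  calc τ * (m.i₁ a * m.i₂ b) * τ = τ * m.i₁ a * (τ * τ) * m.i₂ b * τ := by rw [m.tt]; group
    _ = _ := by group

theorem tau_move (a b : S2) : τ * (m.i₁ a * m.i₂ b) = m.i₁ (dc a) * m.i₂ (dc b) * τ := by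
  rw [← m.tau_pair, mul_assoc (τ * _) τ τ, m.tt, mul_one]

theorem pair_eq {a b c d : S2} (h : m.i₁ a * m.i₂ b = m.i₁ c * m.i₂ d) :
    (a = c ∧ b = d) ∨ (a = ng * c ∧ b = ng * d) := by
  have h1 : m.i₁ (a * c⁻¹) * m.i₂ (b * d⁻¹) = 1 := by
    rw [← m.mul_pair, h, ← m.inv_pair, mul_inv_cancel]
  rcases m.ker _ _ h1 with ⟨e1, e2⟩ | ⟨e1, e2⟩
  · exact Or.inl ⟨mul_inv_eq_one.1 e1, mul_inv_eq_one.1 e2⟩
  · exact Or.inr ⟨mul_inv_eq_iff_eq_mul.1 e1, mul_inv_eq_iff_eq_mul.1 e2⟩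

theorem not_outer {a b c d : S2} : m.i₁ a * m.i₂ b ≠ m.i₁ c * m.i₂ d * τ := fun h => by
  apply m.out (c⁻¹ * a) (d⁻¹ * b)
  rw [← m.mul_pair, ← m.inv_pair, h, inv_mul_cancel_left]

theorem ng_pair (a b : S2) : m.i₁ (ng * a) * m.i₂ b = z * (m.i₁ a * m.i₂ b) := by
  rw [map_mul, m.neg₁, mul_assoc]

theorem ng_pair₂ (a b : S2) : m.i₁ (ng * a) * m.i₂ (ng * b) = m.i₁ a * m.i₂ b := by
  rw [map_mul, map_mul, m.neg₁, m.neg₂]
  calc z * m.i₁ a * (z * m.i₂ b) = z * (m.i₁ a * m.i₂ ng) * m.i₂ b := by rw [m.neg₂]; group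
    _ = z * (m.i₂ ng * m.i₁ a) * m.i₂ b := by rw [(m.comm a ng).eq]
    _ = (z * z) * (m.i₁ a * m.i₂ b) := by rw [m.neg₂]; group
    _ = m.i₁ a * m.i₂ b := by rw [m.zz, one_mul]

theorem pair_comm {a b c d : S2} (h : Commute (m.i₁ a * m.i₂ b) (m.i₁ c * m.i₂ d)) :
    (a * c = c * a ∧ b * d = d * b) ∨ (a * c = ng * (c * a) ∧ b * d = ng * (d * b)) := by
  have h1 := h.eq
  rw [m.mul_pair, m.mul_pair] at h1
  exact m.pair_eq h1

theorem mem_cent (a b : S2) : Commute z (m.i₁ a * m.i₂ b) := (m.cent _).2 ⟨a, b, Or.inl rfl⟩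

theorem z_tau : Commute z τ := (m.cent _).2 ⟨1, 1, Or.inr (by simp)⟩

theorem orderOf_z : orderOf z = 2 := by
  refine orderOf_eq_prime (by rw [pow_two, m.zz]) fun h => ?_
  rcases m.ker ng 1 (by rw [m.neg₁, map_one, mul_one, h]) with ⟨e, -⟩ | ⟨-, e⟩
  · exact ng_ne e
  · exact ng_ne e.symm

theorem orderOf_tau : orderOf τ = 2 :=
  orderOf_eq_prime (by rw [pow_two, m.tt]) fun h => m.out 1 1 (by rw [map_one, map_one, mul_one]; exact h.symm)

theorem tau_ne : τ ≠ z := fun h => m.out ng 1 (by rw [m.neg₁, map_one, mul_one, h])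

/-- The same coordinates with the factors exchanged. -/
def swap : Mdl z τ where
  i₁ := m.i₂
  i₂ := m.i₁
  comm a b := (m.comm b a).symm
  neg₁ := m.neg₂
  neg₂ := m.neg₁
  ker a b h := by
    rw [← (m.comm b a).eq] at h
    rcases m.ker b a h with ⟨e1, e2⟩ | ⟨e1, e2⟩
    exacts [Or.inl ⟨e2, e1⟩, Or.inr ⟨e2, e1⟩]
  tt := m.tt
  act₁ := m.act₂
  act₂ := m.act₁
  out a b h := m.out b a (by rw [(m.comm b a).eq, h])
  cent g := by
    rw [m.cent g]
    constructor <;> rintro ⟨a, b, e⟩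
    · exact ⟨b, a, by rwa [← (m.comm a b).eq]⟩
    · exact ⟨b, a, by rwa [(m.comm b a).eq]⟩

/-- The first factor in other coordinates. -/
def reparam (φ : MulAut S2) (hn : φ ng = ng) (hd : ∀ a, dc (φ a) = φ (dc a)) : Mdl z τ where
  i₁ := m.i₁.comp φ.toMonoidHom
  i₂ := m.i₂
  comm a b := m.comm _ _
  neg₁ := by rw [MonoidHom.comp_apply, MulEquiv.coe_toMonoidHom, hn, m.neg₁]
  neg₂ := m.neg₂
  ker a b h := by
    rcases m.ker (φ a) b h with ⟨e1, e2⟩ | ⟨e1, e2⟩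
    · exact Or.inl ⟨φ.map_eq_one_iff.1 e1, e2⟩
    · exact Or.inr ⟨φ.injective (e1.trans hn.symm), e2⟩
  tt := m.tt
  act₁ a := by rw [MonoidHom.comp_apply, MulEquiv.coe_toMonoidHom, m.act₁, hd]; rfl
  act₂ := m.act₂
  out a b := m.out _ _
  cent g := by
    rw [m.cent g]
    constructor <;> rintro ⟨a, b, e⟩
    · exact ⟨φ.symm a, b, by simpa using e⟩
    · exact ⟨φ a, b, by simpa using e⟩

omit m in
theorem dcAut_ok : dcAut ng = ng ∧ ∀ a, dc (dcAut a) = dcAut (dc a) := ⟨dc_ng, fun _ => rfl⟩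

omit m in
theorem conjJ_ok : MulAut.conj Jm ng = ng ∧ ∀ a, dc (MulAut.conj Jm a) = MulAut.conj Jm (dc a) := by
  refine ⟨?_, fun a => J_dc a⟩
  rw [MulAut.conj_apply, ← ng_central, mul_inv_cancel_right]

/-- The other involution of the outer coset in the four group. -/
def twist : Mdl z (z * τ) where
  i₁ := m.i₁
  i₂ := m.i₂
  comm := m.comm
  neg₁ := m.neg₁
  neg₂ := m.neg₂
  ker := m.ker
  tt := by
    calc z * τ * (z * τ) = z * (τ * z) * τ := by group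
      _ = (z * z) * (τ * τ) := by rw [← m.z_tau.eq]; group
      _ = 1 := by rw [m.zz, m.tt, one_mul]
  act₁ a := by
    have h : Commute z (m.i₁ (dc a)) := by simpa using m.mem_cent (dc a) 1
    calc z * τ * m.i₁ a * (z * τ) = z * τ * m.i₁ a * (τ * z) := by rw [m.z_tau.eq]
      _ = z * (τ * m.i₁ a * τ) * z := by group
      _ = m.i₁ (dc a) := by rw [m.act₁, h.eq, mul_assoc, m.zz, mul_one]
  act₂ a := by
    have h : Commute z (m.i₂ (dc a)) := by simpa using m.mem_cent 1 (dc a)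
    calc z * τ * m.i₂ a * (z * τ) = z * τ * m.i₂ a * (τ * z) := by rw [m.z_tau.eq]
      _ = z * (τ * m.i₂ a * τ) * z := by group
      _ = m.i₂ (dc a) := by rw [m.act₂, h.eq, mul_assoc, m.zz, mul_one]
  out a b h := m.out (ng * a) b (by rw [m.ng_pair, h, ← mul_assoc, m.zz, one_mul])
  cent g := by
    rw [m.cent g]
    have e : ∀ a b, m.i₁ (ng * a) * m.i₂ b * τ = m.i₁ a * m.i₂ b * (z * τ) := fun a b => by
      rw [m.ng_pair, (m.mem_cent a b).eq]; group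
    constructor <;> rintro ⟨a, b, rfl | rfl⟩
    · exact ⟨a, b, Or.inl rfl⟩
    · refine ⟨ng * a, b, Or.inr ?_⟩
      rw [← e, ← mul_assoc ng, ng_sq, one_mul]
    · exact ⟨a, b, Or.inl rfl⟩
    · exact ⟨ng * a, b, Or.inr (e a b).symm⟩

/-- Transport by conjugation. -/
def conjM (g : G) : Mdl (g * z * g⁻¹) (g * τ * g⁻¹) where
  i₁ := (MulAut.conj g).toMonoidHom.comp m.i₁
  i₂ := (MulAut.conj g).toMonoidHom.comp m.i₂
  comm a b := (m.comm a b).map (MulAut.conj g).toMonoidHom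
  neg₁ := by simp [m.neg₁]
  neg₂ := by simp [m.neg₂]
  ker a b h := m.ker a b ((MulAut.conj g).injective (by simpa [map_mul] using h))
  tt := by rw [show g * τ * g⁻¹ * (g * τ * g⁻¹) = g * (τ * τ) * g⁻¹ by group, m.tt, mul_one, mul_inv_cancel]
  act₁ a := by simp [← m.act₁, mul_assoc]
  act₂ a := by simp [← m.act₂, mul_assoc]
  out a b h := m.out a b ((MulAut.conj g).injective (by simpa [map_mul] using h))
  cent x := by
    have e : Commute (g * z * g⁻¹) x ↔ Commute z (g⁻¹ * x * g) := by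
      constructor <;> intro h
      · show z * (g⁻¹ * x * g) = g⁻¹ * x * g * z
        calc z * (g⁻¹ * x * g) = g⁻¹ * (g * z * g⁻¹ * x) * g := by group
          _ = g⁻¹ * x * g * z := by rw [h.eq]; group
      · show g * z * g⁻¹ * x = x * (g * z * g⁻¹)
        calc g * z * g⁻¹ * x = g * (z * (g⁻¹ * x * g)) * g⁻¹ := by group
          _ = x * (g * z * g⁻¹) := by rw [h.eq]; group
    rw [e, m.cent]
    constructor <;> rintro ⟨a, b, h⟩ <;> refine ⟨a, b, ?_⟩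
    · rcases h with h | h
      · left; simp only [MonoidHom.comp_apply, MulEquiv.coe_toMonoidHom, MulAut.conj_apply]
        rw [show x = g * (g⁻¹ * x * g) * g⁻¹ by group, h]; group
      · right; simp only [MonoidHom.comp_apply, MulEquiv.coe_toMonoidHom, MulAut.conj_apply]
        rw [show x = g * (g⁻¹ * x * g) * g⁻¹ by group, h]; group
    · simp only [MonoidHom.comp_apply, MulEquiv.coe_toMonoidHom, MulAut.conj_apply] at h
      rcases h with rfl | rfl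
      · left; group
      · right; group

theorem cases_invol {t : G} (h : Commute z t) (ht : t * t = 1) (h1 : t ≠ 1) (hz : t ≠ z) :
    (∃ c, Commute z c ∧ c * (m.i₁ Jm * m.i₂ Jm) * c⁻¹ = t) ∨ ∃ c, Commute z c ∧ c * τ * c⁻¹ = t := by
  obtain ⟨a, b, rfl | rfl⟩ := (m.cent t).1 h
  · left
    rw [m.mul_pair] at ht
    rcases m.ker _ _ ht with ⟨ea, eb⟩ | ⟨ea, eb⟩
    · exfalso
      rcases sq_one a ea with rfl | rfl <;> rcases sq_one b eb with rfl | rfl
      · simp at h1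
      · exact hz (by rw [map_one, one_mul, m.neg₂])
      · exact hz (by rw [map_one, mul_one, m.neg₁])
      · exact h1 (by rw [m.neg₁, m.neg₂, m.zz])
    · obtain ⟨c, rfl⟩ := quat_class a ea
      obtain ⟨d, rfl⟩ := quat_class b eb
      exact ⟨_, m.mem_cent c d, by rw [m.mul_pair, m.inv_pair, m.mul_pair]⟩
  · right
    rw [show m.i₁ a * m.i₂ b * τ * (m.i₁ a * m.i₂ b * τ) = m.i₁ a * m.i₂ b * (τ * (m.i₁ a * m.i₂ b) * τ) by group,
      m.tau_pair, m.mul_pair] at ht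
    rcases m.ker _ _ ht with ⟨ea, eb⟩ | ⟨ea, -⟩
    · obtain ⟨c, rfl⟩ := twist_class a ea
      obtain ⟨d, rfl⟩ := twist_class b eb
      refine ⟨_, m.mem_cent c d, ?_⟩
      rw [m.inv_pair, mul_assoc, m.tau_move, ← mul_assoc, m.mul_pair, dc_inv, dc_inv]
    · exact absurd ea (twist_sq a)

/-- The centraliser of the four group is elementary of order eight. -/
theorem cent_four {g : G} (hz : Commute z g) (ht : Commute τ g) :
    ∃ a b, ((a = 1 ∨ a = ng) ∧ (b = 1 ∨ b = ng) ∨ (a = Jm ∨ a = ng * Jm) ∧ (b = Jm ∨ b = ng * Jm)) ∧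
      (g = m.i₁ a * m.i₂ b ∨ g = m.i₁ a * m.i₂ b * τ) := by
  obtain ⟨a, b, e⟩ := (m.cent g).1 hz
  refine ⟨a, b, ?_, e⟩
  have hp : τ * (m.i₁ a * m.i₂ b) * τ = m.i₁ a * m.i₂ b := by
    have hc : Commute τ (m.i₁ a * m.i₂ b) := by
      rcases e with rfl | rfl
      · exact ht
      · simpa [mul_assoc, m.tt] using ht.mul_right (Commute.refl τ)
    rw [hc.eq, mul_assoc, m.tt, mul_one]
  rw [m.tau_pair] at hp
  rcases m.pair_eq hp with ⟨e1, e2⟩ | ⟨e1, e2⟩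
  · exact Or.inl ⟨dc_fixed a e1, dc_fixed b e2⟩
  · exact Or.inr ⟨dc_anti a e1, dc_anti b e2⟩

theorem JJ_tau : Commute τ (m.i₁ Jm * m.i₂ Jm) := by
  show τ * (m.i₁ Jm * m.i₂ Jm) = m.i₁ Jm * m.i₂ Jm * τ
  rw [m.tau_move, dc_J, m.ng_pair₂]

theorem cent_four_invol {g : G} (hz : Commute z g) (ht : Commute τ g) : g * g = 1 := by
  obtain ⟨a, b, hab, e⟩ := m.cent_four hz ht
  have key : m.i₁ a * m.i₂ b * (m.i₁ a * m.i₂ b) = 1 := by
    rw [m.mul_pair]
    have hs : ∀ c : S2, c = 1 ∨ c = ng → c * c = 1 := by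
      rintro c (rfl | rfl)
      exacts [mul_one 1, ng_sq]
    have hj : ∀ c : S2, c = Jm ∨ c = ng * Jm → c * c = ng := by
      rintro c (rfl | rfl)
      · exact J_sq
      · rw [mul_assoc, ← mul_assoc Jm, ← ng_central, mul_assoc, J_sq, ← mul_assoc, ng_sq, one_mul]
    rcases hab with ⟨h1, h2⟩ | ⟨h1, h2⟩
    · rw [hs a h1, hs b h2, map_one, map_one, mul_one]
    · rw [hj a h1, hj b h2, m.neg₁, m.neg₂, m.zz]
  rcases e with rfl | rfl
  · exact key
  · have hc : Commute τ (m.i₁ a * m.i₂ b) := by simpa [mul_assoc, m.tt] using ht.mul_right (Commute.refl τ)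
    calc m.i₁ a * m.i₂ b * τ * (m.i₁ a * m.i₂ b * τ)
        = m.i₁ a * m.i₂ b * (τ * (m.i₁ a * m.i₂ b)) * τ := by group
      _ = m.i₁ a * m.i₂ b * (m.i₁ a * m.i₂ b) * (τ * τ) := by rw [hc.eq]; group
      _ = 1 := by rw [key, m.tt, one_mul]

/-- An involution all of whose companions in the centraliser are involutions is outer. -/
theorem outer_of {t : G} (h : Commute z t) (ht : t * t = 1) (h1 : t ≠ 1) (hz : t ≠ z)
    (hel : ∀ g, Commute z g → Commute t g → g * g = 1) : ∃ c, Commute z c ∧ c * τ * c⁻¹ = t := by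
  refine (m.cases_invol h ht h1 hz).resolve_left ?_
  rintro ⟨c, hc, rfl⟩
  have hJ : Commute (m.i₁ Jm * m.i₂ Jm) (m.i₁ Jm) :=
    ((Commute.refl (m.i₁ Jm)).mul_left (m.comm Jm Jm).symm)
  have h1' : Commute z (m.i₁ Jm) := by simpa using m.mem_cent Jm 1
  have hw := hel (c * m.i₁ Jm * c⁻¹) ((hc.mul_right h1').mul_right hc.inv_right) (by
    simpa using hJ.map (MulAut.conj c).toMonoidHom)
  rw [show c * m.i₁ Jm * c⁻¹ * (c * m.i₁ Jm * c⁻¹) = c * (m.i₁ Jm * m.i₁ Jm) * c⁻¹ by group, ← map_mul, J_sq,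
    m.neg₁, mul_inv_eq_one, mul_eq_left] at hw
  have := m.orderOf_z
  rw [hw, orderOf_one] at this
  norm_num at this

end Mdl

end Cfsg.Lib.GTwoType
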