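import Cfsg.Agent.Lib.GTwoType.Three

/-!
# The frames in the core of a root element

Exactly one root element of each of the two fixed parts commutes with the second root element.
-/

set_option autoImplicit false

namespace Cfsg.Lib.GTwoType

open Subgroup Cfsg

theorem L_list : ∀ x ∈ five, x ≠ 1 → x * Um = Um * x ∨ x = Lm ∨ x = Lm⁻¹ := by decide +kernel
theorem U_L_U : Um * Lm⁻¹ * Um = Jm := by decide +kernel

namespace Mdl

variable {G : Type*} [Group G] [Finite G] {z τ : G} (m : Mdl z τ)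
include m

omit [Finite G] in
/-- Transport along equations. -/
theorem exists_cast {g z' τ' : G} (hz : g * z * g⁻¹ = z') (ht : g * τ * g⁻¹ = τ') :
    ∃ m' : Mdl z' τ', ∀ c, m'.i₁ c = g * m.i₁ c * g⁻¹ ∧ m'.i₂ c = g * m.i₂ c * g⁻¹ := by
  subst hz ht
  exact ⟨m.conjM g, fun c => ⟨rfl, rfl⟩⟩

theorem exists_frame (hG : Ctx G) : ∃ p : Mdl τ z, p.EE = m.T := by
  obtain ⟨p, hp⟩ := m.T_props hG
  exact ⟨p, (eq_of_le_of_card_ge hp (by rw [p.card_EE, hG.nine m])).symm⟩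

theorem T_abelian (hG : Ctx G) {x y : G} (hx : x ∈ m.T) (hy : y ∈ m.T) : Commute x y := by
  obtain ⟨p, hp⟩ := m.exists_frame hG
  exact p.EE_comm (hp ▸ hx) (hp ▸ hy)

theorem U_tau {y : G} (hy : y ∈ m.U) : τ * y * τ = y⁻¹ := by
  rw [← m.U_inverted hy]
  have h : z * τ * y * (z * τ) = y := by rw [← (m.mem_U.1 hy).2.eq, mul_assoc, m.twist.tt, mul_one]
  have hz : z * τ * z = τ := by rw [m.z_tau.eq, mul_assoc, m.zz, mul_one]
  calc τ * y * τ = (z * z) * τ * y * (z * τ * z) := by rw [m.zz, one_mul, hz]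
    _ = z * (z * τ * y * (z * τ)) * z := by group
    _ = z * y * z := by rw [h]

theorem a_inv_one {x : G} (hx : x ∈ zpowers m.a) (hi : z * x * z = x⁻¹) : x = 1 := by
  obtain ⟨h1, -, h3⟩ := m.a_cases hx
  rw [h1] at hi
  exact sq_one_odd (odd_of_cube h3) (eq_inv_iff_mul_eq_one.1 hi)

omit [Finite G] in
theorem b_neg : z = (m.b * (m.i₂ Jm * m.b * (m.i₂ Jm)⁻¹)) ^ 3 := by
  show z = (m.i₂ Um * (m.i₂ Jm * m.i₂ Um * (m.i₂ Jm)⁻¹)) ^ 3
  rw [← map_inv, ← map_mul, ← map_mul, ← map_mul, ← map_pow, UL_neg, m.neg₂]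

/-- Nothing inverted commutes with two opposite root elements. -/
theorem eq_one_of_both {x : G} (hx : x ∈ V m.a) (hi : z * x * z = x⁻¹) (h1 : Commute x m.b)
    (h2 : Commute x (m.i₂ Jm * m.b * (m.i₂ Jm)⁻¹)) : x = 1 := by
  have hz : Commute x z := m.b_neg ▸ (h1.mul_right h2).pow_right 3
  rw [← hz.eq, mul_assoc, m.zz, mul_one] at hi
  exact sq_one_odd (odd_of_mem_V hx) (eq_inv_iff_mul_eq_one.1 hi)

theorem twist_TB_bot (hTb : m.T ≤ centralizer ({m.b} : Set G)) {y : G} (hy : y ∈ m.U) (hyb : Commute y m.b) :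
    y = 1 := by
  refine m.eq_one_of_both (m.U_le hy) (m.U_inverted hy) hyb ?_
  have hx : (m.i₂ Jm)⁻¹ * y * m.i₂ Jm ∈ m.T := m.j_T.2 (by simpa [mul_assoc] using hy)
  have := conj_fix (g := m.i₂ Jm) (mem_centralizer_singleton_iff.1 (hTb hx) : Commute _ m.b)
  simpa [mul_assoc] using this

theorem U_normalises (hTb : m.T ≤ centralizer ({m.b} : Set G)) {n : G} (hn : n ∈ m.U) :
    n ∈ normalizer (m.A : Set G) := by
  have hnV := m.U_le hn
  obtain ⟨c, hc, q, hq, -, y, hy, -, hv⟩ :=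
    m.decomp le_rfl m.a_mem_V (fun _ => m.z_norm) (fun _ => m.tau_norm) (m.V_conj_a m.a_b hnV)
  have hbc : Commute m.b c := by
    obtain ⟨k, rfl⟩ := mem_zpowers_iff.1 hc
    exact m.a_b.symm.zpow_right k
  have hbq : Commute m.b q := (mem_centralizer_singleton_iff.1 (hTb hq) : Commute q m.b).symm
  have hqt : τ * q * τ = q := by rw [← (m.mem_T.1 hq).2.eq, mul_assoc, m.tt, mul_one]
  have e1 : m.b⁻¹ * n * m.b = y * q⁻¹ * c := by
    apply inv_injective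
    calc (m.b⁻¹ * n * m.b)⁻¹ = (τ * m.b * τ) * (τ * n * τ) * (τ * m.b * τ)⁻¹ := by
          rw [m.b_props.2.2, m.U_tau hn]; group
      _ = τ * m.b * (τ * τ) * n * m.b⁻¹ * τ⁻¹ := by group
      _ = τ * (m.b * n * m.b⁻¹) * τ := by rw [m.tt, m.tau_inv]; group
      _ = τ * (c * q * y) * τ := by rw [hv]
      _ = τ * c * (τ * τ) * q * (τ * τ) * y * τ := by rw [m.tt]; group
      _ = (τ * c * τ) * (τ * q * τ) * (τ * y * τ) := by group
      _ = _ := by rw [(m.a_cases hc).2.1, hqt, m.U_tau hy]; group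
  have hM : Commute m.b (q⁻¹ * c) := hbq.inv_right.mul_right hbc
  have e2 : m.b * y * m.b⁻¹ = n * (q⁻¹ * c)⁻¹ := by
    have : n = m.b * y * m.b⁻¹ * (q⁻¹ * c) := by
      calc n = m.b * (m.b⁻¹ * n * m.b) * m.b⁻¹ := by group
        _ = m.b * y * ((q⁻¹ * c) * m.b⁻¹) := by rw [e1]; group
        _ = _ := by rw [← hM.inv_left.eq]; group
    rw [eq_mul_inv_iff_mul_eq, ← this]
  set d := q * y * q⁻¹ * y⁻¹ with hd
  set e := c * d * c
  have he : e ∈ zpowers m.a := mul_mem (mul_mem hc (m.comm_mem (m.T_le hq) (m.U_le hy))) hc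
  set w := n * y⁻¹ with hwd
  have hw : w ∈ m.U := mul_mem hn (inv_mem hy)
  have e3 : m.b * w * m.b⁻¹ = e * w⁻¹ := by
    calc m.b * w * m.b⁻¹ = (m.b * n * m.b⁻¹) * (m.b * y * m.b⁻¹)⁻¹ := by rw [hwd]; group
      _ = c * d * (y * c) * n⁻¹ := by rw [hv, e2, hd]; group
      _ = c * d * (c * y) * n⁻¹ := by rw [(m.a_central (m.U_le hy) hc).eq]
      _ = c * d * c * w⁻¹ := by rw [hwd]; group
  have hbe : Commute m.b e := by
    obtain ⟨k, hk⟩ := mem_zpowers_iff.1 he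
    exact hk ▸ m.a_b.symm.zpow_right k
  have e4 : m.b⁻¹ * w * m.b = w := by
    have hbb : m.b * m.b = m.b⁻¹ := eq_inv_of_mul_eq_one_left (by rw [← pow_two, ← pow_succ, m.b_props.2.1])
    calc m.b⁻¹ * w * m.b = (m.b * m.b) * w * (m.b * m.b)⁻¹ := by rw [hbb, inv_inv]
      _ = m.b * (m.b * w * m.b⁻¹) * m.b⁻¹ := by group
      _ = (m.b * e) * w⁻¹ * m.b⁻¹ := by rw [e3]; group
      _ = (e * m.b) * w⁻¹ * m.b⁻¹ := by rw [hbe.eq]
      _ = e * (m.b * w * m.b⁻¹)⁻¹ := by group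
      _ = e * w * e⁻¹ := by rw [e3]; group
      _ = w := by rw [← (m.a_central (m.U_le hw) he).eq, mul_inv_cancel_right]
  have e5 : w * w = e := by
    have : m.b * w * m.b⁻¹ = w := by
      conv_lhs => rw [← e4]
      group
    rw [this] at e3
    rw [← eq_mul_inv_iff_mul_eq]
    exact e3
  have hw1 : w = 1 := sq_one_odd (odd_of_mem_V (m.U_le hw)) (e5.trans
    (m.a_inv_one he (e5 ▸ m.U_inverted (mul_mem hw hw))))
  obtain rfl : n = y := mul_inv_eq_one.1 hw1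
  have hM' : c * q ∈ m.A := mul_mem (m.EE_le_A ((zpowers_le.2 m.a_mem) hc)) (m.T_le_A hq)
  refine norm_of_le (sup_le (m.EE_le ?_ ?_) fun p hp => ?_)
  · show n * m.a * n⁻¹ ∈ m.A
    rw [(V_comm hnV).eq, mul_inv_cancel_right]
    exact m.EE_le_A m.a_mem
  · show n * m.b * n⁻¹ ∈ m.A
    have h : n * m.b * n⁻¹ = (c * q)⁻¹ * m.b := by
      calc n * m.b * n⁻¹ = (c * q)⁻¹ * (c * q * n) * m.b * n⁻¹ := by group
        _ = (c * q)⁻¹ * m.b := by rw [← hv]; group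
    rw [h]
    exact mul_mem (inv_mem hM') (m.EE_le_A m.b_mem)
  · show n * p * n⁻¹ ∈ m.A
    rw [show n * p * n⁻¹ = (n * p * n⁻¹ * p⁻¹) * p by group]
    exact mul_mem (m.EE_le_A ((zpowers_le.2 m.a_mem) (m.comm_mem hnV (m.T_le hp)))) (m.T_le_A hp)

theorem T_not_fixed (hG : Ctx G) : ¬ m.T ≤ centralizer ({m.b} : Set G) := by
  intro hTb
  have hTB : m.TB = m.T := inf_eq_left.2 hTb
  have hsT : m.swap.T = m.T :=
    (eq_of_le_of_card_ge (hTB.ge.trans (m.TB_le_swap.trans inf_le_left)) (by rw [hG.nine, hG.nine])).symm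
  have hsTb : m.swap.T ≤ centralizer ({m.swap.b} : Set G) := by
    rw [hsT]
    exact fun q hq => mem_centralizer_singleton_iff.2 (V_comm (m.T_le hq)).eq
  have hA : m.swap.A = m.A := by
    have hE : m.swap.EE = m.EE :=
      le_antisymm (m.swap.EE_le m.b_mem m.a_mem) (m.EE_le m.swap.b_mem m.swap.a_mem)
    rw [A, A, hE, hsT]
  have hcap : ∀ y ∈ m.swap.U, y ∈ m.U → y = 1 := fun y h1 h2 =>
    m.twist_TB_bot hTb h2 (V_comm (m.swap.U_le h1))
  obtain ⟨m2, hm2⟩ := m.twist.exists_frame hG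
  have side : ∀ q : Mdl (z * τ) z, q.EE = m.U → q.i₁ Lm⁻¹ ∈ m.swap.U := by
    intro q hq
    have hrep : ∀ g : m.swap.U, ∃ a b, a ∈ five ∧ b ∈ five ∧ (g : G) = q.i₁ a * q.i₂ b := fun g =>
      q.five_rep (m.swap.mem_U.1 g.2).2.symm (m.swap.twist.T_cube hG g.2) (m.swap.U_inverted g.2)
    choose f₁ f₂ hf₁ hf₂ hf using hrep
    obtain ⟨g, g', hne, he⟩ : ∃ g g' : m.swap.U, g ≠ g' ∧ f₂ g = f₂ g' := by
      by_contra hh
      push_neg at hh
      have hle := Nat.card_le_card_of_injective (fun g => (⟨f₂ g, List.mem_toFinset.2 (hf₂ g)⟩ : five.toFinset))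
        fun g g' h => by
          by_contra hne
          exact hh g g' hne (congrArg Subtype.val h)
      rw [show Nat.card m.swap.U = 9 from hG.nine m.swap.twist, Nat.card_eq_fintype_card,
        Fintype.card_coe] at hle
      exact absurd hle (by decide +kernel)
    have hmem : (g : G) * (g' : G)⁻¹ ∈ m.swap.U := mul_mem g.2 (inv_mem g'.2)
    have he' : (g : G) * (g' : G)⁻¹ = q.i₁ (f₁ g * (f₁ g')⁻¹) := by
      rw [hf g, hf g', q.inv_pair, q.mul_pair, he, mul_inv_cancel, map_one, mul_one]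
    have hx1 : f₁ g * (f₁ g')⁻¹ ≠ 1 := fun h => hne (by
      rw [h, map_one] at he'
      exact Subtype.ext (mul_inv_eq_one.1 he'))
    set h := g * g'⁻¹ with hh'
    have h1 : f₁ h = f₁ g * (f₁ g')⁻¹ ∧ f₂ h = 1 := by
      have hc : (f₁ g * (f₁ g')⁻¹) ^ 3 = 1 ∨ (f₁ g * (f₁ g')⁻¹) ^ 3 = ng := by
        have h3 := m.swap.twist.T_cube hG hmem
        rw [he', ← map_pow] at h3
        exact (q.ker _ 1 (by rw [map_one, mul_one]; exact h3)).elim (fun k => Or.inl k.1) fun k => absurd k.2.symm ng_ne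
      rcases hc with hc | hc
      · refine q.pair3_eq ((by decide +kernel : ∀ x ∈ five, x ^ 3 = 1) _ (hf₁ h)) hc ?_
        rw [← hf h, map_one, mul_one, ← he']; rfl
      · exfalso
        have h3 := m.swap.twist.T_cube hG hmem
        rw [he', ← map_pow, hc, q.neg₁] at h3
        have := q.orderOf_z
        rw [h3, orderOf_one] at this
        norm_num at this
    have hh1 : (h : G) = q.i₁ (f₁ h) := by rw [hf h, h1.2, map_one, mul_one]
    rcases L_list _ (hf₁ h) (h1.1 ▸ hx1) with hU | hL | hL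
    · exfalso
      have hmE : (h : G) ∈ q.EE := by
        have := q.mem_EE_of_comm ((by decide +kernel : ∀ x ∈ five, x ^ 3 = 1) _ (hf₁ h)) (one_pow 3) hU
          (by rw [one_mul, mul_one])
        rwa [map_one, mul_one, ← hh1] at this
      rw [hq] at hmE
      have h0 := hcap _ h.2 hmE
      exact hne (Subtype.ext (mul_inv_eq_one.1 h0))
    · rw [map_inv, ← hL, ← hh1]; exact inv_mem h.2
    · rw [← hL, ← hh1]; exact h.2
  have hswapEE : m2.swap.EE = m2.EE :=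
    le_antisymm (m2.swap.EE_le m2.b_mem m2.a_mem) (m2.EE_le m2.swap.b_mem m2.swap.a_mem)
  have hl₁ := side m2 hm2
  have hl₂ : m2.i₂ Lm⁻¹ ∈ m.swap.U := side m2.swap (hswapEE.trans hm2)
  set n := m2.i₁ Um * m2.i₂ Um with hn
  set l := m2.i₁ Lm⁻¹ * m2.i₂ Lm⁻¹ with hl
  have N₁ : n ∈ normalizer (m.A : Set G) :=
    m.U_normalises hTb (hm2.le (mul_mem m2.a_mem m2.b_mem))
  have N₂ : l ∈ normalizer (m.A : Set G) := by
    rw [← hA]
    exact m.swap.U_normalises hsTb (mul_mem hl₁ hl₂)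
  set w := n * l * n with hwd
  have hwe : w = m2.i₁ Jm * m2.i₂ Jm := by rw [hwd, hn, hl, m2.mul_pair, m2.mul_pair, U_L_U]
  have hwA : ∀ g ∈ m.A, w * g * w⁻¹ ∈ m.A := fun g hg =>
    (mem_normalizer_iff.1 (mul_mem (mul_mem N₁ N₂) N₁) g).1 hg
  have hzz : z * τ * z = τ := by rw [m.z_tau.eq, mul_assoc, m.zz, mul_one]
  have hwz : Commute z w := hwe ▸ m2.JJ_tau
  have hwt : Commute τ w := by
    have h' : Commute (z * τ) w := hwe ▸ m2.mem_cent _ _
    exact hzz ▸ h'.mul_left hwz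
  have hJ : Jm ≠ 1 ∧ Jm ≠ ng := by decide +kernel
  obtain ⟨c, d, hcd, hce⟩ := m.cent_four hwz hwt
  rcases hcd with ⟨hc, hd⟩ | ⟨hc, -⟩
  · have hfour : w = 1 ∨ w = z ∨ w = τ ∨ w = z * τ := by
      rcases hce with e | e <;> rcases hc with rfl | rfl <;> rcases hd with rfl | rfl <;>
        simp [m.neg₁, m.neg₂, m.zz] at e <;> simp [e]
    rcases hfour with e | e | e | e <;> rw [hwe] at e
    · rcases m2.ker _ _ e with ⟨u, -⟩ | ⟨u, -⟩
      exacts [hJ.1 u, hJ.2 u]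
    · exact m2.out _ _ e
    · refine m2.not_outer (c := ng) (d := 1) (e.trans ?_)
      rw [m2.neg₁, map_one, mul_one, hzz]
    · have e' : m2.i₁ Jm * m2.i₂ Jm = m2.i₁ ng * m2.i₂ 1 := by rw [m2.neg₁, map_one, mul_one]; exact e
      rcases m2.pair_eq e' with ⟨u, -⟩ | ⟨u, -⟩
      exacts [hJ.2 u, hJ.1 (by rw [u, ng_sq])]
  · have hwa := hwA _ (m.EE_le_A m.a_mem)
    have hin := m.A_fix_z hTb hwa ((hwz.mul_right m.a_props.1).mul_right hwz.inv_right)
    have hp' : (m.i₁ c * m.i₂ d) * m.a * (m.i₁ c * m.i₂ d)⁻¹ ∈ m.EE := by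
      rcases hce with e | e
      · rw [← e]; exact hin
      · have he : w * m.a * w⁻¹ = ((m.i₁ c * m.i₂ d) * m.a * (m.i₁ c * m.i₂ d)⁻¹)⁻¹ := by
          rw [e]
          calc m.i₁ c * m.i₂ d * τ * m.a * (m.i₁ c * m.i₂ d * τ)⁻¹
              = m.i₁ c * m.i₂ d * (τ * m.a * τ⁻¹) * (m.i₁ c * m.i₂ d)⁻¹ := by group
            _ = _ := by rw [m.tau_inv, m.a_props.2.2]; group
        rw [he] at hin
        simpa using inv_mem hin
    have hcm := m.EE_comm hp' m.a_mem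
    have ea : m.i₁ Um = m.i₁ Um * m.i₂ 1 := by rw [map_one, mul_one]
    change Commute (_ * m.i₁ Um * _) (m.i₁ Um) at hcm
    rw [ea, m.inv_pair, m.mul_pair, m.mul_pair] at hcm
    rcases m.pair_comm hcm with ⟨u, -⟩ | ⟨u, -⟩
    exacts [(J_pm _ hc).2.2.1 u, (J_pm _ hc).2.2.2 u]

theorem card_TB (hG : Ctx G) : Nat.card m.TB = 3 := by
  haveI : Fact (Nat.Prime 3) := ⟨Nat.prime_three⟩
  have key : ∀ {z' τ' : G} (m' : Mdl z' τ'), Nat.card m'.TB ≤ 3 := by
    intro z' τ' m'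
    have hd : Nat.card m'.TB ∣ Nat.card m'.T := card_dvd_of_le inf_le_left
    rw [hG.nine, show 9 = 3 ^ 2 by norm_num] at hd
    obtain ⟨k, hk, e⟩ := (Nat.dvd_prime_pow Nat.prime_three).1 hd
    have hne : Nat.card m'.TB ≠ 9 := fun h => m'.T_not_fixed hG
      ((eq_of_le_of_card_ge (show m'.TB ≤ m'.T from inf_le_left) (by rw [hG.nine, h])).ge.trans inf_le_right)
    interval_cases k <;> omega
  have h := m.T_nine_KB hG (hG.nine m)
  have h1 := key m
  have h2 := key m.twist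
  have h3 : Nat.card m.TB * Nat.card m.twist.TB ≤ Nat.card m.TB * 3 := Nat.mul_le_mul_left _ h2
  omega

theorem T_ne_swap (hG : Ctx G) : ¬ m.swap.T ≤ m.T := fun h => by
  have e : m.swap.T = m.T := eq_of_le_of_card_ge h (by rw [hG.nine, hG.nine])
  exact m.T_not_fixed hG fun x hx => mem_centralizer_singleton_iff.2 (V_comm (m.swap.T_le (e.ge hx))).eq

/-- An element fixed by the second root element is a root element of any frame. -/
theorem TB_root (hG : Ctx G) (q : Mdl τ z) (hq : q.EE = m.T) : Commute q.a m.b ∨ Commute q.b m.b := by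
  have hne : m.TB ≠ ⊥ := fun h => by
    have := m.card_TB hG
    rw [h, card_bot] at this
    omega
  obtain ⟨x, hx, hx1⟩ := (bot_or_exists_ne_one m.TB).resolve_left hne
  obtain ⟨hxT, hxb⟩ := m.mem_TB.1 hx
  have hxq : x ∈ q.EE := hq ▸ hxT
  obtain ⟨i, j, e⟩ := q.mem_EE.1 hxq
  have key : ∀ q' : Mdl τ z, ∀ k : Fin 3, k ≠ 0 → x = q'.i₁ (Um ^ (k : ℕ)) → Commute q'.a m.b := by
    intro q' k hk e
    rw [map_pow] at e
    fin_cases k
    · exact absurd rfl hk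
    · simp only [pow_one] at e
      show Commute (q'.i₁ Um) m.b
      exact e ▸ hxb
    · have h2 : x * x = q'.a := by
        rw [e]
        show q'.i₁ Um ^ 2 * q'.i₁ Um ^ 2 = q'.i₁ Um
        rw [← map_pow, ← map_mul]
        congr 1
        decide +kernel
      exact h2 ▸ hxb.mul_left hxb
  by_cases hi : i = 0
  · subst hi
    have hj : j ≠ 0 := by rintro rfl; simp at e; exact hx1 e
    exact Or.inr (key q.swap j hj (by simp [e, swap]))
  by_cases hj : j = 0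
  · subst hj
    exact Or.inl (key q i hi (by simp [e]))
  exfalso
  refine m.T_ne_swap hG fun g hg => ?_
  obtain ⟨hgV, hgτ⟩ := m.swap.mem_T.1 hg
  have hxs : x ∈ m.swap.T := (m.swap.mem_TB.1 (m.TB_le_swap hx)).1
  rw [← hq]
  exact (q.diag_cent hi hj hgτ.symm (e ▸ m.swap.T_abelian hG hxs hg)).1 (m.swap.T_cube hG hg) (m.swap.T_inverted hg)

theorem conj_frame (hG : Ctx G) (p : Mdl τ z) (hp : p.EE = m.T) : ∃ q : Mdl (z * τ) z, q.EE = m.U ∧
    q.a = m.i₂ Jm * p.a * (m.i₂ Jm)⁻¹ ∧ q.b = m.i₂ Jm * p.b * (m.i₂ Jm)⁻¹ := by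
  obtain ⟨h1, -, h3, -⟩ := m.j_conj
  obtain ⟨q, hq⟩ := p.exists_cast h1 h3
  refine ⟨q, eq_of_le_of_card_ge (q.EE_le ?_ ?_) (le_of_eq ?_), (hq Um).1, (hq Um).2⟩
  · show q.i₁ Um ∈ m.U
    rw [(hq Um).1]
    exact m.j_T.1 (hp ▸ p.a_mem)
  · show q.i₂ Um ∈ m.U
    rw [(hq Um).2]
    exact m.j_T.1 (hp ▸ p.b_mem)
  · rw [q.card_EE]
    exact hG.nine m.twist

theorem T_twist_U {x : G} (hx : x ∈ m.T) : x ∈ m.twist.U := by
  obtain ⟨h1, h2⟩ := m.mem_T.1 hx
  refine m.twist.mem_U.2 ⟨h1, ?_⟩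
  rwa [← mul_assoc, m.zz, one_mul]

/-- The fixed part for a root element of the fixed part. -/
theorem p_T (hG : Ctx G) (p : Mdl τ z) (hp : p.EE = m.T) (hb : Commute p.a m.b) : p.T = m.EE := by
  have ha : Commute p.a m.a := V_comm (m.T_le (hp ▸ p.a_mem))
  have hle : m.EE ≤ p.T := m.EE_le
    (p.mem_T_of ha (odd_of_cube m.a_props.2.1) m.a_props.2.2 m.a_props.1.symm)
    (p.mem_T_of hb (odd_of_cube m.b_props.2.1) m.b_props.2.2 m.b_props.1.symm)
  exact (eq_of_le_of_card_ge hle (by rw [hG.nine, m.card_EE])).symm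

theorem p_U (p : Mdl τ z) {x : G} (hx : x ∈ m.U) (h : Commute p.a x) : x ∈ p.U := by
  obtain ⟨h1, h2⟩ := m.mem_U.1 hx
  refine p.twist.mem_T_of h (odd_of_mem_V h1) (m.U_tau hx) ?_
  rwa [← m.z_tau.eq]

theorem not_abel_of (hG : Ctx G) (p : Mdl τ z) (hp : p.EE = m.T) (hb : Commute p.a m.b) {x : G} (hx : x ∈ m.U)
    (h : Commute p.a x) (hxb : ¬ Commute x m.b) : ¬ ∀ v ∈ V p.a, ∀ w ∈ V p.a, Commute v w := fun hab =>
  hxb (hab _ (p.twist.T_le (m.p_U p hx h)) _ (p.T_le ((m.p_T hG p hp hb).ge m.b_mem)))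

theorem cen_of (hG : Ctx G) (p : Mdl τ z) (hp : p.EE = m.T) (hb : Commute p.a m.b) {x : G} (hx : x ∈ m.U)
    (h : Commute p.a x) (hxb : Commute x m.b) (hx1 : x ≠ 1) :
    ∃ v ∈ V p.a, v ∉ zpowers p.a ∧ ∀ w ∈ V p.a, Commute v w := by
  have hxU := m.p_U p hx h
  refine ⟨x, p.twist.T_le hxU, fun hz => hx1 (p.a_inv_one hz (m.U_tau hx)), fun w hw => ?_⟩
  obtain ⟨c, hc, t, ht, -, u, hu, -, rfl⟩ := p.decomp le_rfl p.a_mem_V (fun _ => p.z_norm) (fun _ => p.tau_norm) hw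
  refine ((p.a_central (p.twist.T_le hxU) hc).mul_right ?_).mul_right (p.twist.T_abelian hG hxU hu)
  have hle : m.EE ≤ centralizer ({x} : Set G) := m.EE_le
    (mem_centralizer_singleton_iff.2 (V_comm (m.U_le hx)).symm.eq) (mem_centralizer_singleton_iff.2 hxb.symm.eq)
  exact (show Commute t x from mem_centralizer_singleton_iff.1 (hle ((m.p_T hG p hp hb) ▸ ht))).symm

end Mdl

theorem pow_fin_comm {G : Type*} [Group G] {x y : G} (h3 : x ^ 3 = 1) (hxy : ¬ Commute x y) {i : Fin 3}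
    (h : Commute (x ^ (i : ℕ)) y) : i = 0 := by
  fin_cases i
  · rfl
  · exact absurd (by simpa using h) hxy
  · refine absurd ?_ hxy
    have := h.mul_left h
    rwa [← pow_add, show x ^ ((2 : ℕ) + 2) = x by rw [show (2 : ℕ) + 2 = 3 + 1 by norm_num, pow_succ, h3, one_mul]] at this

theorem cen_conj {G : Type*} [Group G] [Finite G] {r : G} (g : G)
    (h : ∃ v ∈ V r, v ∉ zpowers r ∧ ∀ w ∈ V r, Commute v w) :
    ∃ v ∈ V (g * r * g⁻¹), v ∉ zpowers (g * r * g⁻¹) ∧ ∀ w ∈ V (g * r * g⁻¹), Commute v w := by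
  obtain ⟨v, hv, hn, hc⟩ := h
  refine ⟨g * v * g⁻¹, V_conj_le r g v hv, fun hz => hn ?_, fun w hw => ?_⟩
  · obtain ⟨k, hk⟩ := mem_zpowers_iff.1 hz
    rw [conj_zpow] at hk
    exact mem_zpowers_iff.2 ⟨k, mul_left_cancel (mul_right_cancel hk)⟩
  · have h' := V_conj_le _ g⁻¹ w hw
    rw [show g⁻¹ * (g * r * g⁻¹) * g⁻¹⁻¹ = r by group] at h'
    simpa [mul_assoc] using (hc _ h').map (MulAut.conj g).toMonoidHom

theorem abel_conj {G : Type*} [Group G] [Finite G] {r : G} (g : G)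
    (h : ∀ v ∈ V r, ∀ w ∈ V r, Commute v w) : ∀ v ∈ V (g * r * g⁻¹), ∀ w ∈ V (g * r * g⁻¹), Commute v w := by
  intro v hv w hw
  have key : ∀ {x : G}, x ∈ V (g * r * g⁻¹) → g⁻¹ * x * g ∈ V r := fun {x} hx => by
    have := V_conj_le _ g⁻¹ x hx
    rwa [show g⁻¹ * (g * r * g⁻¹) * g⁻¹⁻¹ = r by group, inv_inv] at this
  simpa [mul_assoc] using (h _ (key hv) _ (key hw)).map (MulAut.conj g).toMonoidHom

namespace Mdl

variable {G : Type*} [Group G] [Finite G] {z τ : G}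

/-- A frame in the fixed part adapted to the second root element. -/
structure Good (m : Mdl z τ) (p : Mdl τ z) : Prop where
  ctx : Ctx G
  EE_eq : p.EE = m.T
  rb : Commute p.a m.b
  sb : Commute (m.i₂ Jm * p.b * (m.i₂ Jm)⁻¹) m.b
  rr : Commute p.a (m.i₂ Jm * p.a * (m.i₂ Jm)⁻¹)
  ss : ¬ Commute p.b (m.i₂ Jm * p.b * (m.i₂ Jm)⁻¹)

variable (m : Mdl z τ)
include m

omit [Finite G] in
theorem j_j {x : G} (hx : z * x * z = x⁻¹) :
    m.i₂ Jm * (m.i₂ Jm * x * (m.i₂ Jm)⁻¹) * (m.i₂ Jm)⁻¹ = x⁻¹ := by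
  have h : m.i₂ Jm * m.i₂ Jm = z := by rw [← map_mul, J_sq, m.neg₂]
  calc m.i₂ Jm * (m.i₂ Jm * x * (m.i₂ Jm)⁻¹) * (m.i₂ Jm)⁻¹ = (m.i₂ Jm * m.i₂ Jm) * x * (m.i₂ Jm * m.i₂ Jm)⁻¹ := by group
    _ = x⁻¹ := by rw [h, m.z_inv, hx]

/-- The relations between the generators of the two fixed parts. -/
theorem cross (hG : Ctx G) (p : Mdl τ z) (hp : p.EE = m.T) (hb : Commute p.a m.b) :
    ¬ Commute p.b m.b ∧ ¬ Commute (m.i₂ Jm * p.a * (m.i₂ Jm)⁻¹) m.b ∧
      Commute (m.i₂ Jm * p.b * (m.i₂ Jm)⁻¹) m.b ∧ Commute p.a (m.i₂ Jm * p.b * (m.i₂ Jm)⁻¹) ∧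
      Commute p.b (m.i₂ Jm * p.a * (m.i₂ Jm)⁻¹) := by
  set j := m.i₂ Jm with hj
  have hr : p.a ∈ m.T := hp ▸ p.a_mem
  have hs : p.b ∈ m.T := hp ▸ p.b_mem
  have n1 : ¬ Commute p.b m.b := fun h => m.T_not_fixed hG (hp ▸ p.EE_le
    (mem_centralizer_singleton_iff.2 hb.eq) (mem_centralizer_singleton_iff.2 h.eq))
  have n2 : ¬ Commute (j * p.a * j⁻¹) m.b := fun h => p.a_ne (by
    have h' := m.eq_one_of_both (m.U_le (m.j_T.1 hr)) (m.U_inverted (m.j_T.1 hr)) h (conj_fix hb)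
    simpa using h')
  obtain ⟨q, hq, qa, qb⟩ := m.conj_frame hG p hp
  have n3 : Commute (j * p.b * j⁻¹) m.b := qb ▸ (m.twist.TB_root hG q hq).resolve_left fun h => n2 (qa ▸ h)
  have n4 : Commute p.a (j * p.b * j⁻¹) := by
    have hsU : j * p.b * j⁻¹ ∈ m.U := m.j_T.1 hs
    obtain ⟨r1, r2⟩ := m.swap.mem_TB.1 (m.TB_le_swap (m.mem_TB.2 ⟨hr, hb⟩))
    obtain ⟨s1, s2⟩ := m.twist.swap.mem_TB.1 (m.twist.TB_le_swap (m.twist.mem_TB.2 ⟨hsU, n3⟩))
    set d := p.a * (j * p.b * j⁻¹) * p.a⁻¹ * (j * p.b * j⁻¹)⁻¹ with hd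
    have d1 : d ∈ zpowers m.a := m.comm_mem (m.T_le hr) (m.U_le hsU)
    have d2 : d ∈ zpowers m.b := m.swap.comm_mem (m.swap.T_le r1) (m.twist.swap.T_le s1)
    have hd1 : d = 1 := by
      obtain ⟨i, hi⟩ : ∃ i : Fin 3, d = m.i₁ (Um ^ (i : ℕ)) * m.i₂ 1 := by
        rcases m.zpow_a d1 with h | h | h
        · exact ⟨0, by simp [h]⟩
        · exact ⟨1, by simp [h]⟩
        · refine ⟨2, ?_⟩
          rw [h, map_one, mul_one, show m.a = m.i₁ Um from rfl, ← map_inv]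
          congr 1
          decide +kernel
      have key : ∀ y : S2, y ^ 3 = 1 → d = m.i₁ 1 * m.i₂ y → d = 1 := by
        intro y hy e
        rw [hi] at e
        obtain ⟨e1, e2⟩ := m.pair3_eq (by rw [← pow_mul, mul_comm, pow_mul, U_cube, one_pow]) (one_pow 3) e
        rw [hi, e1, map_one, map_one, mul_one]
      rcases m.swap.zpow_a d2 with h | h | h
      · exact h
      · exact key Um U_cube (by rw [h, map_one, one_mul]; rfl)
      · exact key Um⁻¹ (by rw [inv_pow, U_cube, inv_one]) (by rw [h, map_one, one_mul, map_inv]; rfl)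
    exact commutatorElement_eq_one_iff_commute.1 hd1
  refine ⟨n1, n2, n3, n4, ?_⟩
  have := conj_fix (g := j) n4
  rw [m.j_j (m.T_inverted hs)] at this
  simpa using this.symm.inv_left

theorem exists_good (hG : Ctx G) : ∃ (τ' : G) (m' : Mdl z τ') (p : Mdl τ' z), m'.Good p := by
  obtain ⟨p, hp, hb⟩ : ∃ p : Mdl τ z, p.EE = m.T ∧ Commute p.a m.b := by
    obtain ⟨p, hp⟩ := m.exists_frame hG
    rcases m.TB_root hG p hp with h | h
    · exact ⟨p, hp, h⟩
    · exact ⟨p.swap, (le_antisymm (p.swap.EE_le p.b_mem p.a_mem) (p.EE_le p.swap.b_mem p.swap.a_mem)).trans hp, h⟩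
  obtain ⟨n1, n2, n3, n4, n5⟩ := m.cross hG p hp hb
  obtain ⟨q₀, hq₀, qa, qb⟩ := m.conj_frame hG p hp
  set q := q₀.swap with hqd
  have hq : q.EE = m.twist.T :=
    (le_antisymm (q.EE_le q₀.b_mem q₀.a_mem) (q₀.EE_le q.b_mem q.a_mem)).trans hq₀
  have hqa : q.a = m.i₂ Jm * p.b * (m.i₂ Jm)⁻¹ := qb
  have hqb : q.b = m.i₂ Jm * p.a * (m.i₂ Jm)⁻¹ := qa
  have hr : p.a ∈ m.T := hp ▸ p.a_mem
  have hs : p.b ∈ m.T := hp ▸ p.b_mem
  have hr' := m.j_T.1 hr
  have hs' := m.j_T.1 hs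
  have hqT : Commute q.a m.twist.b := hqa ▸ n3
  by_cases h1 : Commute p.a (m.i₂ Jm * p.a * (m.i₂ Jm)⁻¹) <;>
    by_cases h2 : Commute p.b (m.i₂ Jm * p.b * (m.i₂ Jm)⁻¹)
  · exfalso
    have hTU : ∀ t ∈ m.T, ∀ u ∈ m.U, Commute t u := by
      intro t ht u hu
      have hP : ∀ x, Commute p.a x → Commute p.b x → Commute t x := fun x ha hb =>
        mem_centralizer_singleton_iff.1
          (p.EE_le (mem_centralizer_singleton_iff.2 ha.eq) (mem_centralizer_singleton_iff.2 hb.eq) (hp.ge ht))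
      have ta : Commute t q.a := hqa ▸ hP _ n4 h2
      have tb : Commute t q.b := hqb ▸ hP _ h1 n5
      exact (mem_centralizer_singleton_iff.1 (q.EE_le (mem_centralizer_singleton_iff.2 ta.symm.eq)
        (mem_centralizer_singleton_iff.2 tb.symm.eq) (hq.ge hu)) : Commute u t).symm
    have hab : ∀ v ∈ V m.a, ∀ w ∈ V m.a, Commute v w := by
      intro v hv w hw
      obtain ⟨c, hc, t, ht, -, u, hu, -, rfl⟩ :=
        m.decomp le_rfl m.a_mem_V (fun _ => m.z_norm) (fun _ => m.tau_norm) hv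
      obtain ⟨c', hc', t', ht', -, u', hu', -, rfl⟩ :=
        m.decomp le_rfl m.a_mem_V (fun _ => m.z_norm) (fun _ => m.tau_norm) hw
      have hC := ((m.a_central hw hc).symm)
      refine (Commute.mul_left hC ?_).mul_left ?_
      · exact ((m.a_central (m.T_le ht) hc').mul_right (m.T_abelian hG ht ht')).mul_right (hTU t ht u' hu')
      · exact ((m.a_central (m.U_le hu) hc').mul_right (hTU t' ht' u hu).symm).mul_right
          (m.twist.T_abelian hG hu hu')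
    have n_r := m.not_abel_of hG p hp hb hr' h1 n2
    have n_s : ¬ ∀ v ∈ V q.a, ∀ w ∈ V q.a, Commute v w :=
      m.twist.not_abel_of hG q hq hqT (m.T_twist_U hs) (hqa ▸ h2.symm) n1
    obtain ⟨g, hg⟩ := m.root_conj hG p
    have hg' := abel_conj g hab
    rcases hg with e | e | e | e <;> rw [e] at hg' <;> try rw [V_inv] at hg'
    · exact n_r hg'
    · exact n_r hg'
    · exact n_s (hqa ▸ abel_conj (m.i₂ Jm) hg')
    · exact n_s (hqa ▸ abel_conj (m.i₂ Jm) hg')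
  · exact ⟨τ, m, p, hG, hp, hb, n3, h1, h2⟩
  · refine ⟨z * τ, m.twist, q, hG, hq, hqT, ?_, ?_, ?_⟩
    · show Commute (m.i₂ Jm * q.b * (m.i₂ Jm)⁻¹) m.b
      rw [hqb, m.j_j (m.T_inverted hr)]
      exact hb.inv_left
    · show Commute q.a (m.i₂ Jm * q.a * (m.i₂ Jm)⁻¹)
      rw [hqa, m.j_j (m.T_inverted hs)]
      exact h2.symm.inv_right
    · show ¬ Commute q.b (m.i₂ Jm * q.b * (m.i₂ Jm)⁻¹)
      rw [hqb, m.j_j (m.T_inverted hr)]
      exact fun h => h1 (by simpa using h.inv_right.symm)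
  · exfalso
    have hn : ¬ ∃ v ∈ V m.a, v ∉ zpowers m.a ∧ ∀ w ∈ V m.a, Commute v w := by
      rintro ⟨v, hv, hvn, hvc⟩
      obtain ⟨c, hc, t, ht, -, u, hu, -, rfl⟩ :=
        m.decomp le_rfl m.a_mem_V (fun _ => m.z_norm) (fun _ => m.tau_norm) hv
      have hu1 : u = 1 := by
        have hux : ∀ x ∈ m.T, Commute u x := fun x hx => by
          have := ((m.a_central (m.T_le hx) hc).symm.mul_left (m.T_abelian hG ht hx)).inv_left.mul_left
            (hvc x (m.T_le hx))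
          rwa [inv_mul_cancel_left] at this
        obtain ⟨i, k, rfl⟩ := q.mem_EE.1 (hq.ge hu)
        rw [map_pow, map_pow] at hux ⊢
        have e1 : i = 0 := by
          refine pow_fin_comm q.a_props.2.1 (y := p.b) (fun h => h2 (hqa ▸ h).symm) ?_
          have := (hux _ hs).mul_left ((show Commute q.b p.b from hqb ▸ n5.symm).pow_left (k : ℕ)).inv_left
          rwa [mul_inv_cancel_right] at this
        have e2 : k = 0 := by
          refine pow_fin_comm q.b_props.2.1 (y := p.a) (fun h => h1 (hqb ▸ h).symm) ?_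
          have := hux _ hr
          rwa [e1, Fin.val_zero, pow_zero, one_mul] at this
        rw [e1, e2, Fin.val_zero, pow_zero, pow_zero, one_mul]
      subst hu1
      rw [mul_one] at hvc hvn
      have ht1 : t = 1 := by
        have htx : ∀ x ∈ m.U, Commute t x := fun x hx => by
          have := (m.a_central (m.U_le hx) hc).symm.inv_left.mul_left (hvc x (m.U_le hx))
          rwa [inv_mul_cancel_left] at this
        obtain ⟨i, k, rfl⟩ := p.mem_EE.1 (hp.ge ht)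
        rw [map_pow, map_pow] at htx ⊢
        have e1 : i = 0 := by
          refine pow_fin_comm p.a_props.2.1 h1 ?_
          have := (htx _ hr').mul_left (n5.pow_left (k : ℕ)).inv_left
          rwa [mul_inv_cancel_right] at this
        have e2 : k = 0 := by
          refine pow_fin_comm p.b_props.2.1 h2 ?_
          have := htx _ hs'
          rwa [e1, Fin.val_zero, pow_zero, one_mul] at this
        rw [e1, e2, Fin.val_zero, pow_zero, pow_zero, one_mul]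
      subst ht1
      exact hvn (by rwa [mul_one])
    have c_r := m.cen_of hG p hp hb hs' n4 n3 (fun h => p.swap.a_ne (show p.b = 1 by
      simpa using h))
    have c_s := m.twist.cen_of hG q hq hqT (m.T_twist_U hr) (hqa ▸ n4.symm) hb p.a_ne
    obtain ⟨g, hg⟩ := m.root_conj hG p
    refine hn ?_
    have hga : m.a = g⁻¹ * (g * m.a * g⁻¹) * g⁻¹⁻¹ := by group
    rw [hga]
    refine cen_conj g⁻¹ ?_
    rw [hqa] at c_s
    have c_s' := cen_conj (m.i₂ Jm)⁻¹ c_s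
    rw [show (m.i₂ Jm)⁻¹ * (m.i₂ Jm * p.b * (m.i₂ Jm)⁻¹) * (m.i₂ Jm)⁻¹⁻¹ = p.b by group] at c_s'
    rcases hg with e | e | e | e <;> rw [e] <;> try rw [V_inv, zpowers_inv]
    exacts [c_r, c_r, c_s', c_s']

variable {m}

theorem Good.U_eq {p : Mdl τ z} (h : m.Good p) : p.U = m.U := by
  obtain ⟨-, -, -, n4, -⟩ := m.cross h.ctx p h.EE_eq h.rb
  obtain ⟨q, hq, qa, qb⟩ := m.conj_frame h.ctx p h.EE_eq
  have hle : q.EE ≤ p.U := q.EE_le (qa ▸ m.p_U p (m.j_T.1 (h.EE_eq ▸ p.a_mem)) h.rr)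
    (qb ▸ m.p_U p (m.j_T.1 (h.EE_eq ▸ p.b_mem)) n4)
  rw [← hq]
  exact (eq_of_le_of_card_ge hle (le_of_eq ((h.ctx.nine p.twist).trans q.card_EE.symm))).symm

theorem Good.symm {p : Mdl τ z} (h : m.Good p) : p.Good m := by
  obtain ⟨n1, n2, n3, n4, n5⟩ := m.cross h.ctx p h.EE_eq h.rb
  have hEE : m.EE = p.T := (m.p_T h.ctx p h.EE_eq h.rb).symm
  obtain ⟨q, hq, qa, qb⟩ := p.conj_frame h.ctx m hEE
  have has : Commute m.a p.b := (V_comm (m.T_le (h.EE_eq ▸ p.b_mem))).symm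
  have hqa : ¬ Commute q.a p.b := fun hc => by
    have hU : q.a ∈ p.U := hq ▸ q.a_mem
    have h1 := p.eq_one_of_both (p.U_le hU) (p.U_inverted hU) hc (qa ▸ conj_fix has)
    exact q.a_ne h1
  have hsb : Commute q.b p.b := (p.twist.TB_root h.ctx q hq).resolve_left hqa
  refine ⟨h.ctx, hEE, has, qb ▸ hsb, qa ▸ (V_comm (m.U_le (h.U_eq ▸ hq ▸ q.a_mem))).symm, ?_⟩
  rw [← qb]
  intro hc
  obtain ⟨q', hq', qa', qb'⟩ := m.conj_frame h.ctx p h.EE_eq
  obtain ⟨i, k, e⟩ := q'.mem_EE.1 (hq'.ge (h.U_eq ▸ hq ▸ q.b_mem) : q.b ∈ q'.EE)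
  rw [map_pow, map_pow] at e
  have ek : k = 0 := by
    refine pow_fin_comm q'.b_props.2.1 (y := p.b) (fun hh => h.ss (qb' ▸ hh).symm) ?_
    have := ((show Commute q'.a p.b from qa' ▸ n5.symm).pow_left (i : ℕ)).inv_left.mul_left (e ▸ hsb)
    rwa [inv_mul_cancel_left] at this
  have e' : q.b = q'.a ^ (i : ℕ) := by rw [e, ek, Fin.val_zero, pow_zero, mul_one]
  have ei : i = 0 := pow_fin_comm q'.a_props.2.1 (fun hh => n2 (qa' ▸ hh)) (e' ▸ hc.symm)
  rw [ei, Fin.val_zero, pow_zero] at e'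
  exact q.swap.a_ne e'

end Mdl

end Cfsg.Lib.GTwoType
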