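import Cfsg.Agent.Lib.GTwoType.Model

/-!
# Coordinates from two commuting copies of `SL(2,3)`

An outer involution that inverts a diagonal element of order three acts on both factors as the diagonal
automorphism, in suitable coordinates.
-/

set_option autoImplicit false

namespace Cfsg.Lib.GTwoType

open Subgroup

theorem words : ∀ a : S2, ∃ i j k l : Fin 3, a = Um ^ (i : ℕ) * Lm ^ (j : ℕ) * Um ^ (k : ℕ) * Lm ^ (l : ℕ) := by
  decide +kernel
theorem UL_rel : Lm ^ 3 = 1 ∧ (Um * Lm) ^ 2 = ng ∧ (Um * Lm⁻¹) ^ 3 = ng := by decide +kernel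
set_option synthInstance.maxSize 4000 in
set_option synthInstance.maxHeartbeats 400000 in
theorem gen_auto : ∀ u l : S2, u ^ 3 = 1 → l ^ 3 = 1 → (u * l) ^ 2 = ng → (u * l⁻¹) ^ 3 = ng →
    ∃ g : S2, (u = g * Um * g⁻¹ ∧ l = g * Lm * g⁻¹) ∨ (u = g * Um⁻¹ * g⁻¹ ∧ l = g * Lm⁻¹ * g⁻¹) := by
  decide +kernel
theorem inner_no_inv : ∀ g x : S2, (g * x * g⁻¹ * x) ^ 4 = 1 → x ^ 4 = 1 := by decide +kernel
theorem central_pm : ∀ a : S2, (∀ b : S2, a * b = b * a) → a = 1 ∨ a = ng := by decide +kernel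
theorem twist_center : ∀ g : S2, g * dc g = 1 ∨ g * dc g = ng ∨
    ∃ d : S2, g * dc (g * dc d * g⁻¹) * g⁻¹ ≠ d := by decide +kernel
theorem quot_pm : ∀ a : S2, a * a = ng → a ^ 4 = 1 := by decide +kernel
theorem ng_four : ng ^ 4 = 1 := by decide +kernel

/-- A homomorphism of `SL(2,3)` is determined by the unipotent generators. -/
theorem hom_ext_UL {G : Type*} [Group G] {f g : S2 →* G} (hU : f Um = g Um) (hL : f Lm = g Lm) : f = g := by
  ext a
  obtain ⟨i, j, k, l, rfl⟩ := words a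
  simp only [map_mul, map_pow, hU, hL]

/-- Two commuting copies of `SL(2,3)` with common centre in the centraliser of `z`, of index two there. -/
structure Pre {G : Type*} [Group G] (z : G) where
  /-- The first factor. -/
  i₁ : S2 →* G
  /-- The second factor. -/
  i₂ : S2 →* G
  comm : ∀ a b, Commute (i₁ a) (i₂ b)
  neg₁ : i₁ ng = z
  neg₂ : i₂ ng = z
  ker : ∀ a b, i₁ a * i₂ b = 1 → (a = 1 ∧ b = 1) ∨ (a = ng ∧ b = ng)
  nrm₁ : ∀ g, Commute z g → ∀ a, ∃ b, g * i₁ a * g⁻¹ = i₁ b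
  nrm₂ : ∀ g, Commute z g → ∀ a, ∃ b, g * i₂ a * g⁻¹ = i₂ b
  half : ∀ g h, Commute z g → Commute z h → (¬ ∃ a b, g = i₁ a * i₂ b) → (¬ ∃ a b, h = i₁ a * i₂ b) →
    ∃ a b, g * h = i₁ a * i₂ b

namespace Pre

variable {G : Type*} [Group G] {z : G} (P : Pre z)
include P

theorem mul_pair (a b c d : S2) : P.i₁ a * P.i₂ b * (P.i₁ c * P.i₂ d) = P.i₁ (a * c) * P.i₂ (b * d) := by
  rw [map_mul, map_mul, mul_assoc, ← mul_assoc (P.i₂ b), ← (P.comm c b).eq]; group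

theorem inv_pair (a b : S2) : (P.i₁ a * P.i₂ b)⁻¹ = P.i₁ a⁻¹ * P.i₂ b⁻¹ := by
  refine inv_eq_of_mul_eq_one_right ?_
  rw [P.mul_pair, mul_inv_cancel, mul_inv_cancel, map_one, map_one, mul_one]

theorem pair_eq {a b c d : S2} (h : P.i₁ a * P.i₂ b = P.i₁ c * P.i₂ d) :
    (a = c ∧ b = d) ∨ (a = ng * c ∧ b = ng * d) := by
  have h1 : P.i₁ (a * c⁻¹) * P.i₂ (b * d⁻¹) = 1 := by rw [← P.mul_pair, h, ← P.inv_pair, mul_inv_cancel]
  rcases P.ker _ _ h1 with ⟨e1, e2⟩ | ⟨e1, e2⟩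
  · exact Or.inl ⟨mul_inv_eq_one.1 e1, mul_inv_eq_one.1 e2⟩
  · exact Or.inr ⟨mul_inv_eq_iff_eq_mul.1 e1, mul_inv_eq_iff_eq_mul.1 e2⟩

theorem mem_cent (a b : S2) : Commute z (P.i₁ a * P.i₂ b) := by
  refine Commute.mul_right ?_ ?_
  · have := Commute.map (show Commute ng a from ng_central a) P.i₁
    rwa [P.neg₁] at this
  · have := Commute.map (show Commute ng b from ng_central b) P.i₂
    rwa [P.neg₂] at this

theorem inj₁ : Function.Injective P.i₁ := fun a c h => by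
  rcases P.pair_eq (a := a) (c := c) (b := 1) (d := 1) (by rw [h]) with ⟨e, -⟩ | ⟨-, e⟩
  · exact e
  · exact absurd (by simpa using e.symm) ng_ne

theorem inj₂ : Function.Injective P.i₂ := fun b d h => by
  rcases P.pair_eq (b := b) (d := d) (a := 1) (c := 1) (by rw [h]) with ⟨-, e⟩ | ⟨e, -⟩
  · exact e
  · exact absurd (by simpa using e.symm) ng_ne

omit P in
/-- An involutory automorphism that inverts an element outside the quaternion group is diagonal up to conjugation. -/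
theorem exists_diag {i : S2 →* G} (hi : Function.Injective i) {w : G} (hw : Commute (i ng) w) (h2 : w * w = 1)
    (hn : ∀ a, ∃ b, w * i a * w⁻¹ = i b) {x : S2} (hx : x ^ 4 ≠ 1)
    (hxi : ∀ b, w * i x * w⁻¹ = i b → (b * x) ^ 4 = 1) :
    ∃ c : S2, ∀ a, w * i (c * a * c⁻¹) * w = i (c * dc a * c⁻¹) := by
  choose β hβ using hn
  have hwi : w⁻¹ = w := inv_eq_of_mul_eq_one_right h2
  let f : S2 →* S2 := MonoidHom.mk' β fun a b => hi (by rw [map_mul, ← hβ, ← hβ, ← hβ, map_mul]; group)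
  have hf : ∀ a, w * i a * w⁻¹ = i (f a) := hβ
  have hff : ∀ a, f (f a) = a := fun a => hi (by
    rw [← hf, ← hf, hwi, show w * (w * i a * w) * w = (w * w) * i a * (w * w) by group, h2, one_mul, mul_one])
  have hng : f ng = ng := hi (by rw [← hf, ← hw.eq, mul_inv_cancel_right])
  obtain ⟨g, ⟨gU, gL⟩ | ⟨gU, gL⟩⟩ := gen_auto (f Um) (f Lm) (by rw [← map_pow, U_cube, map_one])
    (by rw [← map_pow, UL_rel.1, map_one]) (by rw [← map_mul, ← map_pow, UL_rel.2.1, hng])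
    (by rw [← map_inv, ← map_mul, ← map_pow, UL_rel.2.2, hng])
  · exfalso
    have e : f = (MulAut.conj g).toMonoidHom := hom_ext_UL (by simpa using gU) (by simpa using gL)
    refine hx (inner_no_inv g x ?_)
    have := hxi _ (hf x)
    rwa [e] at this
  · have e : f = (MulAut.conj g).toMonoidHom.comp dcAut.toMonoidHom := hom_ext_UL
      (by simpa [show dcAut Um = Um⁻¹ from dc_U] using gU) (by simpa [show dcAut Lm = Lm⁻¹ from dc_L] using gL)
    have hfe : ∀ a, f a = g * dc a * g⁻¹ := fun a => by rw [e]; rfl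
    have hg : g * dc g = 1 := by
      rcases twist_center g with h | h | ⟨d, hd⟩
      · exact h
      · exact absurd h (twist_sq g)
      · exact absurd (by rw [← hfe, ← hfe, hff]) hd
    obtain ⟨c, hc⟩ := twist_class g hg
    refine ⟨c, fun a => ?_⟩
    calc w * i (c * a * c⁻¹) * w = w * i (c * a * c⁻¹) * w⁻¹ := by rw [hwi]
      _ = i (g * dc (c * a * c⁻¹) * g⁻¹) := by rw [hf, hfe]
      _ = i (c * dc a * c⁻¹) := by
        refine congrArg i ?_
        rw [← hc]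
        simp only [dc_mul, dc_inv, mul_assoc, mul_inv_rev, inv_inv, inv_mul_cancel_left]

/-- The coordinates. -/
theorem exists_mdl {w : G} (hw : Commute z w) (h2 : w * w = 1) (hout : ¬ ∃ a b, w = P.i₁ a * P.i₂ b) {x y : S2}
    (hx : x ^ 4 ≠ 1) (hy : y ^ 4 ≠ 1) {p q : S2} (hp : p ^ 4 = 1) (hq : q ^ 4 = 1)
    (hinv : w * (P.i₁ x * P.i₂ y) * w⁻¹ * (P.i₁ x * P.i₂ y) = P.i₁ p * P.i₂ q) : Nonempty (Mdl z w) := by
  obtain ⟨b₁, hb₁⟩ := P.nrm₁ w hw x
  obtain ⟨b₂, hb₂⟩ := P.nrm₂ w hw y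
  rw [show w * (P.i₁ x * P.i₂ y) * w⁻¹ = (w * P.i₁ x * w⁻¹) * (w * P.i₂ y * w⁻¹) by group, hb₁, hb₂,
    P.mul_pair] at hinv
  have key : ∀ (u p : S2), p ^ 4 = 1 → (u = p ∨ u = ng * p) → u ^ 4 = 1 := by
    rintro u p hp (rfl | rfl)
    · exact hp
    · rw [(show Commute ng p from ng_central p).mul_pow, hp, ng_four, mul_one]
  have h1 : (b₁ * x) ^ 4 = 1 := key _ p hp ((P.pair_eq hinv).imp (·.1) (·.1))
  have h2' : (b₂ * y) ^ 4 = 1 := key _ q hq ((P.pair_eq hinv).imp (·.2) (·.2))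
  obtain ⟨c₁, hc₁⟩ := exists_diag P.inj₁ (P.neg₁.symm ▸ hw) h2 (fun a => P.nrm₁ w hw a) hx
    fun b hb => by rw [P.inj₁ (hb.symm.trans hb₁)]; exact h1
  obtain ⟨c₂, hc₂⟩ := exists_diag P.inj₂ (P.neg₂.symm ▸ hw) h2 (fun a => P.nrm₂ w hw a) hy
    fun b hb => by rw [P.inj₂ (hb.symm.trans hb₂)]; exact h2'
  have hcng : ∀ c : S2, c * ng * c⁻¹ = ng := fun c => by rw [← ng_central c, mul_inv_cancel_right]
  refine ⟨{
    i₁ := P.i₁.comp (MulAut.conj c₁).toMonoidHom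
    i₂ := P.i₂.comp (MulAut.conj c₂).toMonoidHom
    comm := fun a b => P.comm _ _
    neg₁ := by simp [hcng, P.neg₁]
    neg₂ := by simp [hcng, P.neg₂]
    ker := fun a b h => ?_
    tt := h2
    act₁ := hc₁
    act₂ := hc₂
    out := fun a b h => hout ⟨_, _, h.symm⟩
    cent := fun g => ?_ }⟩
  · rcases P.ker _ _ h with ⟨e1, e2⟩ | ⟨e1, e2⟩
    · exact Or.inl ⟨(MulAut.conj c₁).map_eq_one_iff.1 e1, (MulAut.conj c₂).map_eq_one_iff.1 e2⟩
    · refine Or.inr ⟨(MulAut.conj c₁).injective (e1.trans ?_), (MulAut.conj c₂).injective (e2.trans ?_)⟩ <;>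
        simp [hcng]
  · have surj : ∀ a b, ∃ a' b', P.i₁ a * P.i₂ b =
        P.i₁.comp (MulAut.conj c₁).toMonoidHom a' * P.i₂.comp (MulAut.conj c₂).toMonoidHom b' :=
      fun a b => ⟨(MulAut.conj c₁).symm a, (MulAut.conj c₂).symm b, by
        simp only [MonoidHom.comp_apply, MulEquiv.coe_toMonoidHom, MulEquiv.apply_symm_apply]⟩
    constructor
    · intro hg
      by_cases hgK : ∃ a b, g = P.i₁ a * P.i₂ b
      · obtain ⟨a, b, rfl⟩ := hgK
        obtain ⟨a', b', e⟩ := surj a b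
        exact ⟨a', b', Or.inl e⟩
      · obtain ⟨a, b, e⟩ := P.half g w hg hw hgK hout
        obtain ⟨a', b', e'⟩ := surj a b
        exact ⟨a', b', Or.inr (by rw [← e', ← e, mul_assoc, h2, mul_one])⟩
    · rintro ⟨a, b, rfl | rfl⟩
      · exact P.mem_cent _ _
      · exact (P.mem_cent _ _).mul_right hw

end Pre

/-- The data in the hypotheses give the coordinates. -/
theorem exists_pre {G : Type*} [Group G] [Finite G] (H H₁ H₂ : Subgroup G) (h1 : H₁ ≤ H) (h2 : H₂ ≤ H)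
    (hn1 : (H₁.subgroupOf H).Normal) (hn2 : (H₂.subgroupOf H).Normal)
    (e₁ : ↥H₁ ≃* S2) (e₂ : ↥H₂ ≃* S2) (hidx : (H₁ ⊔ H₂).relIndex H = 2)
    (hint1 : H₁ ⊓ H₂ = H₁ ⊓ centralizer (H₁ : Set G)) (hint2 : H₁ ⊓ H₂ = H₂ ⊓ centralizer (H₂ : Set G))
    (hHC : H = centralizer ((H₁ ⊓ H₂ : Subgroup G) : Set G)) :
    ∃ (z : G) (P : Pre z), z ∈ H₁ ⊓ H₂ ∧ (∀ g, g ∈ H ↔ Commute z g) ∧
      (∀ g, g ∈ H₁ ⊔ H₂ ↔ ∃ a b, g = P.i₁ a * P.i₂ b) := by
  set i₁ : S2 →* G := H₁.subtype.comp e₁.symm.toMonoidHom with hi₁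
  set i₂ : S2 →* G := H₂.subtype.comp e₂.symm.toMonoidHom with hi₂
  have r₁ : ∀ g ∈ H₁, ∃ a, g = i₁ a := fun g hg => ⟨e₁ ⟨g, hg⟩, by simp [hi₁]⟩
  have r₂ : ∀ g ∈ H₂, ∃ a, g = i₂ a := fun g hg => ⟨e₂ ⟨g, hg⟩, by simp [hi₂]⟩
  have m₁ : ∀ a, i₁ a ∈ H₁ := fun a => (e₁.symm a).2
  have m₂ : ∀ a, i₂ a ∈ H₂ := fun a => (e₂.symm a).2
  have inj₁ : Function.Injective i₁ := fun a b h => e₁.symm.injective (Subtype.ext h)
  have inj₂ : Function.Injective i₂ := fun a b h => e₂.symm.injective (Subtype.ext h)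
  have hcen : ∀ (K : Subgroup G) (i : S2 →* G), Function.Injective i → (∀ a, i a ∈ K) → (∀ g ∈ K, ∃ a, g = i a) →
      ∀ a, i a ∈ K ⊓ centralizer (K : Set G) ↔ a = 1 ∨ a = ng := by
    intro K i hi hm hr a
    constructor
    · intro ha
      refine central_pm a fun b => hi ?_
      rw [map_mul, map_mul]
      exact (mem_centralizer_iff.1 ha.2 _ (hm b)).symm
    · intro ha
      refine ⟨hm a, mem_centralizer_iff.2 fun g hg => ?_⟩
      obtain ⟨b, rfl⟩ := hr g hg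
      rw [← map_mul, ← map_mul]
      congr 1
      rcases ha with rfl | rfl
      · simp
      · exact (ng_central b).symm
  have z₁ := hcen H₁ i₁ inj₁ m₁ r₁
  have z₂ := hcen H₂ i₂ inj₂ m₂ r₂
  rw [← hint1] at z₁
  rw [← hint2] at z₂
  set z := i₁ ng with hz
  have hzI : z ∈ H₁ ⊓ H₂ := (z₁ ng).2 (Or.inr rfl)
  have hI : ∀ g ∈ H₁ ⊓ H₂, g = 1 ∨ g = z := fun g hg => by
    obtain ⟨a, rfl⟩ := r₁ g hg.1
    rcases (z₁ a).1 hg with rfl | rfl
    exacts [Or.inl (map_one _), Or.inr rfl]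
  have hz2 : i₂ ng = z := by
    refine (hI _ ((z₂ ng).2 (Or.inr rfl))).resolve_left fun h => ng_ne (inj₂ (h.trans (map_one i₂).symm))
  have hH : ∀ g, g ∈ H ↔ Commute z g := fun g => by
    rw [hHC, mem_centralizer_iff]
    refine ⟨fun h => h z hzI, fun h x hx => ?_⟩
    rcases hI x hx with rfl | rfl
    · rw [one_mul, mul_one]
    · exact h.eq
  have hN : ∀ (K : Subgroup G), K ≤ H → (K.subgroupOf H).Normal → ∀ g ∈ H, ∀ x ∈ K, g * x * g⁻¹ ∈ K :=
    fun K hK hn g hg x hx => mem_subgroupOf.1 (hn.conj_mem ⟨x, hK hx⟩ (mem_subgroupOf.2 hx) ⟨g, hg⟩)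
  have hcomm : ∀ a b, Commute (i₁ a) (i₂ b) := by
    have hU : ∀ a b, a ^ 3 = 1 → Commute (i₁ a) (i₂ b) := by
      intro a b ha
      set x := i₁ a
      set y := i₂ b
      have hd : x * y * x⁻¹ * y⁻¹ ∈ H₁ ⊓ H₂ := by
        refine Subgroup.mem_inf.2 ⟨?_, mul_mem (hN H₂ h2 hn2 x (h1 (m₁ a)) y (m₂ b)) (inv_mem (m₂ b))⟩
        rw [show x * y * x⁻¹ * y⁻¹ = x * (y * x⁻¹ * y⁻¹) by group]
        exact mul_mem (m₁ a) (hN H₁ h1 hn1 y (h2 (m₂ b)) _ (inv_mem (m₁ a)))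
      rcases hI _ hd with h | h
      · exact commutatorElement_eq_one_iff_commute.1 h
      · exfalso
        have hzx : Commute x z := (hH _).1 (h1 (m₁ a)) |>.symm
        have e : x * y * x⁻¹ = z * y := by rw [← h]; group
        have hx3 : x ^ 3 = 1 := by rw [← map_pow, ha, map_one]
        have key : y = z * y := by
          have hzz : z * z = 1 := by rw [hz, ← map_mul, ng_sq, map_one]
          calc y = x ^ 3 * y * (x ^ 3)⁻¹ := by rw [hx3]; group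
            _ = x * (x * (x * y * x⁻¹) * x⁻¹) * x⁻¹ := by simp [pow_succ, mul_assoc]
            _ = x * (x * z * y * x⁻¹) * x⁻¹ := by rw [e]; group
            _ = x * (z * (x * y * x⁻¹)) * x⁻¹ := by rw [hzx.eq]; group
            _ = x * y * x⁻¹ := by rw [show z * (x * y * x⁻¹) = y by rw [e, ← mul_assoc, hzz, one_mul]]
            _ = z * y := e
        exact ng_ne (inj₁ ((right_eq_mul.1 key).trans (map_one i₁).symm))
    intro a b
    obtain ⟨i, j, k, l, rfl⟩ := words a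
    simp only [map_mul, map_pow]
    exact ((((hU Um b U_cube).pow_left _).mul_left ((hU Lm b UL_rel.1).pow_left _)).mul_left
      ((hU Um b U_cube).pow_left _)).mul_left ((hU Lm b UL_rel.1).pow_left _)
  have hmul : ∀ a b c d, i₁ a * i₂ b * (i₁ c * i₂ d) = i₁ (a * c) * i₂ (b * d) := fun a b c d => by
    rw [map_mul, map_mul, mul_assoc, ← mul_assoc (i₂ b), ← (hcomm c b).eq]; group
  have hsup : ∀ g, g ∈ H₁ ⊔ H₂ ↔ ∃ a b, g = i₁ a * i₂ b := by
    intro g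
    constructor
    · intro hg
      rw [sup_eq_closure] at hg
      induction hg using closure_induction with
      | mem g hg =>
        rcases hg with h | h
        · obtain ⟨a, rfl⟩ := r₁ g h
          exact ⟨a, 1, by rw [map_one, mul_one]⟩
        · obtain ⟨b, rfl⟩ := r₂ g h
          exact ⟨1, b, by rw [map_one, one_mul]⟩
      | one => exact ⟨1, 1, by rw [map_one, map_one, mul_one]⟩
      | mul g k _ _ ihg ihk =>
        obtain ⟨a, b, rfl⟩ := ihg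
        obtain ⟨c, d, rfl⟩ := ihk
        exact ⟨_, _, hmul a b c d⟩
      | inv g _ ih =>
        obtain ⟨a, b, rfl⟩ := ih
        exact ⟨a⁻¹, b⁻¹, by rw [mul_inv_rev, map_inv, map_inv, ((hcomm a b).inv_inv).eq]⟩
    · rintro ⟨a, b, rfl⟩
      exact mul_mem (mem_sup_left (m₁ a)) (mem_sup_right (m₂ b))
  refine ⟨z, ⟨i₁, i₂, hcomm, rfl, hz2, fun a b h => ?_, fun g hg a => ?_, fun g hg a => ?_, fun g k hg hk hgK hkK => ?_⟩,
    hzI, hH, hsup⟩
  · have ha : i₁ a ∈ H₁ ⊓ H₂ := Subgroup.mem_inf.2 ⟨m₁ a, by rw [eq_inv_of_mul_eq_one_left h]; exact inv_mem (m₂ b)⟩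
    rcases (z₁ a).1 ha with rfl | rfl
    · rw [map_one, one_mul] at h
      exact Or.inl ⟨rfl, inj₂ (h.trans (map_one i₂).symm)⟩
    · refine Or.inr ⟨rfl, inj₂ ?_⟩
      rw [hz2, eq_inv_of_mul_eq_one_right h]
      exact inv_eq_of_mul_eq_one_right (by rw [← map_mul, ng_sq, map_one])
  · exact r₁ _ (hN H₁ h1 hn1 g ((hH g).2 hg) _ (m₁ a))
  · exact r₂ _ (hN H₂ h2 hn2 g ((hH g).2 hg) _ (m₂ a))
  · have := (Subgroup.mul_mem_iff_of_index_two (H := (H₁ ⊔ H₂).subgroupOf H) hidx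
      (a := ⟨g, (hH g).2 hg⟩) (b := ⟨k, (hH k).2 hk⟩)).2
    simp only [mem_subgroupOf, Subgroup.coe_mul, hsup] at this
    exact this (iff_of_false hgK hkK)

end Cfsg.Lib.GTwoType
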