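import Cfsg.Agent.Lib.GTwoType.SetupMat
import Cfsg.Prelude.Def_Solvable
import Cfsg.Prelude.Def_Transfer

/-!
# The action of the second subgroup on its elementary abelian normal subgroup
-/

set_option autoImplicit false
set_option linter.style.haveILetI false

namespace Cfsg.Lib.GTwoType

open Subgroup Matrix Cfsg

theorem val_add_pow {G : Type*} [Group G] {x : G} (h : x * x = 1) (a b : ZMod 2) :
    x ^ (a + b).val = x ^ a.val * x ^ b.val := by
  rw [← pow_add]
  have key : ∀ a b : ZMod 2, a.val + b.val = (a + b).val ∨ a.val + b.val = (a + b).val + 2 := by decide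
  rcases key a b with e | e <;> rw [e]
  rw [pow_add, pow_two, h, mul_one]

/-- Coordinates on the elementary abelian subgroup of order eight and the induced matrices. -/
structure Act {G : Type*} [Group G] (M : Subgroup G) (z : G) where
  /-- Coordinates on the normal subgroup. -/
  f : V3 → G
  /-- The matrices of the action. -/
  π : ↥M →* A3
  f_add : ∀ u v, f (u + v) = f u * f v
  f_inj : Function.Injective f
  f_mem : ∀ v, f v ∈ M
  f_E0 : f E0 = z
  act : ∀ (g : ↥M) v, (g : G) * f v * (g : G)⁻¹ = f (π g *ᵥ v)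
  det : ∀ g, (π g).det = 1
  surj : ∀ A : A3, A.det = 1 → ∃ g, π g = A
  ker : ∀ g : ↥M, π g = 1 ↔ ∃ v, (g : G) = f v
  small : ∀ N : Subgroup ↥M, N.Normal → (∀ g ∈ N, π g = 1) ∨ 168 ∣ Nat.card N
  card_M : Nat.card M = 1344

theorem exists_act {G : Type*} [Group G] [Finite G] (M : Subgroup G) {z : G} [hOM : (Cfsg.pCore 2 ↥M).Normal]
    (e : (↥M ⧸ Cfsg.pCore 2 ↥M) ≃* Matrix.SpecialLinearGroup (Fin 3) (ZMod 2))
    (hOel : Cfsg.IsElementaryAbelian 2 (Cfsg.pCore 2 ↥M)) (hOcard : Nat.card ↥(Cfsg.pCore 2 ↥M) = 8)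
    (hz : z ∈ (Cfsg.pCore 2 ↥M).map M.subtype) (hz1 : z ≠ 1) (hnot : ¬ ∀ g ∈ M, Commute z g) :
    Nonempty (Act M z) := by
  classical
  set O := Cfsg.pCore 2 ↥M
  set Og := O.map M.subtype with hOg
  have hOgM : Og ≤ M := map_subtype_le _
  have hmem : ∀ {x : G} (hx : x ∈ M), x ∈ Og ↔ (⟨x, hx⟩ : M) ∈ O := fun {x} hx => by
    constructor
    · rintro ⟨y, hy, e⟩
      exact (show y = ⟨x, hx⟩ from Subtype.ext e) ▸ hy
    · exact fun h => ⟨_, h, rfl⟩
  have hcard : Nat.card Og = 8 := by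
    rw [← hOcard, hOg, Nat.card_congr (O.equivMapOfInjective _ M.subtype_injective).toEquiv.symm]
  have hsq : ∀ x ∈ Og, x * x = 1 := by
    rintro _ ⟨x, hx, rfl⟩
    rw [← map_mul, ← pow_two, hOel.2 x hx, map_one]
  have hcomm : ∀ x ∈ Og, ∀ y ∈ Og, Commute x y := by
    rintro _ ⟨x, hx, rfl⟩ _ ⟨y, hy, rfl⟩
    exact Commute.map (congrArg Subtype.val (hOel.1.1.comm ⟨x, hx⟩ ⟨y, hy⟩) : x * y = y * x) M.subtype
  have hnorm : ∀ g ∈ M, ∀ x ∈ Og, g * x * g⁻¹ ∈ Og := by
    rintro g hg _ ⟨x, hx, rfl⟩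
    exact ⟨_, hOM.conj_mem x hx ⟨g, hg⟩, rfl⟩
  obtain ⟨o₁, ho₁, h1a, h1b⟩ : ∃ o ∈ Og, o ≠ 1 ∧ o ≠ z := by
    by_contra hh
    push_neg at hh
    have : Nat.card Og ≤ 2 := by
      refine (Nat.card_le_card_of_surjective (fun i : Fin 2 => (if i = 0 then ⟨1, one_mem _⟩ else ⟨z, hz⟩ : Og)) ?_).trans
        (Nat.card_fin 2).le
      intro x
      by_cases hx : (x : G) = 1
      · exact ⟨0, Subtype.ext (by simp [hx])⟩
      · exact ⟨1, Subtype.ext (by simp [hh x x.2 hx])⟩
    omega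
  obtain ⟨o₂, ho₂, h2a, h2b, h2c, h2d⟩ : ∃ o ∈ Og, o ≠ 1 ∧ o ≠ z ∧ o ≠ o₁ ∧ o ≠ z * o₁ := by
    by_contra hh
    push_neg at hh
    have : Nat.card Og ≤ 4 := by
      refine (Nat.card_le_card_of_surjective (fun i : Fin 4 => (if i = 0 then ⟨1, one_mem _⟩ else if i = 1 then ⟨z, hz⟩
        else if i = 2 then ⟨o₁, ho₁⟩ else ⟨z * o₁, mul_mem hz ho₁⟩ : Og)) ?_).trans (Nat.card_fin 4).le
      intro x
      by_cases hx : (x : G) = 1
      · exact ⟨0, Subtype.ext (by simp [hx])⟩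
      by_cases hx' : (x : G) = z
      · exact ⟨1, Subtype.ext (by simp [hx'])⟩
      by_cases hx'' : (x : G) = o₁
      · exact ⟨2, Subtype.ext (by simp [hx''])⟩
      · exact ⟨3, Subtype.ext (by simp [hh x x.2 hx hx' hx''])⟩
    omega
  let f : V3 → G := fun v => z ^ (v 0).val * o₁ ^ (v 1).val * o₂ ^ (v 2).val
  have hfO : ∀ v, f v ∈ Og := fun v => mul_mem (mul_mem (pow_mem hz _) (pow_mem ho₁ _)) (pow_mem ho₂ _)
  have hfadd : ∀ u v, f (u + v) = f u * f v := by
    intro u v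
    simp only [f, Pi.add_apply, val_add_pow (hsq z hz), val_add_pow (hsq o₁ ho₁), val_add_pow (hsq o₂ ho₂)]
    have c1 := hcomm _ (pow_mem ho₁ (u 1).val) _ (pow_mem hz (v 0).val)
    have c2 := hcomm _ (pow_mem ho₂ (u 2).val) _ (mul_mem (pow_mem hz (v 0).val) (pow_mem ho₁ (v 1).val))
    calc z ^ (u 0).val * z ^ (v 0).val * (o₁ ^ (u 1).val * o₁ ^ (v 1).val) * (o₂ ^ (u 2).val * o₂ ^ (v 2).val)
        = z ^ (u 0).val * (z ^ (v 0).val * o₁ ^ (u 1).val) * o₁ ^ (v 1).val * o₂ ^ (u 2).val * o₂ ^ (v 2).val := by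
          group
      _ = z ^ (u 0).val * o₁ ^ (u 1).val * ((z ^ (v 0).val * o₁ ^ (v 1).val) * o₂ ^ (u 2).val) * o₂ ^ (v 2).val := by
          rw [← c1.eq]; group
      _ = _ := by rw [← c2.eq]; group
  have hf0 : ∀ v, f v = 1 → v = 0 := by
    intro v hv
    obtain ⟨a, b, c, rfl⟩ : ∃ a b c, v = ![a, b, c] := ⟨v 0, v 1, v 2, by ext i; fin_cases i <;> rfl⟩
    have two : ∀ a : ZMod 2, a = 0 ∨ a = 1 := by decide
    have inv2' : ∀ {x y : G}, x ∈ Og → x * y = 1 → y = x := fun {x y} hx h => by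
      rw [eq_inv_of_mul_eq_one_right h]; exact inv_eq_of_mul_eq_one_right (hsq x hx)
    simp only [f] at hv
    rcases two c with rfl | rfl
    · rcases two b with rfl | rfl
      · rcases two a with rfl | rfl
        · ext i; fin_cases i <;> rfl
        · simp [ZMod.val_one] at hv; exact absurd hv hz1
      · exfalso
        rcases two a with rfl | rfl <;> simp [ZMod.val_one] at hv
        · exact h1a hv
        · exact h1b (inv2' hz hv)
    · exfalso
      rcases two b with rfl | rfl <;> rcases two a with rfl | rfl <;> simp [ZMod.val_one] at hv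
      · exact h2a hv
      · exact h2b (inv2' hz hv)
      · exact h2c (inv2' ho₁ hv)
      · exact h2d (inv2' (mul_mem hz ho₁) hv)
  have hf00 : f 0 = 1 := by simp [f]
  have hfinj : Function.Injective f := fun u v h => by
    have h0 := hf0 (u + v) (by rw [hfadd, h, hsq _ (hfO v)])
    have key : ∀ a b : ZMod 2, a + b = 0 → a = b := by decide
    ext i
    exact key _ _ (congrFun h0 i)
  have hrange : ∀ x ∈ Og, ∃ v, f v = x := by
    have hb : Function.Bijective (fun v : V3 => (⟨f v, hfO v⟩ : Og)) := by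
      rw [Nat.bijective_iff_injective_and_card]
      refine ⟨fun u v h => hfinj (congrArg Subtype.val h), ?_⟩
      rw [hcard, Nat.card_eq_fintype_card]
      rfl
    intro x hx
    obtain ⟨v, hv⟩ := hb.2 ⟨x, hx⟩
    exact ⟨v, congrArg Subtype.val hv⟩
  choose L hL using fun (g : ↥M) (v : V3) => hrange _ (hnorm g g.2 _ (hfO v))
  let Lh : ↥M → (V3 →+ V3) := fun g => AddMonoidHom.mk' (L g) fun u v => hfinj (by
    rw [hL, hfadd, hfadd, hL, hL]; group)
  let A : ↥M → A3 := fun g => LinearMap.toMatrix' ((Lh g).toZModLinearMap 2)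
  have hA : ∀ g v, f (A g *ᵥ v) = (g : G) * f v * (g : G)⁻¹ := fun g v => by
    rw [← Matrix.toLin'_apply, Matrix.toLin'_toMatrix']
    exact hL g v
  have hext : ∀ B C : A3, (∀ v, f (B *ᵥ v) = f (C *ᵥ v)) → B = C := fun B C h =>
    Matrix.toLin'.injective (LinearMap.ext fun v => by
      rw [Matrix.toLin'_apply, Matrix.toLin'_apply]; exact hfinj (h v))
  let π : ↥M →* A3 :=
    { toFun := A
      map_one' := hext _ _ fun v => by rw [hA, one_mulVec]; simp
      map_mul' := fun g h => hext _ _ fun v => by rw [hA, ← mulVec_mulVec, hA, hA, Subgroup.coe_mul]; group }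
  let π' := π.toHomUnits
  have hdet : ∀ g, (π g).det = 1 := fun g =>
    det_unit _ ((Matrix.isUnit_iff_isUnit_det _).1 (π' g).isUnit).ne_zero
  haveI := sl_three_two.1
  let q : ↥M →* Matrix.SpecialLinearGroup (Fin 3) (ZMod 2) := e.toMonoidHom.comp (QuotientGroup.mk' O)
  have hq : Function.Surjective q := e.surjective.comp (QuotientGroup.mk'_surjective _)
  have hqk : ∀ g, q g = 1 ↔ g ∈ O := fun g => by
    rw [MonoidHom.comp_apply, MulEquiv.coe_toMonoidHom, map_eq_one_iff _ e.injective, QuotientGroup.mk'_apply,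
      QuotientGroup.eq_one_iff]
  have hnormal : ∀ N : Subgroup ↥M, N.Normal → N ≤ O ∨ (168 ∣ Nat.card N ∧ ∀ g, ∃ n ∈ N, n⁻¹ * g ∈ O) := by
    intro N hN
    rcases (hN.map q hq).eq_bot_or_eq_top with h | h
    · left
      intro g hg
      rw [← hqk, ← mem_bot, ← h]
      exact mem_map_of_mem _ hg
    · right
      refine ⟨?_, fun g => ?_⟩
      · have h' : Nat.card (N.map q) = 168 := by rw [h, card_top, sl_three_two.2]
        exact h' ▸ card_map_dvd N q
      · obtain ⟨n, hn, hne⟩ : q g ∈ N.map q := h ▸ mem_top _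
        exact ⟨n, hn, (hqk _).1 (by rw [map_mul, map_inv, hne, inv_mul_cancel])⟩
  have hOker : ∀ g ∈ O, π g = 1 := fun g hg => hext _ _ fun v => by
    show f (A g *ᵥ v) = _
    rw [hA, one_mulVec, (hcomm (g : G) ⟨g, hg, rfl⟩ (f v) (hfO v)).eq, mul_inv_cancel_right]
  have hker : ∀ g, π g = 1 ↔ g ∈ O := by
    intro g
    refine ⟨fun hg => ?_, hOker g⟩
    have hmemker : ∀ g, g ∈ π'.ker ↔ π g = 1 := fun g => by
      rw [MonoidHom.mem_ker, Units.ext_iff]; rfl
    rcases hnormal π'.ker inferInstance with h | ⟨-, h⟩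
    · exact h ((hmemker g).2 hg)
    · exfalso
      refine hnot fun x hx => ?_
      obtain ⟨n, hn, hn'⟩ := h ⟨x, hx⟩
      have hπ : π ⟨x, hx⟩ = 1 := by
        rw [show (⟨x, hx⟩ : M) = n * (n⁻¹ * ⟨x, hx⟩) by group, map_mul, (hmemker n).1 hn, hOker _ hn', one_mul]
      have h' := hA ⟨x, hx⟩ E0
      rw [show A ⟨x, hx⟩ = 1 from hπ, one_mulVec] at h'
      have hz' : f E0 = z := by simp [f, E0, ZMod.val_one]
      rw [hz'] at h'
      exact ((mul_inv_eq_iff_eq_mul.1 h'.symm : x * z = z * x)).symm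
  have hcardM : Nat.card M = 1344 := by
    rw [card_eq_card_quotient_mul_card_subgroup O, Nat.card_congr e.toEquiv, sl_three_two.2, hOcard]
  have hsurj : ∀ B : A3, B.det = 1 → ∃ g, π g = B := by
    have hker' : π'.ker = O := by
      ext g
      rw [MonoidHom.mem_ker, Units.ext_iff, ← hker]; rfl
    have hr : Nat.card π'.range = 168 := by
      rw [← Nat.card_congr (QuotientGroup.quotientKerEquivRange π').toEquiv,
        Nat.card_congr (QuotientGroup.quotientMulEquivOfEq hker').toEquiv, Nat.card_congr e.toEquiv, sl_three_two.2]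
    have hu : Nat.card A3ˣ ≤ 168 := by
      rw [← sl_three_two.2]
      refine Nat.card_le_card_of_injective (fun u => (⟨u.1,
        det_unit _ ((Matrix.isUnit_iff_isUnit_det _).1 u.isUnit).ne_zero⟩ : Matrix.SpecialLinearGroup (Fin 3) (ZMod 2)))
        fun u v h => Units.ext (congrArg Subtype.val h)
    have htop : π'.range = ⊤ := eq_top_of_le_card _ (hu.trans hr.ge)
    intro B hB
    obtain ⟨g, hg⟩ : ((Matrix.isUnit_iff_isUnit_det B).2 (hB ▸ isUnit_one)).unit ∈ π'.range := htop ▸ mem_top _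
    exact ⟨g, congrArg Units.val hg⟩
  refine ⟨⟨f, π, hfadd, hfinj, fun v => hOgM (hfO v), by simp [f, E0, ZMod.val_one], fun g v => (hA g v).symm, hdet,
    hsurj, fun g => ?_, fun N hN => ?_, hcardM⟩⟩
  · rw [hker]
    constructor
    · intro hg
      obtain ⟨v, hv⟩ := hrange g ⟨g, hg, rfl⟩
      exact ⟨v, hv.symm⟩
    · rintro ⟨v, hv⟩
      have := (hmem g.2).1 (hv ▸ hfO v)
      exact this
  · exact (hnormal N hN).imp (fun h g hg => hOker g (h hg)) And.left

end Cfsg.Lib.GTwoType
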