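import Cfsg.Agent.Lib.GTwoType.Base
import Cfsg.Agent.Lib.GTwoType.SetupK
import Cfsg.Agent.Lib.GTwoType.SetupM
import Cfsg.Agent.Lib.Local.PLengthChain

/-!
# The coordinates and the global properties
-/

set_option autoImplicit false
set_option linter.style.haveILetI false

namespace Cfsg.Lib.GTwoType

open Subgroup Matrix Cfsg

theorem add_self_two : ∀ x : ZMod 2, x + x = 0 := by decide
theorem rho_sq_fix : (Rho * Rho) *ᵥ E0 = E0 ∧ (Rho * Rho).det = 1 ∧ T0 *ᵥ E0 = E0 := by decide +kernel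

variable {G : Type*} [Group G] [Finite G] {z : G}

namespace Pre

variable (P : Pre z)
include P

/-- The product of the two factors. -/
def K : Subgroup G where
  carrier := {g | ∃ a b, g = P.i₁ a * P.i₂ b}
  one_mem' := ⟨1, 1, by simp⟩
  mul_mem' := by
    rintro _ _ ⟨a, b, rfl⟩ ⟨c, d, rfl⟩
    exact ⟨_, _, P.mul_pair a b c d⟩
  inv_mem' := by
    rintro _ ⟨a, b, rfl⟩
    exact ⟨_, _, P.inv_pair a b⟩

omit [Finite G] in
theorem mem_K {g : G} : g ∈ P.K ↔ ∃ a b, g = P.i₁ a * P.i₂ b := Iff.rfl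

omit [Finite G] in
theorem sq_mem {g : G} (h : Commute z g) : g * g ∈ P.K := by
  by_cases hg : g ∈ P.K
  · exact mul_mem hg hg
  · exact P.half g g h h hg hg

omit [Finite G] in
theorem z_mem : z ∈ P.K := ⟨ng, 1, by rw [P.neg₁, map_one, mul_one]⟩

theorem card_K : Nat.card P.K = 288 := by
  let φ : S2 × S2 →* G := MonoidHom.mk' (fun p => P.i₁ p.1 * P.i₂ p.2) fun p q => (P.mul_pair _ _ _ _).symm
  have hr : φ.range = P.K := by
    ext g
    rw [MonoidHom.mem_range, P.mem_K]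
    exact ⟨fun ⟨p, hp⟩ => ⟨p.1, p.2, hp.symm⟩, fun ⟨a, b, e⟩ => ⟨(a, b), e.symm⟩⟩
  have hk : Nat.card φ.ker = 2 := by
    rw [Nat.card_eq_two_iff]
    refine ⟨1, ⟨(ng, ng), ?_⟩, fun h => ng_ne (congrArg (fun x : φ.ker => x.1.1) h).symm, ?_⟩
    · show P.i₁ ng * P.i₂ ng = 1
      rw [P.neg₁, P.neg₂]
      have : z * z = 1 := by rw [← P.neg₁, ← map_mul, ng_sq, map_one]
      exact this
    · ext ⟨⟨a, b⟩, h⟩
      simp only [Set.mem_insert_iff, Set.mem_singleton_iff, Set.mem_univ, iff_true, Subtype.ext_iff, Prod.ext_iff]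
      exact P.ker a b h
  rw [← hr, ← Nat.card_congr (QuotientGroup.quotientKerEquivRange φ).toEquiv]
  have h := card_eq_card_quotient_mul_card_subgroup φ.ker
  rw [hk, Nat.card_prod, quat_count.2.2] at h
  omega

omit [Finite G] in
theorem invol_pair {a b : S2} (h : P.i₁ a * P.i₂ b * (P.i₁ a * P.i₂ b) = 1) (h1 : P.i₁ a * P.i₂ b ≠ 1)
    (hz : P.i₁ a * P.i₂ b ≠ z) : a * a = ng ∧ b * b = ng := by
  rw [P.mul_pair] at h
  refine (P.ker _ _ h).resolve_left fun ⟨ea, eb⟩ => ?_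
  have hzz : z * z = 1 := by rw [← P.neg₁, ← map_mul, ng_sq, map_one]
  rcases sq_one a ea with rfl | rfl <;> rcases sq_one b eb with rfl | rfl
  · exact h1 (by simp)
  · exact hz (by rw [map_one, one_mul, P.neg₂])
  · exact hz (by rw [map_one, mul_one, P.neg₁])
  · exact h1 (by rw [P.neg₁, P.neg₂, hzz])

omit [Finite G] in
theorem invol_conj {g : G} (hg : g ∈ P.K) (h : g * g = 1) (h1 : g ≠ 1) (hz : g ≠ z) :
    IsConj (P.i₁ Jm * P.i₂ Jm) g := by
  obtain ⟨a, b, rfl⟩ := hg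
  obtain ⟨ea, eb⟩ := P.invol_pair h h1 hz
  obtain ⟨c, rfl⟩ := quat_class a ea
  obtain ⟨d, rfl⟩ := quat_class b eb
  exact isConj_iff.2 ⟨P.i₁ c * P.i₂ d, by rw [P.mul_pair, P.inv_pair, P.mul_pair]⟩

omit [Finite G] in
/-- Squares of a pair that are central have coordinates of fourth power one. -/
theorem four_of {a b : S2} {n : ℕ} (hn : n % 12 = 4) (h : (P.i₁ a * P.i₂ b) ^ n = 1) : a ^ 4 = 1 ∧ b ^ 4 = 1 := by
  rw [(P.comm a b).mul_pow, ← map_pow, ← map_pow] at h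
  have e : ∀ c : S2, c ^ n = c ^ 4 := fun c => by
    rw [← Nat.div_add_mod n 12, hn, pow_add, pow_mul, pow_twelve, one_pow, one_mul]
  rw [e, e] at h
  have hh := P.ker _ _ h
  exact ⟨four_pm a (hh.imp (·.1) (·.1)), four_pm b (hh.imp (·.2) (·.2))⟩

end Pre

/-- The coordinates and the properties of the whole group. -/
theorem exists_ctx {M : Subgroup G} (P : Pre z) (A : Act M z) : ∃ τ, Ctx G ∧ Nonempty (Mdl z τ) := by
  classical
  haveI : Fact (Nat.Prime 2) := ⟨Nat.prime_two⟩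
  haveI : Fact (Nat.Prime 3) := ⟨Nat.prime_three⟩
  have hzz : z * z = 1 := by rw [← P.neg₁, ← map_mul, ng_sq, map_one]
  have hz1 : z ≠ 1 := fun h => ng_ne (P.inj₁ ((P.neg₁.trans h).trans (map_one P.i₁).symm))
  have hfix : ∀ g : M, Commute z (g : G) ↔ A.π g *ᵥ E0 = E0 := by
    intro g
    have h := A.act g E0
    rw [A.f_E0] at h
    constructor
    · intro hc
      rw [← hc.eq, mul_inv_cancel_right] at h
      exact A.f_inj (h.symm.trans A.f_E0.symm)
    · intro he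
      rw [he, A.f_E0] at h
      exact (mul_inv_eq_iff_eq_mul.1 h).symm
  have hf0 : A.f 0 = 1 := by
    have h := A.f_add 0 0
    rw [add_zero] at h
    exact mul_eq_left.1 h.symm
  have hfsq : ∀ v, A.f v * A.f v = 1 := fun v => by
    rw [← A.f_add, show v + v = 0 from funext fun i => add_self_two (v i), hf0]
  have hfne : ∀ v, v ≠ 0 → A.f v ≠ 1 := fun v hv h => hv (A.f_inj (h.trans hf0.symm))
  have hfnz : ∀ v, v ≠ E0 → A.f v ≠ z := fun v hv h => hv (A.f_inj (h.trans A.f_E0.symm))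
  have hfc : ∀ v, Commute z (A.f v) := fun v => by
    have h : A.f E0 * A.f v = A.f v * A.f E0 := by rw [← A.f_add, ← A.f_add, add_comm]
    rwa [A.f_E0] at h
  have hpi : ∀ g : M, A.π g⁻¹ * A.π g = 1 := fun g => by rw [← map_mul, inv_mul_cancel, map_one]
  set CM := M ⊓ centralizer ({z} : Set G) with hCMdef
  have hCM : ∀ {g : G}, g ∈ CM ↔ g ∈ M ∧ Commute z g := fun {g} => by
    rw [hCMdef, Subgroup.mem_inf, mem_centralizer_singleton_iff]
    exact ⟨fun h => ⟨h.1, h.2.symm⟩, fun h => ⟨h.1, h.2.eq.symm⟩⟩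
  have hcardCM : Nat.card CM = 192 := by
    let S : Subgroup A3ˣ :=
      { carrier := {u | u.1 *ᵥ E0 = E0}
        one_mem' := one_mulVec _
        mul_mem' := fun {u v} hu hv => by
          show (u * v).1 *ᵥ E0 = E0
          rw [Units.val_mul, ← mulVec_mulVec, show v.1 *ᵥ E0 = E0 from hv, show u.1 *ᵥ E0 = E0 from hu]
        inv_mem' := fun {u} hu => by
          show (u⁻¹).1 *ᵥ E0 = E0
          conv_lhs => rw [← show u.1 *ᵥ E0 = E0 from hu]
          rw [mulVec_mulVec, ← Units.val_mul, inv_mul_cancel, Units.val_one, one_mulVec] }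
    have hS : Nat.card S = 24 := by
      rw [← stab_count]
      refine Nat.card_congr
        { toFun := fun u => ⟨u.1.1, det_unit _ ((Matrix.isUnit_iff_isUnit_det _).1 u.1.isUnit).ne_zero, u.2⟩
          invFun := fun B => ⟨((Matrix.isUnit_iff_isUnit_det B.1).2 (by rw [B.2.1]; exact isUnit_one)).unit, B.2.2⟩
          left_inv := fun u => Subtype.ext (Units.ext rfl)
          right_inv := fun B => Subtype.ext rfl }
    let π' := A.π.toHomUnits
    have hsurj : Function.Surjective π' := fun u => by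
      obtain ⟨g, hg⟩ := A.surj u.1 (det_unit _ ((Matrix.isUnit_iff_isUnit_det _).1 u.isUnit).ne_zero)
      exact ⟨g, Units.ext hg⟩
    have hk : Nat.card π'.ker = 8 := by
      have hb : Function.Bijective (fun v : V3 => (⟨⟨A.f v, A.f_mem v⟩, by
          rw [MonoidHom.mem_ker, Units.ext_iff]; exact (A.ker _).2 ⟨v, rfl⟩⟩ : π'.ker)) := by
        refine ⟨fun u v h => A.f_inj (congrArg (fun x : π'.ker => (x.1 : G)) h), fun x => ?_⟩
        obtain ⟨v, hv⟩ := (A.ker x.1).1 (congrArg Units.val x.2)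
        exact ⟨v, Subtype.ext (Subtype.ext hv.symm)⟩
      rw [← Nat.card_eq_of_bijective _ hb, Nat.card_eq_fintype_card]
      rfl
    have hG : Nat.card A3ˣ = 168 := by
      have h := card_eq_card_quotient_mul_card_subgroup π'.ker
      rw [A.card_M, hk, Nat.card_congr (QuotientGroup.quotientKerEquivOfSurjective π' hsurj).toEquiv] at h
      omega
    have h1 := (S.comap π').index_mul_card
    have h2 := S.index_mul_card
    rw [index_comap_of_surjective _ hsurj, A.card_M] at h1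
    rw [hS, hG] at h2
    have h3 : S.index = 7 := by omega
    rw [h3] at h1
    have e : Nat.card (S.comap π') = Nat.card CM := Nat.card_congr
      { toFun := fun g => ⟨g.1.1, hCM.2 ⟨g.1.2, (hfix g.1).2 g.2⟩⟩
        invFun := fun g => ⟨⟨g.1, (hCM.1 g.2).1⟩, (hfix ⟨g.1, _⟩).1 (hCM.1 g.2).2⟩
        left_inv := fun g => rfl
        right_inv := fun g => rfl }
    omega
  have hnotK : ¬ CM ≤ P.K := fun h => by
    have hd := card_dvd_of_le h
    rw [hcardCM, P.card_K] at hd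
    norm_num at hd
  obtain ⟨v0n, v1n, v1z, v2n, v2z, v12n, v12z⟩ := vec_facts
  have hOK : ∀ v, A.f v ∈ P.K := by
    obtain ⟨v, hv0, hvz, hvK⟩ : ∃ v, v ≠ 0 ∧ v ≠ E0 ∧ A.f v ∈ P.K := by
      by_cases h1 : A.f E1 ∈ P.K
      · exact ⟨E1, v1n, v1z, h1⟩
      by_cases h2 : A.f E2 ∈ P.K
      · exact ⟨E2, v2n, v2z, h2⟩
      exact ⟨E1 + E2, v12n, v12z, by rw [A.f_add]; exact P.half _ _ (hfc E1) (hfc E2) h1 h2⟩
    intro u
    by_cases hu0 : u = 0
    · rw [hu0, hf0]; exact one_mem _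
    by_cases huz : u = E0
    · rw [huz, A.f_E0]; exact P.z_mem
    obtain ⟨x, y, a, b, c, d, hd, he⟩ := stab_trans v u hv0 hvz hu0 huz
    obtain ⟨g, hg⟩ := A.surj _ hd
    rw [← he, ← hg, ← A.act]
    have hgz : Commute z (g : G) := (hfix g).2 (by rw [hg, mk6_fix])
    obtain ⟨p, q, e⟩ := P.mem_K.1 hvK
    obtain ⟨p', hp'⟩ := P.nrm₁ _ hgz p
    obtain ⟨q', hq'⟩ := P.nrm₂ _ hgz q
    exact ⟨p', q', by rw [e, ← hp', ← hq']; group⟩
  -- the quaternion pairs lie in the second subgroup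
  have hR : ∀ a b : S2, a ^ 4 = 1 → b ^ 4 = 1 → P.i₁ a * P.i₂ b ∈ M := by
    obtain ⟨S, hS⟩ := Sylow.exists_subgroup_card_pow_prime (G := CM) 2 (n := 6) (by rw [hcardCM]; norm_num)
    set Q := S.map CM.subtype with hQ
    have hQc : Nat.card Q = 64 := by
      rw [hQ, ← Nat.card_congr (S.equivMapOfInjective _ CM.subtype_injective).toEquiv, hS]; norm_num
    have hQ64 : ∀ x ∈ Q, x ^ 64 = 1 := fun x hx => by
      have := pow_card_eq_one' (x := (⟨x, hx⟩ : Q))
      rw [hQc] at this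
      exact congrArg Subtype.val this
    have hQK : 32 ≤ Nat.card ↥(Q ⊓ P.K) := by
      by_cases hQle : Q ≤ P.K
      · rw [inf_eq_left.2 hQle, hQc]; norm_num
      obtain ⟨h0, hh0, hh0K⟩ := SetLike.not_le_iff_exists.1 hQle
      have hh0z : Commute z h0 := (hCM.1 (map_subtype_le _ hh0)).2
      have := Nat.card_le_card_of_injective (fun x : Q => if h : (x : G) ∈ P.K then ((⟨x, x.2, h⟩ : ↥(Q ⊓ P.K)), true)
        else ((⟨(x : G) * h0, mul_mem x.2 hh0, P.half _ _ (hCM.1 (map_subtype_le _ x.2)).2 hh0z h hh0K⟩ :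
          ↥(Q ⊓ P.K)), false)) (by
          intro x y e
          simp only at e
          split_ifs at e with hx hy hy
          · exact Subtype.ext (congrArg (fun p : ↥(Q ⊓ P.K) × Bool => (p.1 : G)) e)
          · exact absurd (congrArg Prod.snd e) (by simp)
          · exact absurd (congrArg Prod.snd e) (by simp)
          · exact Subtype.ext (mul_right_cancel (congrArg (fun p : ↥(Q ⊓ P.K) × Bool => (p.1 : G)) e)))
      rw [hQc, Nat.card_prod, Nat.card_eq_fintype_card (α := Bool), Fintype.card_bool] at this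
      omega
    let R : Set G := {g | ∃ a b, a ^ 4 = 1 ∧ b ^ 4 = 1 ∧ g = P.i₁ a * P.i₂ b}
    have hRle : Nat.card R ≤ 32 := by
      refine (Nat.card_le_card_of_surjective (fun p : {a : S2 // a ∈ [1, Jm, Im, Im * Jm]} × {b : S2 // b ^ 4 = 1} =>
        (⟨P.i₁ p.1.1 * P.i₂ p.2.1, p.1.1, p.2.1,
          (by decide +kernel : ∀ a ∈ [1, Jm, Im, Im * Jm], a ^ 4 = 1) _ p.1.2, p.2.2, rfl⟩ : R)) ?_).trans ?_
      · rintro ⟨g, a, b, ha, hb, rfl⟩
        rcases quat_reps a ha with h | h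
        · exact ⟨(⟨a, h⟩, ⟨b, hb⟩), rfl⟩
        · refine ⟨(⟨ng * a, h⟩, ⟨ng * b, ?_⟩), Subtype.ext ?_⟩
          · rw [(show Commute ng b from ng_central b).mul_pow, hb, ng_four, mul_one]
          · show P.i₁ (ng * a) * P.i₂ (ng * b) = P.i₁ a * P.i₂ b
            rw [← P.mul_pair, P.neg₁, P.neg₂, hzz, one_mul]
      · rw [Nat.card_prod, quat_count.1, quat_count.2.1]
    have hsub : ((Q ⊓ P.K : Subgroup G) : Set G) ⊆ R := by
      rintro x ⟨hxQ, hxK⟩
      obtain ⟨a, b, rfl⟩ := hxK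
      obtain ⟨h1, h2⟩ := P.four_of (n := 64) (by norm_num) (hQ64 _ hxQ)
      exact ⟨a, b, h1, h2, rfl⟩
    have heq : ((Q ⊓ P.K : Subgroup G) : Set G) = R := by
      refine Set.eq_of_subset_of_ncard_le hsub ?_ (Set.toFinite _)
      rw [← Nat.card_coe_set_eq, ← Nat.card_coe_set_eq]
      exact hRle.trans hQK
    intro a b ha hb
    have : P.i₁ a * P.i₂ b ∈ ((Q ⊓ P.K : Subgroup G) : Set G) := heq ▸ ⟨a, b, ha, hb, rfl⟩
    exact (hCM.1 (map_subtype_le _ this.1)).1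
  -- an involution of the product outside the normal subgroup
  obtain ⟨r, hrK, hrM, hr2, hrπ⟩ : ∃ r, r ∈ P.K ∧ ∃ hr : r ∈ M, r * r = 1 ∧ A.π ⟨r, hr⟩ ≠ 1 := by
    have hinv : ∀ a b : S2, a * a = ng → b * b = ng → P.i₁ a * P.i₂ b * (P.i₁ a * P.i₂ b) = 1 := fun a b ha hb => by
      rw [P.mul_pair, ha, hb, P.neg₁, P.neg₂, hzz]
    obtain ⟨hJI, hJ4, hI4⟩ := IJ_facts
    by_cases h : A.π ⟨_, hR Jm Jm hJ4 hJ4⟩ = 1
    · refine ⟨_, ⟨Im, Jm, rfl⟩, hR Im Jm hI4 hJ4, hinv _ _ Im_sq J_sq, fun h' => hz1 ?_⟩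
      obtain ⟨u, hu⟩ := (A.ker _).1 h
      obtain ⟨v, hv⟩ := (A.ker _).1 h'
      have h2 : (P.i₁ Jm * P.i₂ Jm * (P.i₁ Im * P.i₂ Jm)) * (P.i₁ Jm * P.i₂ Jm * (P.i₁ Im * P.i₂ Jm)) = 1 := by
        rw [show P.i₁ Jm * P.i₂ Jm = A.f u from hu, show P.i₁ Im * P.i₂ Jm = A.f v from hv, ← A.f_add]
        exact hfsq _
      rwa [P.mul_pair, P.mul_pair, hJI, J_sq, ng_sq, map_one, mul_one, P.neg₁] at h2
    · exact ⟨_, ⟨Jm, Jm, rfl⟩, hR Jm Jm hJ4 hJ4, hinv _ _ J_sq J_sq, h⟩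
  obtain ⟨rd, rT, -, ru0, ruz, Td⟩ := rho_facts
  obtain ⟨r2E, r2d, TE⟩ := rho_sq_fix
  obtain ⟨Pm, hPd, hPT⟩ := invol_T0 _ (A.det ⟨r, hrM⟩) (by
    rw [← map_mul, show (⟨r, hrM⟩ : M) * ⟨r, hrM⟩ = 1 from Subtype.ext hr2, map_one]) hrπ
  obtain ⟨g, hg⟩ := A.surj Pm hPd
  set wM : M := g * ⟨r, hrM⟩ * g⁻¹ with hwM
  set w : G := (wM : G) with hwdef
  have hgr : w = (g : G) * r * (g : G)⁻¹ := by simp [hwdef, hwM]
  have hwπ : A.π wM = T0 := by
    rw [hwM, map_mul, map_mul, hg, ← hPT, mul_assoc, ← hg, ← map_mul, mul_inv_cancel, map_one, mul_one]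
  have hwz : Commute z w := (hfix wM).2 (hwπ ▸ TE)
  have hw2 : w * w = 1 := by
    rw [hgr, show (g : G) * r * (g : G)⁻¹ * ((g : G) * r * (g : G)⁻¹) = g * (r * r) * (g : G)⁻¹ by group, hr2,
      mul_one, mul_inv_cancel]
  have hwK : ¬ ∃ a b, w = P.i₁ a * P.i₂ b := fun hwK => hnotK fun t ht => by
    obtain ⟨htM, htz⟩ := hCM.1 ht
    obtain ⟨x, y, a, b, c, d, hd, hS⟩ := stab_sq _ (A.det ⟨t, htM⟩) ((hfix ⟨t, htM⟩).1 htz)
    obtain ⟨k, hk⟩ := A.surj _ hd
    have hkK : (k : G) * k ∈ P.K := P.sq_mem ((hfix k).2 (by rw [hk, mk6_fix]))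
    have key : ∀ u : M, A.π u = A.π ⟨t, htM⟩ → (u : G) ∈ P.K → t ∈ P.K := by
      intro u hu huK
      obtain ⟨v, hv⟩ := (A.ker (u⁻¹ * ⟨t, htM⟩)).1 (by rw [map_mul, ← hu, hpi])
      have e : (u : G)⁻¹ * t = A.f v := hv
      rw [show t = (u : G) * ((u : G)⁻¹ * t) by group, e]
      exact mul_mem huK (hOK v)
    rcases hS with hS | hS
    · exact key (k * k) (by rw [map_mul, hk, hS]) hkK
    · exact key (k * k * wM) (by rw [map_mul, map_mul, hk, hwπ, hS]) (mul_mem hkK hwK)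
  obtain ⟨g0, hg0⟩ := A.surj Rho rd
  set eM : M := g0 * g0 with heM
  have heπ : A.π eM = Rho * Rho := by rw [heM, map_mul, hg0]
  have hRho0 : Rho *ᵥ E0 = E0 := mk6_fix _ _ _ _ _ _
  have hg0z : Commute z (g0 : G) := (hfix g0).2 (hg0 ▸ hRho0)
  obtain ⟨x, y, hxy⟩ := P.mem_K.1 (show (eM : G) ∈ P.K from P.sq_mem hg0z)
  have hu : ∃ p q, p * p = ng ∧ q * q = ng ∧ ∃ q₁ q₂, q₁ ^ 4 = 1 ∧ q₂ ^ 4 = 1 ∧
      P.i₁ (x * q₁ * x⁻¹ * q₁⁻¹) * P.i₂ (y * q₂ * y⁻¹ * q₂⁻¹) = P.i₁ p * P.i₂ q := by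
    obtain ⟨q₁, q₂, ho⟩ := hOK E1
    obtain ⟨p, q, hp⟩ := hOK ((Rho * Rho) *ᵥ E1 + E1)
    obtain ⟨o1, o2⟩ := P.invol_pair (ho ▸ hfsq E1) (ho ▸ hfne _ v1n) (ho ▸ hfnz _ v1z)
    obtain ⟨p1, p2⟩ := P.invol_pair (hp ▸ hfsq _) (hp ▸ hfne _ ru0) (hp ▸ hfnz _ ruz)
    refine ⟨p, q, p1, p2, q₁, q₂, quot_pm _ o1, quot_pm _ o2, ?_⟩
    have h := A.act eM E1
    rw [heπ, hxy, ho, P.inv_pair, P.mul_pair, P.mul_pair] at h
    have h' : P.i₁ (x * q₁ * x⁻¹) * P.i₂ (y * q₂ * y⁻¹) * (P.i₁ q₁ * P.i₂ q₂)⁻¹ = P.i₁ p * P.i₂ q := by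
      rw [h, ← hp, A.f_add, ← ho, inv_eq_of_mul_eq_one_right (hfsq E1)]
    rwa [P.inv_pair, P.mul_pair] at h'
  have hxy4 : x ^ 4 ≠ 1 ∧ y ^ 4 ≠ 1 := by
    obtain ⟨p, q, p1, p2, q₁, q₂, h1, h2, e⟩ := hu
    have bad : ∀ c u : S2, c = 1 ∨ c = ng → u * u = ng → ¬ (c = u ∨ c = ng * u) := by decide +kernel
    exact ⟨fun h => bad _ p (quat_comm x q₁ h h1) p1 ((P.pair_eq e).imp (·.1) (·.1)),
      fun h => bad _ q (quat_comm y q₂ h h2) p2 ((P.pair_eq e).imp (·.2) (·.2))⟩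
  obtain ⟨v, hv⟩ : ∃ v, ((wM * eM * wM⁻¹ * eM : M) : G) = A.f v := by
    refine (A.ker _).1 ?_
    have hwi : wM⁻¹ = wM := inv_eq_of_mul_eq_one_right (Subtype.ext hw2)
    rw [map_mul, map_mul, map_mul, hwi, hwπ, heπ, rT]
  obtain ⟨p, q, hpq⟩ := hOK v
  obtain ⟨hp4, hq4⟩ := P.four_of (n := 4) (by norm_num) (by
    rw [← hpq, show A.f v ^ 4 = (A.f v * A.f v) ^ 2 by rw [← pow_two, ← pow_mul], hfsq, one_pow])
  simp only [Subgroup.coe_mul, InvMemClass.coe_inv, hxy, hpq] at hv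
  obtain ⟨m⟩ := P.exists_mdl hwz hw2 hwK hxy4.1 hxy4.2 hp4 hq4 hv
  -- fusion
  have hclass : ∀ v, v ≠ 0 → IsConj z (A.f v) := fun v hv => by
    obtain ⟨x, y, a, b, c, d, e, f, k, hd, he⟩ := trans3 v hv
    obtain ⟨h, hh⟩ := A.surj _ hd
    refine isConj_iff.2 ⟨(h : G), ?_⟩
    have := A.act h E0
    rwa [hh, he, A.f_E0] at this
  have hJJ : IsConj z (P.i₁ Jm * P.i₂ Jm) :=
    (hclass E1 v1n).trans (P.invol_conj (hOK E1) (hfsq _) (hfne _ v1n) (hfnz _ v1z)).symm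
  have hKz : ∀ t ∈ P.K, t * t = 1 → t ≠ 1 → IsConj z t := fun t ht h2 h1 => by
    by_cases hz : t = z
    · rw [hz]
    · exact hJJ.trans (P.invol_conj ht h2 h1 hz)
  have hwcl : IsConj z w := (hKz r hrK hr2 fun h => hrπ (by
    rw [show (⟨r, hrM⟩ : M) = 1 from Subtype.ext h, map_one])).trans (isConj_iff.2 ⟨g, hgr.symm⟩)
  have hmK : ∀ d, m.i₁ d ∈ P.K ∧ m.i₂ d ∈ P.K := by
    have hgen : ∀ u : S2, u ^ 3 = 1 → m.i₁ u ∈ P.K ∧ m.i₂ u ∈ P.K := fun u hu => by
      have hu2 : u = (u * u) * (u * u) := by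
        rw [show (u * u) * (u * u) = u ^ 3 * u by simp [pow_succ, mul_assoc], hu, one_mul]
      rw [hu2, map_mul, map_mul m.i₂ (u * u)]
      exact ⟨P.sq_mem (by simpa using m.mem_cent (u * u) 1), P.sq_mem (by simpa using m.mem_cent 1 (u * u))⟩
    intro d
    obtain ⟨i, j, k, l, rfl⟩ := words d
    simp only [map_mul, map_pow]
    obtain ⟨a1, a2⟩ := hgen Um U_cube
    obtain ⟨b1, b2⟩ := hgen Lm UL_rel.1
    exact ⟨mul_mem (mul_mem (mul_mem (pow_mem a1 _) (pow_mem b1 _)) (pow_mem a1 _)) (pow_mem b1 _),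
      mul_mem (mul_mem (mul_mem (pow_mem a2 _) (pow_mem b2 _)) (pow_mem a2 _)) (pow_mem b2 _)⟩
  have hcl : ∀ t, Commute z t → t * t = 1 → t ≠ 1 → IsConj z t := fun t htz ht2 ht1 => by
    by_cases hz : t = z
    · rw [hz]
    rcases m.cases_invol htz ht2 ht1 hz with ⟨c, -, e⟩ | ⟨c, -, e⟩
    · refine (hKz _ (mul_mem (hmK Jm).1 (hmK Jm).2) ?_ ?_).trans (isConj_iff.2 ⟨c, e⟩)
      · rw [m.mul_pair, J_sq, m.neg₁, m.neg₂, m.zz]
      · intro h
        rw [h, mul_one, mul_inv_cancel] at e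
        exact ht1 e.symm
    · exact hwcl.trans (isConj_iff.2 ⟨c, e⟩)
  -- a Sylow subgroup of the centraliser
  let S₀ : Subgroup G :=
    { carrier := {g | ∃ a b, a ^ 4 = 1 ∧ b ^ 4 = 1 ∧ (g = m.i₁ a * m.i₂ b ∨ g = m.i₁ a * m.i₂ b * w)}
      one_mem' := ⟨1, 1, one_pow 4, one_pow 4, Or.inl (by simp)⟩
      mul_mem' := by
        rintro _ _ ⟨a, b, ha, hb, rfl | rfl⟩ ⟨c, d, hc, hd, rfl | rfl⟩
        · exact ⟨_, _, four_mul a ha c hc, four_mul b hb d hd, Or.inl (m.mul_pair a b c d)⟩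
        · exact ⟨_, _, four_mul a ha c hc, four_mul b hb d hd, Or.inr (by rw [← mul_assoc, m.mul_pair])⟩
        · exact ⟨_, _, four_mul a ha _ (four_dc c hc), four_mul b hb _ (four_dc d hd), Or.inr (by
            rw [mul_assoc, m.tau_move, ← mul_assoc, m.mul_pair])⟩
        · exact ⟨_, _, four_mul a ha _ (four_dc c hc), four_mul b hb _ (four_dc d hd), Or.inl (by
            rw [← m.mul_pair, ← m.tau_pair]; group)⟩
      inv_mem' := by
        rintro _ ⟨a, b, ha, hb, rfl | rfl⟩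
        · exact ⟨a⁻¹, b⁻¹, by rw [inv_pow, ha, inv_one], by rw [inv_pow, hb, inv_one], Or.inl (m.inv_pair a b)⟩
        · refine ⟨dc a⁻¹, dc b⁻¹, four_dc _ (by rw [inv_pow, ha, inv_one]), four_dc _ (by rw [inv_pow, hb, inv_one]),
            Or.inr ?_⟩
          rw [_root_.mul_inv_rev, m.tau_inv, m.inv_pair, m.tau_move] }
  have hS0p : IsPGroup 2 S₀ := by
    rintro ⟨g, a, b, ha, hb, e⟩
    refine ⟨3, Subtype.ext ?_⟩
    show g ^ 2 ^ 3 = 1
    rcases e with rfl | rfl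
    · rw [show (2 : ℕ) ^ 3 = 4 * 2 by norm_num, pow_mul, m.pow_pair, ha, hb]
      simp
    · have e2 : (m.i₁ a * m.i₂ b * w) ^ 2 = m.i₁ (a * dc a) * m.i₂ (b * dc b) := by
        rw [pow_two, ← m.mul_pair, ← m.tau_pair]; group
      rw [show (2 : ℕ) ^ 3 = 2 * 4 by norm_num, pow_mul, e2, m.pow_pair, four_mul a ha _ (four_dc a ha),
        four_mul b hb _ (four_dc b hb)]
      simp
  obtain ⟨S, hS⟩ := hS0p.exists_le_sylow
  obtain ⟨hJI, hJ4, hI4⟩ := IJ_facts
  have hmem : ∀ a b, a ^ 4 = 1 → b ^ 4 = 1 → m.i₁ a * m.i₂ b ∈ (S : Subgroup G) := fun a b ha hb =>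
    hS ⟨a, b, ha, hb, Or.inl rfl⟩
  have hzS : z ∈ (S : Subgroup G) := by
    have := hmem ng 1 ng_four (one_pow 4)
    rwa [map_one, mul_one, m.neg₁] at this
  have hwS : w ∈ (S : Subgroup G) := hS ⟨1, 1, one_pow 4, one_pow 4, Or.inr (by simp)⟩
  have hcen : ∀ c : G, (∀ s ∈ (S : Subgroup G), Commute c s) → c = 1 ∨ c = z := by
    intro c hc
    have hcz : Commute z c := (hc z hzS).symm
    have hct : Commute w c := (hc w hwS).symm
    obtain ⟨a, b, hab, e⟩ := m.cent_four hcz hct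
    have h1 : ∀ q, q ^ 4 = 1 → Commute c (m.i₁ q) := fun q hq => by
      simpa using hc _ (hmem q 1 hq (one_pow 4))
    have key : ∀ q, q ^ 4 = 1 → (c = m.i₁ a * m.i₂ b → a * q = q * a) ∧
        (c = m.i₁ a * m.i₂ b * w → a * dc q = q * a ∨ a * dc q = ng * (q * a) ∧ b = ng * b) := by
      intro q hq
      have h := h1 q hq
      have eq1 : m.i₁ q = m.i₁ q * m.i₂ 1 := by rw [map_one, mul_one]
      constructor
      · intro e
        rw [e, eq1] at h
        rcases m.pair_comm h with ⟨u, -⟩ | ⟨-, u⟩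
        · exact u
        · rw [mul_one, one_mul] at u
          exact absurd (mul_eq_right.1 u.symm) ng_ne
      · intro e
        rw [e, eq1] at h
        have h' := h.eq
        rw [mul_assoc, m.tau_move, ← mul_assoc, m.mul_pair, ← mul_assoc, m.mul_pair, mul_left_inj] at h'
        rcases m.pair_eq h' with ⟨u, -⟩ | ⟨u, v⟩
        · exact Or.inl u
        · exact Or.inr ⟨u, by simpa [dc_one] using v⟩
    rcases e with e | e
    · have ha : a = 1 ∨ a = ng := cent_quat a ((key Jm hJ4).1 e) ((key Im hI4).1 e)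
      rcases hab with ⟨-, hb⟩ | ⟨ha', -⟩
      · rw [e]
        rcases ha with rfl | rfl <;> rcases hb with rfl | rfl
        · left; simp
        · right; rw [map_one, one_mul, m.neg₂]
        · right; rw [map_one, mul_one, m.neg₁]
        · left; rw [m.neg₁, m.neg₂, hzz]
      · exfalso
        rcases ha with rfl | rfl <;> rcases ha' with h | h <;> revert h <;> decide +kernel
    · exfalso
      have no : ∀ a : S2, (a = 1 ∨ a = ng ∨ a = Jm ∨ a = ng * Jm) →
          ¬ ((a * dc Jm = Jm * a) ∧ (a * dc Im = Im * a)) := by decide +kernel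
      have ha4 : a = 1 ∨ a = ng ∨ a = Jm ∨ a = ng * Jm := by
        rcases hab with ⟨ha, -⟩ | ⟨ha, -⟩ <;> rcases ha with h | h <;> simp [h]
      have hb : b ≠ ng * b := fun h => ng_ne (mul_eq_right.1 h.symm)
      exact no a ha4 ⟨((key Jm hJ4).2 e).resolve_right fun k => hb k.2,
        ((key Im hI4).2 e).resolve_right fun k => hb k.2⟩
  have hcentral : ∀ s ∈ (S : Subgroup G), Commute z s := by
    haveI : Nontrivial (S : Subgroup G) := ⟨⟨z, hzS⟩, 1, fun h => hz1 (congrArg Subtype.val h)⟩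
    haveI := S.2.center_nontrivial
    obtain ⟨c, hc⟩ := exists_ne (1 : center (S : Subgroup G))
    intro s hs
    have hcc : ∀ t ∈ (S : Subgroup G), Commute (c.1 : G) t := fun t ht =>
      (congrArg Subtype.val (mem_center_iff.1 c.2 ⟨t, ht⟩)).symm
    rcases hcen _ hcc with h | h
    · exact absurd (Subtype.ext (Subtype.ext h)) hc
    · exact h ▸ hcc s hs
  have hall : ∀ t : G, orderOf t = 2 → IsConj z t := by
    intro t ht
    have ht2 : t * t = 1 := by rw [← pow_two, ← ht, pow_orderOf_eq_one]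
    have ht1 : t ≠ 1 := fun h => by simp [h] at ht
    have hp : IsPGroup 2 (zpowers t) := IsPGroup.of_card (n := 1) (by rw [Nat.card_zpowers, ht, pow_one])
    obtain ⟨S', hS'⟩ := hp.exists_le_sylow
    obtain ⟨k, hk⟩ := MulAction.exists_smul_eq G S' S
    have hkt : k * t * k⁻¹ ∈ (S : Subgroup G) := by
      rw [← hk, Sylow.coe_subgroup_smul]
      exact ⟨t, hS' (mem_zpowers t), rfl⟩
    refine (hcl _ (hcentral _ hkt) ?_ fun h => ht1 (by simpa using h)).trans (isConj_iff.2 ⟨k⁻¹, by group⟩)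
    rw [show k * t * k⁻¹ * (k * t * k⁻¹) = k * (t * t) * k⁻¹ by group, ht2, mul_one, mul_inv_cancel]
  refine ⟨w, ⟨fun s t hs ht => (hall s hs).symm.trans (hall t ht), ?_, ?_⟩, ⟨m⟩⟩
  · intro h
    obtain ⟨N, h0, h3, hmono, hnor, hev, hod⟩ := (Local.pLengthLE_iff 1).1 h
    have hcardN : ∀ i, Nat.card ((N i).subgroupOf M) ∣ Nat.card (N i) := fun i => by
      rw [Nat.card_congr (Subgroup.equivMapOfInjective ((N i).subgroupOf M) M.subtype M.subtype_injective).toEquiv]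
      exact card_dvd_of_le (by rw [subgroupOf_map_subtype]; exact inf_le_left)
    have hN1 : (Nat.card (N 1)).Coprime 3 := by
      have h := hev 0 (by decide)
      rwa [h0, relIndex_bot_left] at h
    have seven : ∀ N' : Subgroup M, (∀ g ∈ N', A.π g = 1) → ∀ q : ℕ, q.Prime → q ≠ 2 → ¬ q ∣ Nat.card N' := by
      intro N' hN' q hq hq2 hd
      haveI := Fact.mk hq
      obtain ⟨x, hx⟩ := exists_prime_orderOf_dvd_card' q (G := N') hd
      obtain ⟨v, hv⟩ := (A.ker x.1).1 (hN' _ x.2)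
      have hx2 : x ^ 2 = 1 := Subtype.ext (Subtype.ext (by
        show ((x.1 : M) : G) ^ 2 = 1
        rw [pow_two, hv, hfsq]))
      have h2 := orderOf_dvd_of_pow_eq_one hx2
      rw [hx] at h2
      exact hq2 ((Nat.prime_dvd_prime_iff_eq hq Nat.prime_two).1 h2)
    haveI := hnor 1
    haveI := hnor 2
    have h1c : ¬ 168 ∣ Nat.card ((N 1).subgroupOf M) := fun hd => by
      have := Nat.Coprime.coprime_dvd_left (Dvd.dvd.trans ((show 3 ∣ 168 by norm_num).trans hd) (hcardN 1)) hN1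
      norm_num at this
    obtain ⟨e, he⟩ := hod 1 (by decide)
    have h2c : ¬ 168 ∣ Nat.card ((N 2).subgroupOf M) := by
      intro hd
      set A1 := (N 1).subgroupOf M
      set A2 := (N 2).subgroupOf M
      have hA : A1 ≤ A2 := fun g hg => hmono (show 1 ≤ 2 by norm_num) hg
      have hrel : A1.relIndex A2 ∣ 3 ^ e := by
        have h' : A1.relIndex A2 = (N 1).relIndex (N 2 ⊓ M) := by
          show ((N 1).comap M.subtype).relIndex A2 = _
          rw [relIndex_comap, subgroupOf_map_subtype]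
        rw [← he, h', ← relIndex_subgroupOf (inf_le_left : N 2 ⊓ M ≤ N 2)]
        exact relIndex_dvd_index_of_normal _ _
      have hmul : A1.relIndex A2 * Nat.card A1 = Nat.card A2 := by
        rw [← relIndex_bot_left A1, ← relIndex_bot_left A2, mul_comm, relIndex_mul_relIndex _ _ _ bot_le hA]
      have h7 : (7 : ℕ) ∣ A1.relIndex A2 * Nat.card A1 := hmul ▸ (show 7 ∣ 168 by norm_num).trans hd
      rcases (Nat.Prime.dvd_mul (by norm_num : Nat.Prime 7)).1 h7 with h | h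
      · have h' := (by norm_num : Nat.Prime 7).dvd_of_dvd_pow (h.trans hrel)
        norm_num at h'
      · exact seven A1 ((A.small _ inferInstance).resolve_right h1c) 7 (by norm_num) (by norm_num) h
    have hidx : ((N 2).subgroupOf M).index.Coprime 3 := by
      have h := hev 2 (by decide)
      rw [show (2 + 1 : ℕ) = 2 * 1 + 1 by norm_num, h3, relIndex_top_right] at h
      exact h.coprime_dvd_left (relIndex_dvd_index_of_normal (N 2) M)
    have hmul := ((N 2).subgroupOf M).index_mul_card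
    rw [A.card_M] at hmul
    have h3d : 3 ∣ ((N 2).subgroupOf M).index * Nat.card ((N 2).subgroupOf M) := hmul ▸ (by norm_num)
    exact seven _ ((A.small _ inferInstance).resolve_right h2c) 3 (by norm_num) (by norm_num)
      (hidx.symm.dvd_of_dvd_mul_left h3d)
  · set N := Cfsg.pResidual 3 G with hN
    haveI : N.Normal := by
      refine ⟨fun x hx g => ?_⟩
      rw [hN, Cfsg.pResidual] at hx ⊢
      induction hx using closure_induction with
      | mem x hx =>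
        refine subset_closure ?_
        show (orderOf (g * x * g⁻¹)).Coprime 3
        rw [← MulAut.conj_apply, MulEquiv.orderOf_eq]
        exact hx
      | one => simpa using one_mem _
      | mul a b _ _ iha ihb => simpa [mul_assoc] using mul_mem iha ihb
      | inv a _ iha => simpa [mul_assoc] using inv_mem iha
    have htwo : ∀ x ∈ (S : Subgroup G), x ∈ N := fun x hx => by
      refine subset_closure ?_
      obtain ⟨k, hk⟩ := S.2 ⟨x, hx⟩
      exact ((by norm_num : Nat.Coprime 2 3).pow_left k).coprime_dvd_left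
        (orderOf_dvd_of_pow_eq_one (congrArg Subtype.val hk))
    have hwN := htwo w hwS
    have hU : m.i₁ Um ∈ N ∧ m.i₂ Um ∈ N := by
      have key : ∀ x : G, x ^ 3 = 1 → w * x * w = x⁻¹ → x ∈ N := fun x h3 hi => by
        have h : w * (x * w * x⁻¹) ∈ N := mul_mem hwN (‹N.Normal›.conj_mem w hwN x)
        have e : w * (x * w * x⁻¹) = x := by
          calc w * (x * w * x⁻¹) = (w * x * w) * x⁻¹ := by group
            _ = (x ^ 3)⁻¹ * x := by rw [hi]; group
            _ = x := by rw [h3, inv_one, one_mul]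
        rwa [e] at h
      exact ⟨key _ m.a_props.2.1 m.a_props.2.2, key _ m.b_props.2.1 m.b_props.2.2⟩
    have hL : m.i₁ Lm ∈ N ∧ m.i₂ Lm ∈ N := by
      have e : Lm = (Jm * Um * Jm⁻¹)⁻¹ := by rw [J_U, inv_inv]
      rw [e]
      simp only [map_inv, map_mul]
      exact ⟨inv_mem (‹N.Normal›.conj_mem _ hU.1 _), inv_mem (‹N.Normal›.conj_mem _ hU.2 _)⟩
    have hH : ∀ c, Commute z c → c ∈ N := by
      intro c hc
      obtain ⟨a, b, e⟩ := (m.cent c).1 hc
      have hab : m.i₁ a * m.i₂ b ∈ N := by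
        obtain ⟨i, j, k, l, rfl⟩ := words a
        obtain ⟨i', j', k', l', rfl⟩ := words b
        simp only [map_mul, map_pow]
        exact mul_mem (mul_mem (mul_mem (mul_mem (pow_mem hU.1 _) (pow_mem hL.1 _)) (pow_mem hU.1 _))
          (pow_mem hL.1 _)) (mul_mem (mul_mem (mul_mem (pow_mem hU.2 _) (pow_mem hL.2 _)) (pow_mem hU.2 _))
          (pow_mem hL.2 _))
      rcases e with rfl | rfl
      exacts [hab, mul_mem hab hwN]
    rw [eq_top_iff, ← Sylow.normalizer_sup_eq_top' S htwo]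
    refine sup_le (fun c hc => hH c ?_) le_rfl
    have hc' : ∀ s ∈ (S : Subgroup G), Commute (c * z * c⁻¹) s := fun s hs => by
      have hs' : c⁻¹ * s * c ∈ (S : Subgroup G) := by
        have := (mem_normalizer_iff.1 (inv_mem hc) s).1 hs
        simpa using this
      have := (hcentral _ hs').map (MulAut.conj c).toMonoidHom
      simpa [mul_assoc] using this
    rcases hcen _ hc' with h | h
    · exact absurd (by simpa using h) hz1
    · exact (mul_inv_eq_iff_eq_mul.1 h).symm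

end Cfsg.Lib.GTwoType
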