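import Cfsg.Agent.Lib.GTwoType.Mat
import Cfsg.Agent.S3035

/-!
# Matrices of degree three over the field of two elements and quaternion computations
-/

set_option autoImplicit false
set_option synthInstance.maxSize 4000

namespace Cfsg.Lib.GTwoType

open Matrix

/-- The natural module. -/
abbrev V3 := Fin 3 → ZMod 2

/-- The matrices of degree three. -/
abbrev A3 := Matrix (Fin 3) (Fin 3) (ZMod 2)

/-- The first basis vector. -/
def E0 : V3 := ![1, 0, 0]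
/-- The second basis vector. -/
def E1 : V3 := ![0, 1, 0]
/-- The third basis vector. -/
def E2 : V3 := ![0, 0, 1]

/-- A matrix fixing the first basis vector. -/
def mk6 (x y a b c d : ZMod 2) : A3 := !![1, x, y; 0, a, b; 0, c, d]

theorem mk6_fix (x y a b c d : ZMod 2) : mk6 x y a b c d *ᵥ E0 = E0 := by
  ext i
  fin_cases i <;> simp [mk6, E0, mulVec, dotProduct, Fin.sum_univ_three]

/-- An involution of the stabiliser outside its subgroup of squares. -/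
def T0 : A3 := mk6 0 0 0 1 1 0

/-- An element of order three of the stabiliser. -/
def Rho : A3 := mk6 0 0 0 1 1 1

theorem det_unit : ∀ a : ZMod 2, a ≠ 0 → a = 1 := by decide

theorem sl_three_two : IsSimpleGroup (Matrix.SpecialLinearGroup (Fin 3) (ZMod 2)) ∧
    Nat.card (Matrix.SpecialLinearGroup (Fin 3) (ZMod 2)) = 168 :=
  Cfsg.Agent.S3035.slThree

theorem vec_facts :
    E0 ≠ 0 ∧ E1 ≠ 0 ∧ E1 ≠ E0 ∧ E2 ≠ 0 ∧ E2 ≠ E0 ∧ E1 + E2 ≠ 0 ∧ E1 + E2 ≠ E0 := by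
  decide +kernel

theorem rho_facts : Rho.det = 1 ∧ T0 * (Rho * Rho) * T0 * (Rho * Rho) = 1 ∧ T0 * T0 = 1 ∧
    (Rho * Rho) *ᵥ E1 + E1 ≠ 0 ∧ (Rho * Rho) *ᵥ E1 + E1 ≠ E0 ∧ T0.det = 1 := by
  decide +kernel

theorem stab_count : Nat.card {B : A3 // B.det = 1 ∧ B *ᵥ E0 = E0} = 24 := by
  rw [Nat.card_eq_fintype_card]
  decide +kernel

theorem stab_trans : ∀ v u : V3, v ≠ 0 → v ≠ E0 → u ≠ 0 → u ≠ E0 →
    ∃ x y a b c d, (mk6 x y a b c d).det = 1 ∧ mk6 x y a b c d *ᵥ v = u := by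
  decide +kernel

theorem trans3 : ∀ v : V3, v ≠ 0 → ∃ x y a b c d e f k : ZMod 2,
    (!![x, y, a; b, c, d; e, f, k] : A3).det = 1 ∧ (!![x, y, a; b, c, d; e, f, k] : A3) *ᵥ E0 = v := by
  decide +kernel

theorem stab_sq_aux : ∀ x y a b c d : ZMod 2, (mk6 x y a b c d).det = 1 →
    ∃ x' y' a' b' c' d', (mk6 x' y' a' b' c' d').det = 1 ∧
      (mk6 x y a b c d = mk6 x' y' a' b' c' d' * mk6 x' y' a' b' c' d' ∨
        mk6 x y a b c d = mk6 x' y' a' b' c' d' * mk6 x' y' a' b' c' d' * T0) := by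
  decide +kernel

theorem stab_sq (B : A3) (hd : B.det = 1) (hB : B *ᵥ E0 = E0) :
    ∃ x y a b c d, (mk6 x y a b c d).det = 1 ∧
      (B = mk6 x y a b c d * mk6 x y a b c d ∨ B = mk6 x y a b c d * mk6 x y a b c d * T0) := by
  have e : B = mk6 (B 0 1) (B 0 2) (B 1 1) (B 1 2) (B 2 1) (B 2 2) := by
    have h : ∀ i, B i 0 = E0 i := fun i => by
      rw [← congrFun hB i]
      simp [mulVec, dotProduct, Fin.sum_univ_three, E0]
    ext i j
    fin_cases i <;> fin_cases j <;> simp [mk6, h, E0]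
  rw [e] at hd ⊢
  exact stab_sq_aux _ _ _ _ _ _ hd

theorem invol_T0_aux : ∀ x y a b c d e f k : ZMod 2, (!![x, y, a; b, c, d; e, f, k] : A3).det = 1 →
    (!![x, y, a; b, c, d; e, f, k] : A3) * !![x, y, a; b, c, d; e, f, k] = 1 →
    (!![x, y, a; b, c, d; e, f, k] : A3) ≠ 1 →
    ∃ p q r s t u v w z : ZMod 2, (!![p, q, r; s, t, u; v, w, z] : A3).det = 1 ∧
      T0 * !![p, q, r; s, t, u; v, w, z] =
        (!![p, q, r; s, t, u; v, w, z] : A3) * !![x, y, a; b, c, d; e, f, k] := by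
  decide +kernel

theorem invol_T0 (B : A3) (hd : B.det = 1) (h2 : B * B = 1) (h1 : B ≠ 1) :
    ∃ Pm : A3, Pm.det = 1 ∧ T0 * Pm = Pm * B := by
  have e : B = !![B 0 0, B 0 1, B 0 2; B 1 0, B 1 1, B 1 2; B 2 0, B 2 1, B 2 2] := by
    ext i j
    fin_cases i <;> fin_cases j <;> rfl
  rw [e] at hd h2 h1 ⊢
  obtain ⟨p, q, r, s, t, u, v, w, z, hp, hP⟩ := invol_T0_aux _ _ _ _ _ _ _ _ _ hd h2 h1
  exact ⟨_, hp, hP⟩

/-- A second element of order four. -/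
def Im : S2 := ⟨!![1, 1; 1, -1], by decide⟩

theorem Im_sq : Im * Im = ng := by decide +kernel

theorem quat_count : Nat.card {a : S2 // a ∈ [1, Jm, Im, Im * Jm]} = 4 ∧
    Nat.card {b : S2 // b ^ 4 = 1} = 8 ∧ Nat.card S2 = 24 := by
  simp only [Nat.card_eq_fintype_card]
  decide +kernel

theorem quat_reps : ∀ a : S2, a ^ 4 = 1 → a ∈ [1, Jm, Im, Im * Jm] ∨ ng * a ∈ [1, Jm, Im, Im * Jm] := by
  decide +kernel

theorem IJ_facts : Jm * Im * (Jm * Im) = ng ∧ Jm ^ 4 = 1 ∧ Im ^ 4 = 1 := by decide +kernel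

theorem quat_comm : ∀ x q : S2, x ^ 4 = 1 → q ^ 4 = 1 →
    x * q * x⁻¹ * q⁻¹ = 1 ∨ x * q * x⁻¹ * q⁻¹ = ng := by decide +kernel

theorem four_pm : ∀ a : S2, a ^ 4 = 1 ∨ a ^ 4 = ng → a ^ 4 = 1 := by decide +kernel

theorem four_mul : ∀ a : S2, a ^ 4 = 1 → ∀ b : S2, b ^ 4 = 1 → (a * b) ^ 4 = 1 := by decide +kernel

theorem four_dc : ∀ c : S2, c ^ 4 = 1 → dc c ^ 4 = 1 := by decide +kernel

theorem cent_quat : ∀ a : S2, a * Jm = Jm * a → a * Im = Im * a → a = 1 ∨ a = ng := by decide +kernel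

end Cfsg.Lib.GTwoType
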