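import Cfsg.Agent.Lib.GTwoType.Transport

/-!
# Every core of a root element has order 243
-/

set_option autoImplicit false

namespace Cfsg.Lib.GTwoType

open Subgroup Cfsg

theorem cases_three {G : Type*} [Group G] [Finite G] {K : Subgroup G} (hK : Nat.card K = 3) {x : G} (hx : x ∈ K)
    (h1 : x ≠ 1) {q : G} (hq : q ∈ K) : q = 1 ∨ q = x ∨ q = x⁻¹ := by
  haveI : Fact (Nat.Prime 3) := ⟨Nat.prime_three⟩
  have hx3 : x ^ 3 = 1 := by
    have := pow_card_eq_one' (x := (⟨x, hx⟩ : K))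
    rw [hK] at this
    exact congrArg Subtype.val this
  have ho : orderOf x = 3 := orderOf_eq_prime hx3 h1
  have he : zpowers x = K := eq_of_le_of_card_ge (zpowers_le.2 hx) (by rw [hK, Nat.card_zpowers, ho])
  rw [← he] at hq
  obtain ⟨k, rfl⟩ := mem_zpowers_iff.1 hq
  have h3 : x ^ (3 : ℤ) = 1 := by exact_mod_cast hx3
  obtain ⟨q, r, hr, rfl⟩ : ∃ q r : ℤ, (r = 0 ∨ r = 1 ∨ r = -1) ∧ k = 3 * q + r :=
    ⟨(k + 1) / 3, (k + 1) % 3 - 1, by omega, by omega⟩
  rw [zpow_add, zpow_mul, h3, one_zpow, one_mul]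
  rcases hr with rfl | rfl | rfl <;> simp

theorem norm_of_le {G : Type*} [Group G] [Finite G] {K : Subgroup G} {g : G}
    (h : K ≤ K.comap (MulAut.conj g).toMonoidHom) : g ∈ normalizer (K : Set G) := by
  have he : K.map (MulAut.conj g).toMonoidHom = K := eq_of_le_of_card_ge (map_le_iff_le_comap.2 h)
    (le_of_eq (Nat.card_congr (K.equivMapOfInjective _ (MulAut.conj g).injective).toEquiv))
  refine mem_normalizer_iff.2 fun x => ⟨fun hx => h hx, fun hx => ?_⟩
  have hx' : g * x * g⁻¹ ∈ K.map (MulAut.conj g).toMonoidHom := he.symm ▸ hx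
  obtain ⟨y, hy, e⟩ := hx'
  have : y = x := (MulAut.conj g).injective (e.trans (MulAut.conj_apply g x).symm)
  exact this ▸ hy

namespace Mdl

variable {G : Type*} [Group G] [Finite G] {z τ : G} (m : Mdl z τ)
include m

/-- The frame extended by the fixed part. -/
def A : Subgroup G := m.EE ⊔ m.T

omit [Finite G] in
theorem EE_le_A : m.EE ≤ m.A := le_sup_left

theorem T_le_A : m.T ≤ m.A := le_sup_right

theorem T_comm_EE (hTb : m.T ≤ centralizer ({m.b} : Set G)) {p q : G} (hp : p ∈ m.EE) (hq : q ∈ m.T) :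
    Commute p q := by
  have hle : m.EE ≤ centralizer ({q} : Set G) :=
    m.EE_le (mem_centralizer_singleton_iff.2 (V_comm (m.T_le hq)).symm.eq)
      (mem_centralizer_singleton_iff.2 (Commute.symm (mem_centralizer_singleton_iff.1 (hTb hq))).eq)
  exact mem_centralizer_singleton_iff.1 (hle hp)

theorem mem_A (hTb : m.T ≤ centralizer ({m.b} : Set G)) {g : G} (hg : g ∈ m.A) :
    ∃ p ∈ m.EE, ∃ q ∈ m.T, g = p * q := by
  rw [A, sup_eq_closure] at hg
  induction hg using closure_induction with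
  | mem g hg =>
    rcases hg with h | h
    · exact ⟨g, h, 1, one_mem _, (mul_one g).symm⟩
    · exact ⟨1, one_mem _, g, h, (one_mul g).symm⟩
  | one => exact ⟨1, one_mem _, 1, one_mem _, (mul_one 1).symm⟩
  | mul a b _ _ iha ihb =>
    obtain ⟨p, hp, q, hq, rfl⟩ := iha
    obtain ⟨p', hp', q', hq', rfl⟩ := ihb
    refine ⟨p * p', mul_mem hp hp', q * q', mul_mem hq hq', ?_⟩
    calc p * q * (p' * q') = p * (q * p') * q' := by group
      _ = p * (p' * q) * q' := by rw [(m.T_comm_EE hTb hp' hq).eq]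
      _ = _ := by group
  | inv a _ iha =>
    obtain ⟨p, hp, q, hq, rfl⟩ := iha
    exact ⟨p⁻¹, inv_mem hp, q⁻¹, inv_mem hq, by rw [mul_inv_rev, (m.T_comm_EE hTb hp hq).inv_inv.eq]⟩

theorem A_fix_z (hTb : m.T ≤ centralizer ({m.b} : Set G)) {g : G} (hg : g ∈ m.A) (hz : Commute z g) :
    g ∈ m.EE := by
  obtain ⟨p, hp, q, hq, rfl⟩ := m.mem_A hTb hg
  have hzq : Commute z q := by
    have := (m.EE_props hp).1.inv_right.mul_right hz
    rwa [inv_mul_cancel_left] at this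
  have hi := m.T_inverted hq
  rw [hzq.eq, mul_assoc, m.zz, mul_one] at hi
  rw [sq_one_odd (odd_of_mem_V (m.T_le hq)) (eq_inv_iff_mul_eq_one.1 hi), mul_one]
  exact hp

theorem A_fix_tau (hTb : m.T ≤ centralizer ({m.b} : Set G)) {g : G} (hg : g ∈ m.A) (ht : Commute τ g) :
    g ∈ m.T := by
  obtain ⟨p, hp, q, hq, rfl⟩ := m.mem_A hTb hg
  have htp : Commute τ p := by
    have := ht.mul_right (m.mem_T.1 hq).2.symm.inv_right
    rwa [mul_inv_cancel_right] at this
  have hi := (m.EE_props hp).2.2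
  rw [htp.eq, mul_assoc, m.tt, mul_one] at hi
  rw [sq_one_odd (odd_of_cube (m.EE_props hp).2.1) (eq_inv_iff_mul_eq_one.1 hi), one_mul]
  exact hq

/-- The data of a fixed element with small cores. -/
structure Small (x : G) : Prop where
  ctx : Ctx G
  three : ∀ (z' τ' : G) (m' : Mdl z' τ'), Nat.card m'.T = 3
  xT : x ∈ m.T
  x1 : x ≠ 1
  Tb : m.T ≤ centralizer ({m.b} : Set G)

variable {m}

theorem Small.swap {x : G} (h : Small m x) : Small m.swap x ∧ m.swap.T = m.T ∧ m.swap.A = m.A := by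
  have hTB : m.TB = m.T := inf_eq_left.2 h.Tb
  have e : m.swap.T = m.T := by
    refine (eq_of_le_of_card_ge (?_ : m.T ≤ m.swap.T) (by rw [h.three, h.three])).symm
    exact hTB.ge.trans (m.TB_le_swap.trans inf_le_left)
  refine ⟨⟨h.ctx, h.three, e ▸ h.xT, h.x1, ?_⟩, e, ?_⟩
  · rw [e]
    exact fun q hq => mem_centralizer_singleton_iff.2 (V_comm (m.T_le hq)).eq
  · have hE : m.swap.EE = m.EE :=
      le_antisymm (m.swap.EE_le m.b_mem m.a_mem) (m.EE_le m.swap.b_mem m.swap.a_mem)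
    rw [A, A, hE, e]

theorem Small.T_eq {x : G} (h : Small m x) {q : G} (hq : q ∈ m.T) : q = 1 ∨ q = x ∨ q = x⁻¹ :=
  cases_three (h.three _ _ m) h.xT h.x1 hq

theorem Small.not_twist {x : G} (h : Small m x) {y : G} (hy : y ∈ m.U) (hb : Commute y m.b) : y = 1 := by
  by_contra h1
  have hU : m.twist.TB = m.twist.T := by
    refine eq_of_le_of_card_ge inf_le_left ?_
    rw [h.three]
    have hne : m.twist.TB ≠ ⊥ := fun he => h1 (by
      have := m.twist.mem_TB.2 ⟨hy, hb⟩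
      rwa [he, mem_bot] at this)
    have hd := card_dvd_of_le (inf_le_left : m.twist.TB ≤ m.twist.T)
    rw [h.three] at hd
    rcases (Nat.dvd_prime Nat.prime_three).1 hd with e | e
    · exact absurd (card_eq_one.1 e) hne
    · exact e.ge
  have hbot := m.swap.not_all_fixed fun v hv => by
    obtain ⟨c, hc, p, hp, -, q, hq, -, rfl⟩ :=
      m.decomp le_rfl m.a_mem_V (fun _ => m.z_norm) (fun _ => m.tau_norm) (v := v) hv
    obtain ⟨k, rfl⟩ := mem_zpowers_iff.1 hc
    exact ((m.a_b.zpow_left k).mul_left (mem_centralizer_singleton_iff.1 (h.Tb hp))).mul_left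
      (m.twist.mem_TB.1 (hU.ge hq)).2
  have hx := h.xT
  rw [show m.T = ⊥ from hbot, mem_bot] at hx
  exact h.x1 hx

theorem Small.n_props {x : G} (h : Small m x) : m.i₂ Jm * x * (m.i₂ Jm)⁻¹ ∈ m.U ∧
    ¬ Commute (m.i₂ Jm * x * (m.i₂ Jm)⁻¹) m.b := by
  refine ⟨m.j_T.1 h.xT, fun hc => h.x1 ?_⟩
  have := h.not_twist (m.j_T.1 h.xT) hc
  simpa using this

/-- The element fixed by the third involution normalises the extended frame. -/
theorem Small.normalises {x : G} (h : Small m x) :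
    m.i₂ Jm * x * (m.i₂ Jm)⁻¹ ∈ normalizer (m.A : Set G) := by
  obtain ⟨hn, hnb⟩ := h.n_props
  set n := m.i₂ Jm * x * (m.i₂ Jm)⁻¹
  have hnV := m.U_le hn
  have hn1 : n ≠ 1 := fun e => hnb (e ▸ Commute.one_left _)
  have hn3 := m.twist.T_cube h.ctx hn
  have hU3 : ∀ y ∈ m.U, y = 1 ∨ y = n ∨ y = n⁻¹ := fun y hy => cases_three (h.three _ _ m.twist) hn hn1 hy
  obtain ⟨c, hc, q, hq, -, y, hy, -, hv⟩ :=
    m.decomp le_rfl m.a_mem_V (fun _ => m.z_norm) (fun _ => m.tau_norm) (m.V_conj_a m.a_b hnV)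
  have hbc : Commute m.b c := by
    obtain ⟨k, rfl⟩ := mem_zpowers_iff.1 hc
    exact m.a_b.symm.zpow_right k
  have hbq : Commute m.b q := (mem_centralizer_singleton_iff.1 (h.Tb hq) : Commute q m.b).symm
  have hbM := hbc.mul_right hbq
  rcases hU3 y hy with rfl | rfl | rfl
  · exfalso
    rw [mul_one] at hv
    refine hnb ?_
    have e : n = c * q := by
      calc n = m.b⁻¹ * (m.b * n * m.b⁻¹) * m.b := by group
        _ = c * q := by rw [hv, mul_assoc, ← hbM.eq, inv_mul_cancel_left]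
    rw [e]
    exact hbM.symm
  · have hM : c * q ∈ m.A :=
      mul_mem (m.EE_le_A ((zpowers_le.2 m.a_mem) hc)) (m.T_le_A hq)
    refine norm_of_le (sup_le (m.EE_le ?_ ?_) fun p hp => ?_)
    · show n * m.a * n⁻¹ ∈ m.A
      rw [(V_comm hnV).eq, mul_inv_cancel_right]
      exact m.EE_le_A m.a_mem
    · show n * m.b * n⁻¹ ∈ m.A
      have e : n * m.b * n⁻¹ = (c * q)⁻¹ * m.b := by
        calc n * m.b * n⁻¹ = (c * q)⁻¹ * (c * q * n) * m.b * n⁻¹ := by group
          _ = (c * q)⁻¹ * m.b := by rw [← hv]; group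
      rw [e]
      exact mul_mem (inv_mem hM) (m.EE_le_A m.b_mem)
    · show n * p * n⁻¹ ∈ m.A
      rw [show n * p * n⁻¹ = (n * p * n⁻¹ * p⁻¹) * p by group]
      exact mul_mem (m.EE_le_A ((zpowers_le.2 m.a_mem) (m.comm_mem hnV (m.T_le hp)))) (m.T_le_A hp)
  · exfalso
    set d := q * n * q⁻¹ * n⁻¹ with hd
    have hdm : d ∈ zpowers m.a := m.comm_mem (m.T_le hq) hnV
    have hbb : m.b * m.b = m.b⁻¹ := eq_inv_of_mul_eq_one_left (by rw [← pow_two, ← pow_succ, m.b_props.2.1])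
    have h1 : m.b⁻¹ * n * m.b = d * n := by
      calc m.b⁻¹ * n * m.b = m.b * (m.b * n * m.b⁻¹) * m.b⁻¹ := by
            rw [show m.b * (m.b * n * m.b⁻¹) * m.b⁻¹ = m.b * m.b * n * (m.b * m.b)⁻¹ by group, hbb, inv_inv]
        _ = m.b * (c * q) * (n⁻¹ * m.b⁻¹) := by rw [hv]; group
        _ = c * q * m.b * (n⁻¹ * m.b⁻¹) := by rw [hbM.eq]
        _ = c * q * (m.b * n * m.b⁻¹)⁻¹ := by group
        _ = c * (q * n * q⁻¹) * c⁻¹ := by rw [hv]; group
        _ = (c * d) * n * c⁻¹ := by rw [hd]; group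
        _ = d * (c * n) * c⁻¹ := by
          rw [(m.a_central ((zpowers_le.2 m.a_mem_V) hc) hdm).eq]; group
        _ = d * n := by rw [← (m.a_central hnV hc).eq]; group
    have hbd : Commute m.b d := by
      obtain ⟨k, hk⟩ := mem_zpowers_iff.1 hdm
      exact hk ▸ m.a_b.symm.zpow_right k
    have h2 : c * q * n⁻¹ = d⁻¹ * 1 * n := by
      rw [← hv]
      calc m.b * n * m.b⁻¹ = d⁻¹ * (d * m.b) * n * m.b⁻¹ := by group
        _ = d⁻¹ * (m.b * (d * n) * m.b⁻¹) := by rw [← hbd.eq]; group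
        _ = d⁻¹ * 1 * n := by rw [← h1]; group
    obtain ⟨-, -, e⟩ := m.normal_form hc (inv_mem hdm) hq (one_mem _) (inv_mem hn) hn h2
    exact hn1 (sq_one_odd (odd_of_mem_V hnV) (inv_eq_iff_mul_eq_one.1 e))

/-- The first moved copy of the fixed element. -/
theorem Small.n_mem {x : G} (h : Small m x) {n : G} (hn : n = m.i₂ Jm * x * (m.i₂ Jm)⁻¹) :
    Commute (z * τ) n ∧ n ^ 3 = 1 ∧ z * n * z = n⁻¹ ∧ n ∈ normalizer (m.A : Set G) ∧ ¬ Commute n m.b ∧
      Commute n m.a := by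
  subst hn
  obtain ⟨h1, h2⟩ := h.n_props
  exact ⟨(m.mem_U.1 h1).2.symm, m.twist.T_cube h.ctx h1, m.U_inverted h1, h.normalises, h2, V_comm (m.U_le h1)⟩

theorem Small.moved_comm {x : G} (h : Small m x) {n₁ n₂ : G} (e₁ : n₁ = m.i₂ Jm * x * (m.i₂ Jm)⁻¹)
    (e₂ : n₂ = m.i₁ Jm * x * (m.i₁ Jm)⁻¹) : Commute n₁ n₂ := by
  obtain ⟨hs, -, hA⟩ := h.swap
  obtain ⟨c₁, q₁, i₁', N₁, -, -⟩ := h.n_mem e₁
  obtain ⟨c₂, q₂, i₂', N₂, -, -⟩ := hs.n_mem e₂
  rw [hA] at N₂
  obtain ⟨m2⟩ := h.ctx.symm m.twist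
  obtain ⟨p, q, hp, hq, f₁⟩ := m2.five_rep c₁ q₁ i₁'
  obtain ⟨p', q', hp', hq', f₂⟩ := m2.five_rep c₂ q₂ i₂'
  by_contra hnc
  have hbad := bad_word _ hp _ hq _ hp' _ hq' fun k => hnc (by
    rw [f₁, f₂]; show _ * _ = _ * _; rw [m2.mul_pair, m2.mul_pair, k.1, k.2])
  have hwN : word n₁ n₂ ∈ normalizer (m.A : Set G) :=
    mul_mem (mul_mem (mul_mem (mul_mem (mul_mem (mul_mem N₁ N₂) N₁) N₂) (inv_mem N₁)) N₂) (inv_mem N₁)
  set w := word n₁ n₂
  have hwe : w = m2.i₁ (word p p') * m2.i₂ (word q q') := by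
    show word n₁ n₂ = _
    rw [f₁, f₂, m2.word_pair]
  have hwA : ∀ g ∈ m.A, w * g * w⁻¹ ∈ m.A := fun g hg => (mem_normalizer_iff.1 hwN g).1 hg
  have hzz : z * τ * z = τ := by rw [m.z_tau.eq, mul_assoc, m.zz, mul_one]
  rcases bad_cases _ _ hbad with ⟨d1, d2, j1, j2⟩ | k
  · have hwz : Commute z w := by
      show z * w = w * z
      rw [hwe, m2.tau_move, d1, d2, m2.ng_pair₂]
    have hwt : Commute τ w := by
      have h' : Commute (z * τ) w := hwe ▸ m2.mem_cent _ _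
      exact hzz ▸ h'.mul_left hwz
    obtain ⟨c, d, hcd, hce⟩ := m.cent_four hwz hwt
    rcases hcd with ⟨hc, hd⟩ | ⟨hc, -⟩
    · have hfour : w = 1 ∨ w = z ∨ w = τ ∨ w = z * τ := by
        rcases hce with e | e <;> rcases hc with rfl | rfl <;> rcases hd with rfl | rfl <;>
          simp [m.neg₁, m.neg₂, m.zz] at e <;> simp [e]
      rcases hfour with e | e | e | e <;> rw [hwe] at e
      · rcases m2.ker _ _ e with ⟨u, -⟩ | ⟨u, -⟩
        exacts [(J_pm _ j1).1 u, (J_pm _ j1).2.1 u]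
      · exact m2.out _ _ e
      · refine m2.not_outer (c := ng) (d := 1) (e.trans ?_)
        rw [m2.neg₁, map_one, mul_one, hzz]
      · have e' : m2.i₁ (word p p') * m2.i₂ (word q q') = m2.i₁ ng * m2.i₂ 1 := by
          rw [m2.neg₁, map_one, mul_one]; exact e
        rcases m2.pair_eq e' with ⟨u, -⟩ | ⟨u, -⟩
        exacts [(J_pm _ j1).2.1 u, (J_pm _ j1).1 (by rw [u, ng_sq])]
    · have hwa := hwA _ (m.EE_le_A m.a_mem)
      have hin := m.A_fix_z h.Tb hwa ((hwz.mul_right m.a_props.1).mul_right hwz.inv_right)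
      have hp' : (m.i₁ c * m.i₂ d) * m.a * (m.i₁ c * m.i₂ d)⁻¹ ∈ m.EE := by
        rcases hce with e | e
        · rw [← e]; exact hin
        · have he : w * m.a * w⁻¹ = ((m.i₁ c * m.i₂ d) * m.a * (m.i₁ c * m.i₂ d)⁻¹)⁻¹ := by
            rw [e]
            calc m.i₁ c * m.i₂ d * τ * m.a * (m.i₁ c * m.i₂ d * τ)⁻¹
                = m.i₁ c * m.i₂ d * (τ * m.a * τ⁻¹) * (m.i₁ c * m.i₂ d)⁻¹ := by group
              _ = _ := by rw [m.tau_inv, m.a_props.2.2]; group
          rw [he] at hin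
          simpa using inv_mem hin
      have hcm := m.EE_comm hp' m.a_mem
      have ea : m.i₁ Um = m.i₁ Um * m.i₂ 1 := by rw [map_one, mul_one]
      change Commute (_ * m.i₁ Um * _) (m.i₁ Um) at hcm
      rw [ea, m.inv_pair, m.mul_pair, m.mul_pair] at hcm
      rcases m.pair_comm hcm with ⟨u, -⟩ | ⟨u, -⟩
      exacts [(J_pm _ hc).2.2.1 u, (J_pm _ hc).2.2.2 u]
  · have hmv := m2.bad_move k
    rw [← hwe, hzz] at hmv
    have hle : Nat.card m.EE ≤ Nat.card m.T := by
      refine Nat.card_le_card_of_injective (fun p => (⟨w * p * w⁻¹, ?_⟩ : m.T)) fun p q e => ?_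
      · refine m.A_fix_tau h.Tb (hwA _ (m.EE_le_A p.2)) ?_
        have := (m.EE_props p.2).1.map (MulAut.conj w).toMonoidHom
        simp only [MulEquiv.coe_toMonoidHom, MulAut.conj_apply] at this
        rwa [hmv] at this
      · exact Subtype.ext (mul_left_cancel (mul_right_cancel (congrArg Subtype.val e)))
    rw [m.card_EE, h.three] at hle
    omega

theorem Small.fix_x {x : G} (h : Small m x) {n₁ n₂ : G} (e₁ : n₁ = m.i₂ Jm * x * (m.i₂ Jm)⁻¹)
    (e₂ : n₂ = m.i₁ Jm * x * (m.i₁ Jm)⁻¹) : Commute n₁ x := by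
  obtain ⟨hs, -, hA⟩ := h.swap
  have hc := h.moved_comm e₁ e₂
  obtain ⟨-, -, -, -, -, hn₁a⟩ := h.n_mem e₁
  obtain ⟨-, h3, hi, N₂, hnb, -⟩ := hs.n_mem e₂
  rw [hA] at N₂
  obtain ⟨p, hp, q, hq, e⟩ := m.mem_A h.Tb ((mem_normalizer_iff.1 N₂ _).1 (m.EE_le_A m.a_mem))
  have hza : z * m.a * z = m.a := by rw [m.a_props.1.eq, mul_assoc, m.zz, mul_one]
  have e' : n₂⁻¹ * m.a * n₂ = p * q⁻¹ := by
    calc n₂⁻¹ * m.a * n₂ = (z * n₂ * z) * (z * m.a * z) * (z * n₂ * z)⁻¹ := by rw [hi, hza, inv_inv]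
      _ = z * (n₂ * (z * z) * m.a * n₂⁻¹) * z⁻¹ := by group
      _ = z * (p * q) * z := by rw [m.zz, mul_one, e, m.z_inv]
      _ = (z * p * z) * (z * q * z) := by
        calc z * (p * q) * z = z * p * (z * z) * q * z := by rw [m.zz]; group
          _ = _ := by group
      _ = p * q⁻¹ := by rw [m.T_inverted hq, (m.EE_props hp).1.eq, mul_assoc p, m.zz, mul_one]
  have hq1 : q ≠ 1 := fun hq1 => hnb (by
    rw [hq1, inv_one, mul_one] at e'
    rw [hq1, mul_one] at e
    have h2 : Commute (n₂ * n₂) m.a := by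
      show n₂ * n₂ * m.a = m.a * (n₂ * n₂)
      calc n₂ * n₂ * m.a = n₂ * (n₂ * m.a * n₂⁻¹) * n₂ := by group
        _ = m.a * (n₂ * n₂) := by rw [e, ← e']; group
    have := h2.mul_left h2
    rwa [show n₂ * n₂ * (n₂ * n₂) = n₂ ^ 3 * n₂ by simp [pow_succ, mul_assoc], h3, one_mul] at this)
  have c1 : Commute n₁ (p * q) := e ▸ (hc.mul_right hn₁a).mul_right hc.inv_right
  have c2 : Commute n₁ (p * q⁻¹) := e' ▸ (hc.inv_right.mul_right hn₁a).mul_right hc
  have c3 := c2.inv_right.mul_right c1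
  rw [mul_inv_rev, inv_inv, mul_assoc, inv_mul_cancel_left] at c3
  have hqq : q * q = q⁻¹ := eq_inv_of_mul_eq_one_left (by rw [← pow_two, ← pow_succ, m.T_cube h.ctx hq])
  rw [hqq] at c3
  rcases h.T_eq hq with rfl | rfl | rfl
  · exact absurd rfl hq1
  · simpa using c3.inv_right
  · simpa using c3

theorem Small.false {x : G} (h : Small m x) : False := by
  haveI : Fact (Nat.Prime 3) := ⟨Nat.prime_three⟩
  obtain ⟨m', hm'⟩ := m.T_props h.ctx
  obtain ⟨hxV, hxτ⟩ := m.mem_T.1 h.xT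
  have hxi := m.T_inverted h.xT
  have hx2 : x * x ≠ 1 := fun e => h.x1 (sq_one_odd (odd_of_mem_V hxV) e)
  have hxa : Commute x m.a := V_comm hxV
  have hxb : Commute x m.b := mem_centralizer_singleton_iff.1 (h.Tb h.xT)
  obtain ⟨i, j, hi, hj, ex⟩ := (m'.root_or_diag (hm' h.xT) h.x1).resolve_left (by
    rintro ⟨m'', e⟩
    have h9 := m.root_step h.ctx m'' (e ▸ hxa) (e ▸ hxb)
    rw [h.three] at h9
    omega)
  have hu : ∀ g, Commute τ g → Commute x g → g * g = 1 → g = 1 ∨ g = τ := fun g h1 h2 h3 =>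
    (m'.diag_cent hi hj h1 (ex ▸ h2)).2 h3
  set n₁ := m.i₂ Jm * x * (m.i₂ Jm)⁻¹ with e₁
  set n₂ := m.i₁ Jm * x * (m.i₁ Jm)⁻¹ with e₂
  obtain ⟨hs, -, -⟩ := h.swap
  obtain ⟨a1, a2, a3, -, a5, -⟩ := h.n_mem e₁
  obtain ⟨b1, b2, b3, -, -, b6⟩ := hs.n_mem e₂
  have hc12 := h.moved_comm e₁ e₂
  have hxn₁ := h.fix_x e₁ e₂
  have hxn₂ : Commute n₂ x := hs.fix_x (n₁ := n₂) (n₂ := n₁) e₂ e₁
  set K := closure ({n₁, n₂} : Set G)
  have hKc : ∀ g ∈ K, Commute g n₁ ∧ Commute g n₂ := by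
    intro g hg
    have h1 : K ≤ centralizer {n₁} := (closure_le _).2 (by
      rintro _ (rfl | rfl)
      exacts [mem_centralizer_singleton_iff.2 rfl, mem_centralizer_singleton_iff.2 hc12.eq.symm])
    have h2 : K ≤ centralizer {n₂} := (closure_le _).2 (by
      rintro _ (rfl | rfl)
      exacts [mem_centralizer_singleton_iff.2 hc12.eq, mem_centralizer_singleton_iff.2 rfl])
    exact ⟨mem_centralizer_singleton_iff.1 (h1 hg), mem_centralizer_singleton_iff.1 (h2 hg)⟩
  have hKK : ∀ g ∈ K, ∀ g' ∈ K, Commute g g' := by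
    intro g hg g' hg'
    have h1 : K ≤ centralizer {g} := (closure_le _).2 (by
      rintro _ (rfl | rfl)
      exacts [mem_centralizer_singleton_iff.2 (hKc g hg).1.eq.symm,
        mem_centralizer_singleton_iff.2 (hKc g hg).2.eq.symm])
    exact (mem_centralizer_singleton_iff.1 (h1 hg')).symm
  have hK : ∀ g ∈ K, Commute (z * τ) g ∧ g ^ 3 = 1 ∧ z * g * z = g⁻¹ := by
    intro g hg
    induction hg using closure_induction with
    | mem g hg =>
      rcases hg with rfl | rfl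
      exacts [⟨a1, a2, a3⟩, ⟨b1, b2, b3⟩]
    | one => exact ⟨Commute.one_right _, one_pow 3, by rw [mul_one, m.zz, inv_one]⟩
    | mul a b ha hb iha ihb =>
      have hab := hKK a ha b hb
      refine ⟨iha.1.mul_right ihb.1, by rw [hab.mul_pow, iha.2.1, ihb.2.1, mul_one], ?_⟩
      calc z * (a * b) * z = z * a * (z * z) * b * z := by rw [m.zz]; group
        _ = (z * a * z) * (z * b * z) := by group
        _ = (a * b)⁻¹ := by rw [iha.2.2, ihb.2.2, hab.eq, mul_inv_rev]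
    | inv a _ iha =>
      refine ⟨iha.1.inv_right, by rw [inv_pow, iha.2.1, inv_one], ?_⟩
      calc z * a⁻¹ * z = (z⁻¹ * a * z⁻¹)⁻¹ := by group
        _ = a⁻¹⁻¹ := by rw [m.z_inv, iha.2.2]
  obtain ⟨m2⟩ := h.ctx.symm m.twist
  obtain ⟨m3, hm3⟩ := m2.exists_EE K hK
  have hn12 : n₁ ∉ zpowers n₂ := by
    intro hmem
    obtain ⟨k, hk⟩ := mem_zpowers_iff.1 hmem
    exact a5 (hk ▸ (b6.zpow_left k : Commute (n₂ ^ k) m.swap.a))
  have hn₂ : n₂ ≠ 1 := fun e => h.x1 (by
    have := congrArg (fun g => (m.i₁ Jm)⁻¹ * g * m.i₁ Jm) (e₂.symm.trans e)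
    simpa [mul_assoc] using this)
  have hK3 : K = m3.EE := by
    refine eq_of_le_of_card_ge hm3 ?_
    have hlt : zpowers n₂ < K := lt_of_le_of_ne (zpowers_le.2 (subset_closure (by simp)))
      fun e => hn12 (by rw [e]; exact subset_closure (by simp))
    have hd := card_dvd_of_le hm3
    rw [m3.card_EE, show 9 = 3 ^ 2 by norm_num] at hd ⊢
    obtain ⟨k, hk, ek⟩ := (Nat.dvd_prime_pow Nat.prime_three).1 hd
    have h3 : 3 < Nat.card K := by
      have h' := card_dvd_of_le hlt.le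
      rw [Nat.card_zpowers, orderOf_eq_prime b2 hn₂] at h'
      refine lt_of_le_of_ne (Nat.le_of_dvd Nat.card_pos h') fun e => hlt.ne (eq_of_le_of_card_ge hlt.le ?_)
      rw [← e, Nat.card_zpowers, orderOf_eq_prime b2 hn₂]
    rw [ek] at h3 ⊢
    all_goals interval_cases k
    all_goals first | exact le_refl _ | norm_num at h3
  obtain ⟨g, hg1, hg2, hg3⟩ := m3.transport h.ctx m
  have hzz : z * τ * z = τ := by rw [m.z_tau.eq, mul_assoc, m.zz, mul_one]
  have hxK : ∀ q ∈ m3.EE, Commute x q := by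
    intro q hq
    rw [← hK3] at hq
    have : K ≤ centralizer {x} := (closure_le _).2 (by
      rintro _ (rfl | rfl)
      exacts [mem_centralizer_singleton_iff.2 hxn₁.eq, mem_centralizer_singleton_iff.2 hxn₂.eq])
    exact (mem_centralizer_singleton_iff.1 (this hq)).symm
  -- the frame of the second involution centralises the images
  have main : ∀ f : G, f * τ * f⁻¹ = z * τ → f * z * f⁻¹ = z → f * x * f⁻¹ ∈ K →
      ∀ q ∈ m'.EE, Commute (g * (f * x * f⁻¹) * g⁻¹) q := by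
    intro f hfτ hfz hfK
    set p := g * (f * x * f⁻¹) * g⁻¹ with hp
    have hpE : p ∈ m.EE := hg3 _ (hm3 hfK)
    set k := g * f with hk
    have kx : k * x * k⁻¹ = p := by rw [hk, hp]; group
    have kτ : k * τ * k⁻¹ = z := by rw [hk, ← hg1, ← hfτ]; group
    have kz : k * z * k⁻¹ = g * z * g⁻¹ := by
      rw [hk, show g * f * z * (g * f)⁻¹ = g * (f * z * f⁻¹) * g⁻¹ by group, hfz]
    obtain ⟨F, w, hw, hF9, hFw, hFu⟩ : ∃ (F : Subgroup G) (w : G), k * w * k⁻¹ = τ ∧ Nat.card F = 9 ∧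
        (∀ q ∈ F, Commute w q ∧ q ^ 3 = 1 ∧ τ * q * τ = q⁻¹ ∧ Commute x q ∧ ∀ q' ∈ F, Commute q q') ∧
        ∀ q, Commute w q → q ^ 3 = 1 → τ * q * τ = q⁻¹ → Commute x q → q ∈ F := by
      have hEx : ∀ q ∈ m.EE, Commute x q := fun q hq => (m.T_comm_EE h.Tb hq h.xT).symm
      rcases hg2 with e | e
      · refine ⟨m.EE, z, kz.trans e, m.card_EE, fun q hq => ?_, fun q q1 q2 q3 q4 => ?_⟩
        · obtain ⟨u1, u2, u3⟩ := m.EE_props hq
          exact ⟨u1, u2, u3, hEx q hq, fun q' hq' => m.EE_comm hq hq'⟩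
        · exact m.frame_unique hxτ.symm hxi hx2 hxa hxb hu q1 q2 q3 q4
      · refine ⟨m3.EE, z * τ, ?_, m3.card_EE, fun q hq => ?_, fun q q1 q2 q3 q4 => ?_⟩
        · calc k * (z * τ) * k⁻¹ = (k * z * k⁻¹) * (k * τ * k⁻¹) := by group
            _ = z * τ * z := by rw [kz, e, kτ]
            _ = τ := hzz
        · obtain ⟨u1, u2, u3⟩ := m3.twist.EE_props (show q ∈ m3.twist.EE from hq)
          rw [hzz] at u3
          exact ⟨u1, u2, u3, hxK q hq, fun q' hq' => m3.EE_comm hq hq'⟩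
        · have hxi' : z * τ * x * (z * τ) = x⁻¹ := (m.mid hxi).1 (by rw [← hxτ.eq, mul_assoc, m.tt, mul_one])
          exact m3.twist.frame_unique (x := x) (by rw [hzz]; exact hxτ.symm) hxi' hx2 (hxK _ m3.a_mem)
            (hxK _ m3.b_mem) (by rw [hzz]; exact hu) q1 q2 (by rw [hzz]; exact q3) q4
    -- pull an element back
    have back : ∀ q, Commute τ q → q ^ 3 = 1 → z * q * z = q⁻¹ → Commute p q → k⁻¹ * q * k ∈ F := by
      intro q q1 q2 q3 q4
      refine hFu _ ?_ ?_ ?_ ?_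
      · have := q1.map (MulAut.conj k⁻¹).toMonoidHom
        simpa [← hw, mul_assoc] using this
      · rw [show k⁻¹ * q * k = k⁻¹ * q * k⁻¹⁻¹ by rw [inv_inv], conj_pow, q2, mul_one, mul_inv_cancel]
      · have := congrArg (fun g => k⁻¹ * g * k) q3
        simpa [← kτ, mul_assoc] using this
      · have := q4.map (MulAut.conj k⁻¹).toMonoidHom
        simpa [← kx, mul_assoc] using this
    have hxF := back x hxτ.symm (m.T_cube h.ctx h.xT) hxi (m.T_comm_EE h.Tb hpE h.xT)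
    set S := F.map (MulAut.conj k).toMonoidHom
    have hS : S ≤ m'.EE := by
      rintro _ ⟨q, hq, rfl⟩
      obtain ⟨u1, u2, u3, -, u5⟩ := hFw q hq
      simp only [MulEquiv.coe_toMonoidHom, MulAut.conj_apply]
      refine (m'.diag_cent hi hj ?_ ?_).1 ?_ ?_
      · have := u1.map (MulAut.conj k).toMonoidHom
        simpa [hw] using this
      · rw [← ex]
        have := (u5 _ hxF).symm.map (MulAut.conj k).toMonoidHom
        simpa [mul_assoc] using this
      · rw [conj_pow, u2, mul_one, mul_inv_cancel]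
      · rw [← kτ, show k * τ * k⁻¹ * (k * q * k⁻¹) * (k * τ * k⁻¹) = k * (τ * q * τ) * k⁻¹ by group, u3]
        group
    have hSe : S = m'.EE := eq_of_le_of_card_ge hS (by
      rw [m'.card_EE, show Nat.card S = Nat.card F from
        Nat.card_congr (F.equivMapOfInjective _ (MulAut.conj k).injective).toEquiv.symm, hF9])
    intro q hq
    rw [← hSe] at hq
    obtain ⟨r, hr, rfl⟩ := hq
    have := (hFw r hr).2.2.2.1.map (MulAut.conj k).toMonoidHom
    simpa [kx] using this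
  obtain ⟨j1, -, j3, -⟩ := m.j_conj
  obtain ⟨k1, -, k3, -⟩ := m.swap.j_conj
  have hP1 := main (m.i₂ Jm) j1 j3 (subset_closure (by simp [e₁]))
  have hP2 := main (m.i₁ Jm) k1 k3 (subset_closure (by simp [e₂]))
  have hle : m'.EE ≤ m.T := by
    intro q hq
    obtain ⟨u1, u2, u3⟩ := m'.EE_props hq
    have hKq : K ≤ (centralizer {q}).comap (MulAut.conj g).toMonoidHom := (closure_le _).2 (by
      rintro _ (rfl | rfl)
      exacts [mem_centralizer_singleton_iff.2 (hP1 q hq).eq, mem_centralizer_singleton_iff.2 (hP2 q hq).eq])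
    have hgK : m.EE = K.map (MulAut.conj g).toMonoidHom := by
      refine (eq_of_le_of_card_ge ?_ ?_).symm
      · rintro _ ⟨r, hr, rfl⟩
        exact hg3 r (hm3 hr)
      · rw [m.card_EE, show Nat.card (K.map (MulAut.conj g).toMonoidHom) = Nat.card K from
          Nat.card_congr (K.equivMapOfInjective _ (MulAut.conj g).injective).toEquiv.symm, hK3, m3.card_EE]
    have haq : Commute m.a q := mem_centralizer_singleton_iff.1
      ((hgK ▸ map_le_iff_le_comap.2 hKq : m.EE ≤ centralizer {q}) m.a_mem)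
    exact m.mem_T_of haq (odd_of_cube u2) u3 u1.symm
  have := Nat.le_of_dvd Nat.card_pos (card_dvd_of_le hle)
  rw [m'.card_EE, h.three] at this
  omega

end Mdl

/-- Every root element has a core of order 243. -/
theorem Ctx.nine {G : Type*} [Group G] [Finite G] (hG : Ctx G) {z τ : G} (m : Mdl z τ) : Nat.card m.T = 9 := by
  by_contra hne
  have h3 : ∀ (z' τ' : G) (m' : Mdl z' τ'), Nat.card m'.T = 3 := by
    intro z' τ' m'
    rcases m'.card_T hG with e | e | e
    · exfalso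
      have hT : m'.T = ⊥ := card_eq_one.1 e
      have hU : m'.twist.T = ⊥ := card_eq_one.1 (m'.card_U.trans e)
      rcases m'.exists_fixed hG with h | h
      · exact h (le_bot_iff.1 (inf_le_left.trans hT.le))
      · exact h (le_bot_iff.1 (inf_le_left.trans hU.le))
    · exact e
    · exact absurd (m.nine_all hG m' e) hne
  have key : ∀ {τ' : G} (m' : Mdl z τ'), m'.TB ≠ ⊥ → False := by
    intro τ' m' h
    have hle : m'.TB ≤ m'.T := inf_le_left
    have heq : m'.TB = m'.T := by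
      refine eq_of_le_of_card_ge hle ?_
      have hd := card_dvd_of_le hle
      rw [h3] at hd ⊢
      rcases (Nat.dvd_prime Nat.prime_three).1 hd with e | e
      · exact absurd (card_eq_one.1 e) h
      · exact e.ge
    obtain ⟨x, hx, hx1⟩ := (bot_or_exists_ne_one m'.TB).resolve_left h
    exact Mdl.Small.false (m := m') ⟨hG, h3, hle hx, hx1, heq.ge.trans inf_le_right⟩
  exact (m.exists_fixed hG).elim (key m) (key m.twist)

end Cfsg.Lib.GTwoType
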