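import Cfsg.Agent.Lib.GTwoType.Uniform

/-!
# Moving frames and elements of order three with two nontrivial coordinates
-/

set_option autoImplicit false

namespace Cfsg.Lib.GTwoType

open Subgroup Cfsg

/-- The five elements of odd order inverted by the diagonal automorphism. -/
def five : List S2 := [1, Um, Um⁻¹, Lm, Lm⁻¹]

/-- A word that leads out of a frame. -/
def word {M : Type*} [Group M] (p q : M) : M := p * q * p * q * p⁻¹ * q * p⁻¹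

/-- Coordinates that normalise the four group without fixing the frame. -/
def Bad (p q : S2) : Prop :=
  (p ∈ [1, ng, Jm, ng * Jm] ∧ q ∈ [1, ng, Jm, ng * Jm]) ∧ (p ∈ [Jm, ng * Jm] ∨ q ∈ [Jm, ng * Jm])

instance (p q : S2) : Decidable (Bad p q) := by unfold Bad; infer_instance

theorem bad_word : ∀ x ∈ five, ∀ y ∈ five, ∀ x' ∈ five, ∀ y' ∈ five,
    ¬ (x * x' = x' * x ∧ y * y' = y' * y) → Bad (word x x') (word y y') := by decide +kernel

theorem bad_cases : ∀ p q : S2, Bad p q →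
    (dc p = ng * p ∧ dc q = ng * q ∧ (p = Jm ∨ p = ng * Jm) ∧ (q = Jm ∨ q = ng * Jm)) ∨
      (p * (dc p)⁻¹ = ng ∧ q * (dc q)⁻¹ = 1) ∨ (p * (dc p)⁻¹ = 1 ∧ q * (dc q)⁻¹ = ng) := by
  decide +kernel

theorem five_pair : ∀ x ∈ five, ∀ y ∈ five, x * y = y * x →
    (x * Um = Um * x ∧ y * Um = Um * y) ∨ (x * Lm = Lm * x ∧ y * Lm = Lm * y) := by decide +kernel

theorem J_pm : ∀ p : S2, (p = Jm ∨ p = ng * Jm) → p ≠ 1 ∧ p ≠ ng ∧ p * Um * p⁻¹ * Um ≠ Um * (p * Um * p⁻¹) ∧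
    p * Um * p⁻¹ * Um ≠ ng * (Um * (p * Um * p⁻¹)) := by decide +kernel

theorem U_pow_gen : ∀ (c : S2) (i : Fin 3), i ≠ 0 → (c * Um ^ (i : ℕ) = Um ^ (i : ℕ) * c → c * Um = Um * c) ∧
    c * Um ^ (i : ℕ) ≠ ng * (Um ^ (i : ℕ) * c) := by decide +kernel

theorem U_pow_flip : ∀ (c : S2) (i : Fin 3), i ≠ 0 → c * dc (Um ^ (i : ℕ)) ≠ Um ^ (i : ℕ) * c ∧
    c * dc (Um ^ (i : ℕ)) ≠ ng * (Um ^ (i : ℕ) * c) := by decide +kernel

theorem sq_cent_U : ∀ c : S2, c * Um = Um * c → (c * c = 1 ∨ c * c = ng) → c = 1 ∨ c = ng := by decide +kernel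

namespace Mdl

variable {G : Type*} [Group G] [Finite G] {z τ : G} (m : Mdl z τ)
include m

omit [Finite G] in
theorem five_rep {g : G} (h : Commute z g) (h3 : g ^ 3 = 1) (hi : τ * g * τ = g⁻¹) :
    ∃ a b, a ∈ five ∧ b ∈ five ∧ g = m.i₁ a * m.i₂ b := by
  obtain ⟨a, b, ha, hb, da, db, e⟩ := m.inverted_rep h h3 hi
  refine ⟨a, b, ?_, ?_, e⟩
  · rcases inverted a ha da with rfl | rfl | rfl | rfl | rfl <;> simp [five]
  · rcases inverted b hb db with rfl | rfl | rfl | rfl | rfl <;> simp [five]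

omit [Finite G] in
theorem word_pair (x y x' y' : S2) :
    word (m.i₁ x * m.i₂ y) (m.i₁ x' * m.i₂ y') = m.i₁ (word x x') * m.i₂ (word y y') := by
  simp only [word, m.inv_pair, m.mul_pair]

omit [Finite G] in
theorem conj_tau {p q : S2} : m.i₁ p * m.i₂ q * τ * (m.i₁ p * m.i₂ q)⁻¹ =
    m.i₁ (p * (dc p)⁻¹) * m.i₂ (q * (dc q)⁻¹) * τ := by
  rw [m.inv_pair, mul_assoc, m.tau_move, ← mul_assoc, m.mul_pair, dc_inv, dc_inv]

omit [Finite G] in
theorem bad_move {p q : S2} (h : (p * (dc p)⁻¹ = ng ∧ q * (dc q)⁻¹ = 1) ∨ (p * (dc p)⁻¹ = 1 ∧ q * (dc q)⁻¹ = ng)) :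
    m.i₁ p * m.i₂ q * τ * (m.i₁ p * m.i₂ q)⁻¹ = z * τ := by
  rw [m.conj_tau]
  rcases h with ⟨e1, e2⟩ | ⟨e1, e2⟩ <;> rw [e1, e2, map_one]
  · rw [mul_one, m.neg₁]
  · rw [one_mul, m.neg₂]

omit [Finite G] in
/-- Frames can be moved onto frames. -/
theorem transport (hG : Ctx G) {z' τ' : G} (m' : Mdl z' τ') : ∃ g : G, g * z * g⁻¹ = z' ∧
    (g * τ * g⁻¹ = τ' ∨ g * τ * g⁻¹ = z' * τ') ∧ ∀ p ∈ m.EE, g * p * g⁻¹ ∈ m'.EE := by
  obtain ⟨g₀, hg₀⟩ := isConj_iff.1 (hG.one z z' m.orderOf_z m'.orderOf_z)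
  set τ₁ := g₀ * τ * g₀⁻¹ with hτ₁
  have m₁ : Mdl z' τ₁ := hg₀ ▸ m.conjM g₀
  obtain ⟨c, hc, hcτ⟩ := m'.outer_of m₁.z_tau m₁.tt
    (fun h => by have := m₁.orderOf_tau; rw [h, orderOf_one] at this; norm_num at this) m₁.tau_ne
    fun k h1 h2 => m₁.cent_four_invol h1 h2
  have hcz : c⁻¹ * z' * c = z' := by rw [mul_assoc, hc.eq, inv_mul_cancel_left]
  have hzg : c⁻¹ * g₀ * z * (c⁻¹ * g₀)⁻¹ = z' := by
    rw [show c⁻¹ * g₀ * z * (c⁻¹ * g₀)⁻¹ = c⁻¹ * (g₀ * z * g₀⁻¹) * c by group, hg₀, hcz]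
  have hτg : c⁻¹ * g₀ * τ * (c⁻¹ * g₀)⁻¹ = τ' := by
    rw [show c⁻¹ * g₀ * τ * (c⁻¹ * g₀)⁻¹ = c⁻¹ * τ₁ * c by rw [hτ₁]; group, ← hcτ]; group
  set g₁ := c⁻¹ * g₀ with hg₁
  -- the images of the two generators
  have him : ∀ p ∈ m.EE, Commute z' (g₁ * p * g₁⁻¹) ∧ (g₁ * p * g₁⁻¹) ^ 3 = 1 ∧
      τ' * (g₁ * p * g₁⁻¹) * τ' = (g₁ * p * g₁⁻¹)⁻¹ := by
    intro p hp
    obtain ⟨h1, h2, h3⟩ := m.EE_props hp
    refine ⟨hzg ▸ (by simpa using h1.map (MulAut.conj g₁).toMonoidHom),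
      by rw [conj_pow, h2, mul_one, mul_inv_cancel], ?_⟩
    rw [← hτg, show g₁ * τ * g₁⁻¹ * (g₁ * p * g₁⁻¹) * (g₁ * τ * g₁⁻¹) = g₁ * (τ * p * τ) * g₁⁻¹ by group, h3]
    group
  obtain ⟨a1, a2, ha1, ha2, ea⟩ := (fun h => m'.five_rep h.1 h.2.1 h.2.2) (him _ m.a_mem)
  obtain ⟨b1, b2, hb1, hb2, eb⟩ := (fun h => m'.five_rep h.1 h.2.1 h.2.2) (him _ m.b_mem)
  have hcomm : Commute (g₁ * m.i₁ Um * g₁⁻¹) (g₁ * m.i₂ Um * g₁⁻¹) := by
    simpa using (m.comm Um Um).map (MulAut.conj g₁).toMonoidHom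
  rw [ea, eb] at hcomm
  have noneg : ∀ x ∈ five, ∀ y ∈ five, x * y ≠ ng * (y * x) := by decide +kernel
  obtain ⟨c1, c2⟩ := (m'.pair_comm hcomm).resolve_right fun k => noneg _ ha1 _ hb1 k.1
  have pick : ∀ x y : S2, (x * Um = Um * x ∧ y * Um = Um * y) ∨ (x * Lm = Lm * x ∧ y * Lm = Lm * y) →
      ∃ e : S2, (e = 1 ∨ e = Jm⁻¹) ∧ (e * x * e⁻¹) * Um = Um * (e * x * e⁻¹) ∧
        (e * y * e⁻¹) * Um = Um * (e * y * e⁻¹) := by
    rintro x y (⟨h1, h2⟩ | ⟨h1, h2⟩)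
    · exact ⟨1, Or.inl rfl, by simpa using h1, by simpa using h2⟩
    · exact ⟨Jm⁻¹, Or.inr rfl, by rw [inv_inv]; exact J_shift x h1, by rw [inv_inv]; exact J_shift y h2⟩
  obtain ⟨e, he, hea, heb⟩ := pick _ _ (five_pair _ ha1 _ hb1 c1)
  obtain ⟨f, hf, hfa, hfb⟩ := pick _ _ (five_pair _ ha2 _ hb2 c2)
  have cube5 : ∀ x ∈ five, x ^ 3 = 1 := by decide +kernel
  have key : ∀ e : S2, (e = 1 ∨ e = Jm⁻¹) → e * (dc e)⁻¹ = 1 ∨ e * (dc e)⁻¹ = ng := by decide +kernel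
  set k := m'.i₁ e * m'.i₂ f with hk
  have hkz : k * z' * k⁻¹ = z' := by rw [← (m'.mem_cent e f).eq, mul_inv_cancel_right]
  refine ⟨k * g₁, ?_, ?_, ?_⟩
  · rw [show k * g₁ * z * (k * g₁)⁻¹ = k * (g₁ * z * g₁⁻¹) * k⁻¹ by group, hzg, hkz]
  · rw [show k * g₁ * τ * (k * g₁)⁻¹ = k * (g₁ * τ * g₁⁻¹) * k⁻¹ by group, hτg, hk, m'.conj_tau]
    rcases key e he with h1 | h1 <;> rcases key f hf with h2 | h2 <;> rw [h1, h2]
    · left; simp
    · right; rw [map_one, one_mul, m'.neg₂]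
    · right; rw [map_one, mul_one, m'.neg₁]
    · left; rw [m'.neg₁, m'.neg₂, m'.zz, one_mul]
  · have conj3 : ∀ x : S2, x ^ 3 = 1 → ∀ e : S2, (e * x * e⁻¹) ^ 3 = 1 := fun x hx e => by
      rw [conj_pow, hx, mul_one, mul_inv_cancel]
    have hA : k * (g₁ * m.i₁ Um * g₁⁻¹) * k⁻¹ ∈ m'.EE := by
      rw [ea, hk, m'.inv_pair, m'.mul_pair, m'.mul_pair]
      exact m'.mem_EE_of_comm (conj3 _ (cube5 _ ha1) e) (conj3 _ (cube5 _ ha2) f) hea hfa
    have hB : k * (g₁ * m.i₂ Um * g₁⁻¹) * k⁻¹ ∈ m'.EE := by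
      rw [eb, hk, m'.inv_pair, m'.mul_pair, m'.mul_pair]
      exact m'.mem_EE_of_comm (conj3 _ (cube5 _ hb1) e) (conj3 _ (cube5 _ hb2) f) heb hfb
    intro p hp
    have hle : m.EE ≤ m'.EE.comap (MulAut.conj (k * g₁)).toMonoidHom :=
      m.EE_le (by
          show k * g₁ * m.i₁ Um * (k * g₁)⁻¹ ∈ m'.EE
          rwa [show k * g₁ * m.i₁ Um * (k * g₁)⁻¹ = k * (g₁ * m.i₁ Um * g₁⁻¹) * k⁻¹ by group])
        (by
          show k * g₁ * m.i₂ Um * (k * g₁)⁻¹ ∈ m'.EE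
          rwa [show k * g₁ * m.i₂ Um * (k * g₁)⁻¹ = k * (g₁ * m.i₂ Um * g₁⁻¹) * k⁻¹ by group])
    exact hle hp

omit [Finite G] in
/-- The centraliser of an element with two nontrivial coordinates. -/
theorem diag_cent {i j : Fin 3} (hi : i ≠ 0) (hj : j ≠ 0) {g : G} (hz : Commute z g)
    (hg : Commute (m.i₁ (Um ^ (i : ℕ)) * m.i₂ (Um ^ (j : ℕ))) g) :
    (g ^ 3 = 1 → τ * g * τ = g⁻¹ → g ∈ m.EE) ∧ (g * g = 1 → g = 1 ∨ g = z) := by
  obtain ⟨c, d, e | e⟩ := (m.cent g).1 hz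
  · rw [e] at hg
    obtain ⟨h1, h2⟩ := (m.pair_comm hg.symm).resolve_right fun k => (U_pow_gen c i hi).2 k.1
    have hc := (U_pow_gen c i hi).1 h1
    have hd := (U_pow_gen d j hj).1 h2
    constructor
    · intro h3 hinv
      obtain ⟨a, b, ha, hb, e'⟩ := m.cube_rep hz h3
      rw [e] at e'
      rcases m.pair_eq e' with ⟨rfl, rfl⟩ | ⟨u, v⟩
      · exact e ▸ m.mem_EE_of_comm ha hb hc hd
      · have ha' : a * Um = Um * a := by
          have : a = ng * c := by rw [u, ← mul_assoc, ng_sq, one_mul]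
          rw [this, mul_assoc, hc, ← mul_assoc, ng_central, mul_assoc]
        have hb' : b * Um = Um * b := by
          have : b = ng * d := by rw [v, ← mul_assoc, ng_sq, one_mul]
          rw [this, mul_assoc, hd, ← mul_assoc, ng_central, mul_assoc]
        rw [e, u, v, m.ng_pair₂]
        exact m.mem_EE_of_comm ha hb ha' hb'
    · intro h2'
      rw [e, m.mul_pair] at h2'
      have hh := m.ker _ _ h2'
      have hc' := sq_cent_U c hc (hh.imp (·.1) (·.1))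
      have hd' := sq_cent_U d hd (hh.imp (·.2) (·.2))
      rw [e]
      rcases hc' with rfl | rfl <;> rcases hd' with rfl | rfl
      · left; rw [map_one, map_one, one_mul]
      · right; rw [map_one, one_mul, m.neg₂]
      · right; rw [map_one, mul_one, m.neg₁]
      · left; rw [m.neg₁, m.neg₂, m.zz]
  · exfalso
    have h1 : g * (m.i₁ (Um ^ (i : ℕ)) * m.i₂ (Um ^ (j : ℕ))) =
        m.i₁ (Um ^ (i : ℕ)) * m.i₂ (Um ^ (j : ℕ)) * g := hg.eq.symm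
    rw [e, mul_assoc, m.tau_move, ← mul_assoc, m.mul_pair, ← mul_assoc, m.mul_pair, mul_left_inj] at h1
    rcases m.pair_eq h1 with ⟨u, -⟩ | ⟨u, -⟩
    · exact (U_pow_flip c i hi).1 u
    · exact (U_pow_flip c i hi).2 u

omit [Finite G] in
/-- An element inverted by `z` and fixed by `τ` that commutes with a frame determines the frame. -/
theorem frame_unique {x : G} (hx : Commute τ x) (hxi : z * x * z = x⁻¹) (hxo : x * x ≠ 1) (ha : Commute x m.a)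
    (hb : Commute x m.b) (hu : ∀ g, Commute τ g → Commute x g → g * g = 1 → g = 1 ∨ g = τ)
    {g : G} (hz : Commute z g) (h3 : g ^ 3 = 1) (hi : τ * g * τ = g⁻¹) (hg : Commute x g) : g ∈ m.EE := by
  obtain ⟨p, q, hp, hq, e⟩ := m.five_rep hz h3 hi
  have cube5 : ∀ x ∈ five, x ^ 3 = 1 := by decide +kernel
  have hU : Um ∈ five := by decide
  by_contra hne
  have hnc : ¬ (Um * p = p * Um ∧ Um * q = q * Um) := fun h => hne (e ▸
    m.mem_EE_of_comm (cube5 p hp) (cube5 q hq) h.1.symm h.2.symm)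
  have hbad := bad_word Um hU Um hU p hp q hq hnc
  set w := word (m.i₁ Um * m.i₂ Um) g with hw
  have hwe : w = m.i₁ (word Um p) * m.i₂ (word Um q) := by rw [hw, e, m.word_pair]
  have hab : Commute x (m.i₁ Um * m.i₂ Um) := ha.mul_right hb
  have hwx : Commute x w := by
    rw [hw, word]
    exact (((((hab.mul_right hg).mul_right hab).mul_right hg).mul_right hab.inv_right).mul_right hg).mul_right
      hab.inv_right
  have hwz : Commute z w := hwe ▸ m.mem_cent _ _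
  rcases bad_cases _ _ hbad with ⟨d1, d2, j1, j2⟩ | h
  · have hwt : Commute τ w := by
      show τ * w = w * τ
      rw [hwe, m.tau_move, d1, d2, m.ng_pair₂]
    rcases hu w hwt hwx (m.cent_four_invol hwz hwt) with h | h
    · rw [hwe] at h
      rcases m.ker _ _ h with ⟨u, -⟩ | ⟨u, -⟩
      exacts [(J_pm _ j1).1 u, (J_pm _ j1).2.1 u]
    · rw [hwe] at h
      exact m.out _ _ h
  · have h' := m.bad_move h
    rw [← hwe] at h'
    have hc : Commute x (z * τ) := h' ▸ (hwx.mul_right hx.symm).mul_right hwx.inv_right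
    have hz' : Commute x z := by
      have := hc.mul_right hx.symm
      rwa [mul_assoc, m.tt, mul_one] at this
    rw [← hz'.eq, mul_assoc, m.zz, mul_one] at hxi
    exact hxo (eq_inv_iff_mul_eq_one.1 hxi)

end Mdl

end Cfsg.Lib.GTwoType
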