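import Cfsg.Agent.Lib.GTwoType.Fixed

/-!
# The orders of the cores of all root elements agree

A root element has a core of order 243 as soon as one has, and a root element commuting with a frame
of order nine has one.
-/

set_option autoImplicit false

namespace Cfsg.Lib.GTwoType

open Subgroup Cfsg

variable {G : Type*} [Group G] [Finite G]

omit [Finite G] in
theorem sq_one_odd {x : G} (ho : Odd (orderOf x)) (h : x * x = 1) : x = 1 := by
  obtain ⟨k, hk⟩ := ho
  have := pow_orderOf_eq_one x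
  rwa [hk, pow_succ, pow_mul, pow_two, h, one_pow, one_mul] at this

omit [Finite G] in
theorem odd_of_cube {g : G} (h : g ^ 3 = 1) : Odd (orderOf g) :=
  (show Odd 3 by decide).of_dvd_nat (orderOf_dvd_of_pow_eq_one h)

theorem card_V_conj (g r : G) : Nat.card (V (g * r * g⁻¹)) = Nat.card (V r) := by
  refine le_antisymm ?_ ?_
  · refine Nat.card_le_card_of_injective (fun v => (⟨g⁻¹ * v * g, ?_⟩ : V r)) ?_
    · have := V_conj_le (g * r * g⁻¹) g⁻¹ v v.2
      simpa [mul_assoc] using this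
    · intro a b h
      exact Subtype.ext (mul_left_cancel (mul_right_cancel (congrArg Subtype.val h)))
  · refine Nat.card_le_card_of_injective (fun v => (⟨g * v * g⁻¹, V_conj_le r g v v.2⟩ : V (g * r * g⁻¹))) ?_
    intro a b h
    exact Subtype.ext (mul_left_cancel (mul_right_cancel (congrArg Subtype.val h)))

namespace Mdl

variable {z τ : G} (m : Mdl z τ)
include m

omit [Finite G] in
theorem root_or_diag {x : G} (hx : x ∈ m.EE) (h1 : x ≠ 1) :
    (∃ m' : Mdl z τ, m'.a = x) ∨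
      ∃ i j : Fin 3, i ≠ 0 ∧ j ≠ 0 ∧ x = m.i₁ (Um ^ (i : ℕ)) * m.i₂ (Um ^ (j : ℕ)) := by
  obtain ⟨i, j, rfl⟩ := hx
  have h2 : dcAut Um = Um ^ 2 := by decide +kernel
  have one : ∀ (m₀ : Mdl z τ) (k : Fin 3), k ≠ 0 → ∃ m' : Mdl z τ, m'.a = m₀.i₁ (Um ^ (k : ℕ)) := by
    intro m₀ k hk
    fin_cases k
    · exact absurd rfl hk
    · exact ⟨m₀, by simp⟩
    · exact ⟨m₀.reparam dcAut dcAut_ok.1 dcAut_ok.2, show m₀.i₁ (dcAut Um) = _ by rw [h2]⟩
  by_cases hi : i = 0
  · subst hi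
    have hj : j ≠ 0 := by rintro rfl; simp at h1
    obtain ⟨m', h⟩ := one m.swap j hj
    exact Or.inl ⟨m', h.trans (by simp [swap])⟩
  · by_cases hj : j = 0
    · subst hj
      obtain ⟨m', h⟩ := one m i hi
      exact Or.inl ⟨m', h.trans (by simp)⟩
    · exact Or.inr ⟨i, j, hi, hj, rfl⟩

omit [Finite G] in
theorem EE_le {K : Subgroup G} (ha : m.a ∈ K) (hb : m.b ∈ K) : m.EE ≤ K := by
  rintro _ ⟨i, j, rfl⟩
  rw [map_pow, map_pow]
  exact mul_mem (pow_mem ha _) (pow_mem hb _)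

theorem mem_T_of {g : G} (hc : Commute m.a g) (ho : Odd (orderOf g)) (hi : z * g * z = g⁻¹) (ht : Commute g τ) :
    g ∈ m.T :=
  m.mem_T.2 ⟨m.mem_V_of_inverted hc ho hi, ht⟩

/-- A root element of the second involution commuting with both root elements has a large core. -/
theorem root_step (hG : Ctx G) (m' : Mdl τ z) (ha : Commute m'.a m.a) (hb : Commute m'.a m.b) :
    Nat.card m'.T = 9 := by
  have h1 : m.a ∈ m'.T := m'.mem_T_of ha (odd_of_cube m.a_props.2.1) m.a_props.2.2 m.a_props.1.symm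
  have h2 : m.b ∈ m'.T := m'.mem_T_of hb (odd_of_cube m.b_props.2.1) m.b_props.2.2 m.b_props.1.symm
  have h9 := Nat.le_of_dvd Nat.card_pos (card_dvd_of_le (m.EE_le h1 h2))
  rw [m.card_EE] at h9
  rcases m'.card_T hG with e | e | e <;> omega

theorem TB_le_swap : m.TB ≤ m.swap.TB := fun x hx => by
  obtain ⟨h1, h2⟩ := m.mem_TB.1 hx
  obtain ⟨h3, h4⟩ := m.mem_T.1 h1
  exact m.swap.mem_TB.2 ⟨m.swap.mem_T_of h2.symm (odd_of_mem_V h3) (m.T_inverted h1) h4, V_comm h3⟩

theorem TB_swap : m.swap.TB = m.TB := le_antisymm m.swap.TB_le_swap m.TB_le_swap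

/-- The first root element does not centralise the core of the second. -/
theorem not_all_fixed (h : ∀ v ∈ V m.b, Commute v m.a) : m.swap.T = ⊥ := by
  rw [eq_bot_iff]
  intro x hx
  rw [mem_bot]
  obtain ⟨hxV, -⟩ := m.swap.mem_T.1 hx
  set j := m.i₁ Jm
  have hjb : Commute m.b j := (m.comm Jm Um).symm
  have h1 : ∀ v ∈ V m.b, Commute v (j * m.a * j⁻¹) := by
    intro v hv
    have hv' : j⁻¹ * v * j⁻¹⁻¹ ∈ V m.b := m.swap.V_conj_a hjb.inv_right hv
    have := (h _ hv').map (MulAut.conj j).toMonoidHom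
    simpa [mul_assoc] using this
  have hz : z = (m.a * (j * m.a * j⁻¹)) ^ 3 := by
    show z = (m.i₁ Um * (m.i₁ Jm * m.i₁ Um * (m.i₁ Jm)⁻¹)) ^ 3
    rw [← map_inv, ← map_mul, ← map_mul, ← map_mul, ← map_pow, UL_neg, m.neg₁]
  have hzx : Commute x z := hz ▸ ((h x hxV).mul_right (h1 x hxV)).pow_right 3
  have hi := m.swap.T_inverted hx
  rw [← hzx.eq, mul_assoc, m.zz, mul_one] at hi
  exact sq_one_odd (odd_of_mem_V hxV) (eq_inv_iff_mul_eq_one.1 hi)

/-- The second root element has a large core with the first. -/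
theorem T_nine_swap (hG : Ctx G) (h9 : Nat.card m.T = 9) : Nat.card m.swap.T = 9 := by
  by_contra hne
  have h1 : Nat.card m.TB ≤ Nat.card m.swap.T := Nat.le_of_dvd Nat.card_pos (card_dvd_of_le
    (m.TB_le_swap.trans inf_le_left))
  have h2 : Nat.card m.twist.TB ≤ Nat.card m.swap.T := by
    rw [← m.swap.card_U]
    exact Nat.le_of_dvd Nat.card_pos (card_dvd_of_le (m.twist.TB_le_swap.trans inf_le_left))
  have h3 := m.T_nine_KB hG h9
  have hle : Nat.card m.swap.T ≤ 3 := by rcases m.swap.card_T hG with e | e | e <;> omega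
  have e1 : Nat.card m.TB = Nat.card m.swap.T ∧ Nat.card m.twist.TB = Nat.card m.swap.T ∧
      Nat.card m.swap.T = 3 := by
    have a1 := h1.trans hle
    have a2 := h2.trans hle
    rcases (show Nat.card m.TB < 4 by omega), (show Nat.card m.twist.TB < 4 by omega) with ⟨b1, b2⟩
    interval_cases hh1 : Nat.card m.TB <;> interval_cases hh2 : Nat.card m.twist.TB <;> omega
  have f1 : m.swap.T ≤ centralizer ({m.a} : Set G) := by
    have : m.swap.TB = m.swap.T := eq_of_le_of_card_ge inf_le_left (by rw [m.TB_swap, e1.1])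
    exact this.ge.trans inf_le_right
  have f2 : m.swap.U ≤ centralizer ({m.a} : Set G) := by
    have : m.twist.swap.TB = m.twist.swap.T := eq_of_le_of_card_ge inf_le_left (by
      rw [m.twist.TB_swap, e1.2.1]
      exact le_of_eq m.swap.card_U)
    exact this.ge.trans inf_le_right
  have hbot := m.not_all_fixed fun v hv => by
    obtain ⟨c, hc, x, hx, -, y, hy, -, rfl⟩ :=
      m.swap.decomp le_rfl m.swap.a_mem_V (fun _ => m.swap.z_norm) (fun _ => m.swap.tau_norm) hv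
    obtain ⟨k, rfl⟩ := mem_zpowers_iff.1 hc
    exact (((m.a_b.symm).zpow_left k).mul_left (mem_centralizer_singleton_iff.1 (f1 hx))).mul_left
      (mem_centralizer_singleton_iff.1 (f2 hy))
  rw [hbot, card_bot] at e1
  omega

theorem T_nine_iff (hG : Ctx G) : Nat.card (V m.a) = 243 ↔ Nat.card m.T = 9 := by
  rw [m.card_V]
  rcases m.card_T hG with e | e | e <;> rw [e] <;> norm_num

/-- Root elements are conjugate to those of any coordinates, up to inversion. -/
theorem root_conj (hG : Ctx G) {z₀ τ₀ : G} (m₀ : Mdl z₀ τ₀) :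
    ∃ g : G, g * m.a * g⁻¹ = m₀.a ∨ g * m.a * g⁻¹ = m₀.a⁻¹ ∨ g * m.a * g⁻¹ = m₀.b ∨ g * m.a * g⁻¹ = m₀.b⁻¹ := by
  obtain ⟨g, hg⟩ := isConj_iff.1 (hG.one z z₀ m.orderOf_z m₀.orderOf_z)
  have hzr : Commute z₀ (g * m.a * g⁻¹) := hg ▸ (by simpa using m.a_props.1.map (MulAut.conj g).toMonoidHom)
  have hr3 : (g * m.a * g⁻¹) ^ 3 = 1 := by rw [conj_pow, m.a_props.2.1, mul_one, mul_inv_cancel]
  set w := g * m.i₂ Jm * g⁻¹ with hwdef
  have hzw : Commute z₀ w := hg ▸ (by
    simpa [hwdef] using (show Commute z (m.i₂ Jm) by simpa using m.mem_cent 1 Jm).map (MulAut.conj g).toMonoidHom)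
  have hww : w * w = z₀ := by
    rw [hwdef, ← hg, show g * m.i₂ Jm * g⁻¹ * (g * m.i₂ Jm * g⁻¹) = g * (m.i₂ Jm * m.i₂ Jm) * g⁻¹ by group,
      ← map_mul, J_sq, m.neg₂]
  have hrw : Commute w (g * m.a * g⁻¹) := by
    simpa [hwdef] using (m.comm Um Jm).symm.map (MulAut.conj g).toMonoidHom
  obtain ⟨x, y, hx, hy, hr⟩ := m₀.cube_rep hzr hr3
  have hr1 : g * m.a * g⁻¹ ≠ 1 := fun h => m.a_ne (by simpa using h)
  have h0 : x = 1 ∨ y = 1 := by
    by_contra hh
    push_neg at hh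
    obtain ⟨c, d, e | e⟩ := (m₀.cent w).1 hzw
    · rw [e, hr] at hrw
      have hzz : m₀.i₁ (c * c) * m₀.i₂ (d * d) = m₀.i₁ ng * m₀.i₂ 1 := by
        rw [map_one, mul_one, m₀.neg₁]
        refine Eq.trans ?_ hww
        rw [e, m₀.mul_pair]
      rcases m₀.pair_comm hrw with ⟨p, q⟩ | ⟨p, -⟩
      · rcases m₀.pair_eq hzz with ⟨u, -⟩ | ⟨-, u⟩
        · exact (quat_cent c x hx hh.1).1 p u
        · exact (quat_cent d y hy hh.2).1 q (by rw [u, mul_one])
      · exact (quat_cent c x hx hh.1).2 p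
    · have hzz : m₀.i₁ (c * dc c) * m₀.i₂ (d * dc d) = m₀.i₁ ng * m₀.i₂ 1 := by
        rw [map_one, mul_one, m₀.neg₁]
        refine Eq.trans ?_ hww
        rw [e, ← m₀.mul_pair, ← m₀.tau_pair]; group
      rcases m₀.pair_eq hzz with ⟨u, -⟩ | ⟨-, u⟩
      · exact twist_sq c u
      · exact twist_sq d (by rw [u, mul_one])
  have conj : ∀ (m' : Mdl z₀ τ₀) (t : S2), t ^ 3 = 1 → t ≠ 1 →
      ∃ k : G, k * m'.i₁ t * k⁻¹ = m'.a ∨ k * m'.i₁ t * k⁻¹ = m'.a⁻¹ := by
    intro m' t ht ht1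
    obtain ⟨c, rfl | rfl⟩ := three_class t ht ht1
    · exact ⟨m'.i₁ c⁻¹, Or.inl (by rw [map_inv, inv_inv, map_mul, map_mul, map_inv]; group)⟩
    · exact ⟨m'.i₁ c⁻¹, Or.inr (by rw [map_inv, inv_inv, map_mul, map_mul, map_inv, map_inv]; group)⟩
  have shift : ∀ (k t : G), k * g * m.a * (k * g)⁻¹ = k * (g * m.a * g⁻¹) * k⁻¹ := fun k t => by group
  rcases h0 with rfl | rfl
  · rw [map_one, one_mul] at hr
    have hy1 : y ≠ 1 := fun h => hr1 (by rw [hr, h, map_one])
    obtain ⟨k, hk⟩ := conj m₀.swap y hy hy1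
    refine ⟨k * g, ?_⟩
    rw [shift k k, hr]
    rcases hk with h | h
    exacts [Or.inr (Or.inr (Or.inl h)), Or.inr (Or.inr (Or.inr h))]
  · rw [map_one, mul_one] at hr
    have hx1 : x ≠ 1 := fun h => hr1 (by rw [hr, h, map_one])
    obtain ⟨k, hk⟩ := conj m₀ x hx hx1
    refine ⟨k * g, ?_⟩
    rw [shift k k, hr]
    rcases hk with h | h
    exacts [Or.inl h, Or.inr (Or.inl h)]

/-- One large core makes all cores large. -/
theorem nine_all (hG : Ctx G) {z₀ τ₀ : G} (m₀ : Mdl z₀ τ₀) (h : Nat.card m₀.T = 9) : Nat.card m.T = 9 := by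
  have ha := (m₀.T_nine_iff hG).2 h
  have hb := (m₀.swap.T_nine_iff hG).2 (m₀.T_nine_swap hG h)
  rw [← m.T_nine_iff hG]
  obtain ⟨g, hg⟩ := m.root_conj hG m₀
  rw [← card_V_conj g]
  rcases hg with e | e | e | e <;> rw [e]
  · exact ha
  · rw [V_inv]; exact ha
  · exact hb
  · rw [V_inv]; exact hb

end Mdl

end Cfsg.Lib.GTwoType
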